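import Groth.Agent.RDPChain13.ChildExists
import Groth.Agent.Resolve13.LocalBase
import Groth.Agent.Resolve13.RatModif
import Groth.Agent.FlatMorAdm.BlowUpProj
import Groth.Agent.Models7.PointExceptional
import Groth.Agent.RelVALib.Finite

/-! Resolving isolated singular points one after another. -/

set_option autoImplicit false
set_option backward.isDefEq.respectTransparency.types false
set_option linter.style.haveILetI false

universe u

open CategoryTheory CategoryTheory.Limits AlgebraicGeometry TopologicalSpace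

namespace Groth.Agent.RDPChain13

/-- `h` resolves the points outside `U` and is an isomorphism over `U`. -/
structure ResolvesOff {Y Y' : Scheme.{u}} (h : Y' ⟶ Y) (U : Y.Opens) : Prop where
  int : IsIntegral Y'
  proj : RelProj.IsProjective h
  iso : IsIso (h ∣_ U)
  reg : ∀ w : Y', h w ∉ U → IsRegularLocalRing (Y'.presheaf.stalk w)

/-- Every closed point with local ring isomorphic to `A` can be resolved by a modification. -/
def Resolvable (A : Type u) [CommRing A] : Prop :=
  ∀ (Y : Scheme.{u}) [IsIntegral Y] [AlgebraicGeometry.IsNoetherian Y] (y : Y) (hy : IsClosed ({y} : Set Y)),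
    Nonempty (Y.presheaf.stalk y ≃+* A) →
      ∃ (Y' : Scheme.{u}) (h : Y' ⟶ Y), ResolvesOff h ⟨({y} : Set Y)ᶜ, hy.isOpen_compl⟩

variable {Y Y' : Scheme.{u}}

theorem isIso_restrict_of_le (h : Y' ⟶ Y) {U V : Y.Opens} [IsIso (h ∣_ U)] (hle : V ≤ U) : IsIso (h ∣_ V) := by
  have e : U.ι ''ᵁ U.ι ⁻¹ᵁ V = V := by
    rw [Scheme.Hom.image_preimage_eq_opensRange_inf, Scheme.Opens.opensRange_ι]
    exact inf_eq_right.2 hle
  have h1 : IsIso (h ∣_ U ∣_ (U.ι ⁻¹ᵁ V)) := inferInstance
  rw [← MorphismProperty.isomorphisms.iff (f := h ∣_ V)]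
  rw [← MorphismProperty.isomorphisms.iff,
    (MorphismProperty.isomorphisms Scheme).arrow_mk_iso_iff (morphismRestrictRestrict h U (U.ι ⁻¹ᵁ V))] at h1
  rwa [e] at h1

theorem isIso_stalkMap (h : Y' ⟶ Y) (U : Y.Opens) [IsIso (h ∣_ U)] (w : Y') (hw : h w ∈ U) :
    IsIso (h.stalkMap w) := by
  have h1 : IsIso ((h ∣_ U).stalkMap ⟨w, hw⟩) := inferInstance
  exact ((MorphismProperty.isomorphisms CommRingCat).arrow_mk_iso_iff
    (morphismRestrictStalkMap h U ⟨w, hw⟩)).1 h1

theorem isRegular_stalk_iff_of_isIso (h : Y' ⟶ Y) (w : Y') [IsIso (h.stalkMap w)]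
    [IsRegularLocalRing (Y.presheaf.stalk (h w))] : IsRegularLocalRing (Y'.presheaf.stalk w) :=
  IsRegularLocalRing.of_ringEquiv (asIso (h.stalkMap w)).commRingCatIsoToRingEquiv

theorem isNoetherian_of_proper (h : Y' ⟶ Y) [IsProper h] [AlgebraicGeometry.IsNoetherian Y] :
    AlgebraicGeometry.IsNoetherian Y' := by
  haveI : IsLocallyNoetherian Y' := LocallyOfFiniteType.isLocallyNoetherian h
  haveI : CompactSpace Y' := QuasiCompact.compactSpace_of_compactSpace h
  exact {}

theorem genericPoint_eq [IsIntegral Y] [IsIntegral Y'] (h : Y' ⟶ Y) (U : Y.Opens) [IsIso (h ∣_ U)]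
    (hU : genericPoint Y ∈ U) : h (genericPoint Y') = genericPoint Y :=
  (Coherent.birational_of_isIso_morphismRestrict h U ⟨_, hU⟩).1

theorem isClosed_finset {X : Type*} [TopologicalSpace X] (s : Finset X) (hs : ∀ y ∈ s, IsClosed ({y} : Set X)) :
    IsClosed (s : Set X) := by
  rw [← Set.biUnion_of_singleton (s : Set X)]
  exact s.finite_toSet.isClosed_biUnion hs

/-- Resolvable points are resolved one at a time. -/
theorem resolve_finset (n : ℕ) : ∀ (Y : Scheme.{u}) [IsIntegral Y] [AlgebraicGeometry.IsNoetherian Y] (s : Finset Y)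
    (hs : ∀ y ∈ s, IsClosed ({y} : Set Y)), s.card = n →
    (∀ y ∈ s, ∃ (A : Type u) (_ : CommRing A), Resolvable A ∧ Nonempty (Y.presheaf.stalk y ≃+* A)) →
    ∃ (Y' : Scheme.{u}) (h : Y' ⟶ Y), ResolvesOff h ⟨(s : Set Y)ᶜ, (isClosed_finset s hs).isOpen_compl⟩ := by
  induction n with
  | zero =>
    intro Y _ _ s hs hcard hres
    refine ⟨Y, 𝟙 Y, inferInstance, RelVALib.isProjective_of_isFinite _, inferInstance, fun w hw => ?_⟩
    exact absurd (show w ∈ (s : Set Y)ᶜ by rw [Finset.card_eq_zero.1 hcard]; simp) hw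
  | succ n ih =>
    intro Y _ _ s hs hcard hres
    classical
    obtain ⟨y, hys⟩ := Finset.card_pos.1 (by omega : 0 < s.card)
    obtain ⟨A, _, hA, he⟩ := hres y hys
    obtain ⟨Y1, h1, hr1⟩ := hA Y y (hs y hys) he
    haveI := hr1.int; haveI := hr1.iso
    haveI := RelVALib.isProper_of_isProjective hr1.proj
    haveI := isNoetherian_of_proper h1
    let U1 : Y.Opens := ⟨({y} : Set Y)ᶜ, (hs y hys).isOpen_compl⟩
    have hpre : ∀ z ∈ s.erase y, ∃! w : Y1, h1 w = z := fun z hz => by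
      have hzU : z ∈ U1 := (Finset.mem_erase.1 hz).1
      obtain ⟨⟨w, hw⟩, hwz⟩ := (h1 ∣_ U1).homeomorph.surjective ⟨z, hzU⟩
      have hwz' : h1 w = z := ((morphismRestrict_base_coe h1 U1 ⟨w, hw⟩).symm.trans (congrArg Subtype.val hwz))
      refine ⟨w, hwz', fun w' hw' => ?_⟩
      have m' : w' ∈ h1 ⁻¹ᵁ U1 := show h1 w' ∈ U1 from hw'.symm ▸ hzU
      have : (h1 ∣_ U1) ⟨w', m'⟩ = (h1 ∣_ U1) ⟨w, hw⟩ := Subtype.ext
        (((morphismRestrict_base_coe h1 U1 _).trans (hw'.trans hwz'.symm)).trans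
          (morphismRestrict_base_coe h1 U1 _).symm)
      exact congrArg Subtype.val ((h1 ∣_ U1).homeomorph.injective this)
    choose g hg hguniq using hpre
    let s1 : Finset Y1 := (s.erase y).attach.image fun z => g z.1 z.2
    have hs1mem : ∀ w, w ∈ s1 ↔ h1 w ∈ s.erase y := fun w => by
      simp only [s1, Finset.mem_image, Finset.mem_attach, true_and]
      refine ⟨?_, fun hw => ⟨⟨_, hw⟩, (hguniq _ hw w rfl).symm⟩⟩
      rintro ⟨⟨z, hz⟩, rfl⟩
      have := hg z hz
      simp only at this ⊢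
      rw [this]; exact hz
    have hcard1 : s1.card = n := by
      rw [Finset.card_image_of_injective _ (fun a b hab => Subtype.ext ((hg _ a.2).symm.trans
        ((congrArg (fun w : Y1 => h1 w) hab).trans (hg _ b.2)))), Finset.card_attach, Finset.card_erase_of_mem hys, hcard,
        Nat.add_sub_cancel]
    have hcl1 : ∀ w ∈ s1, IsClosed ({w} : Set Y1) := fun w hw => by
      have hw' := (hs1mem w).1 hw
      have : ({w} : Set Y1) = h1 ⁻¹' {h1 w} := Set.ext fun w' =>
        ⟨fun hh => by rw [Set.mem_singleton_iff.1 hh]; rfl,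
          fun hh => (hguniq _ hw' w' hh).trans (hguniq _ hw' w rfl).symm⟩
      rw [this]
      exact (hs _ (Finset.mem_of_mem_erase hw')).preimage h1.continuous
    obtain ⟨Y2, h2, hr2⟩ := ih Y1 s1 hcl1 hcard1 fun w hw => by
      have hw' := (hs1mem w).1 hw
      obtain ⟨B, _, hB, ⟨e⟩⟩ := hres _ (Finset.mem_of_mem_erase hw')
      haveI := isIso_stalkMap h1 U1 w (Finset.mem_erase.1 hw').1
      exact ⟨B, inferInstance, hB, ⟨(asIso (h1.stalkMap w)).commRingCatIsoToRingEquiv.symm.trans e⟩⟩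
    haveI := hr2.int
    refine ⟨Y2, h2 ≫ h1, hr2.int, FlatMorAdm.isProjective_comp h2 h1 hr2.proj hr1.proj, ?_, fun w hw => ?_⟩
    · set U : Y.Opens := ⟨(s : Set Y)ᶜ, (isClosed_finset s hs).isOpen_compl⟩
      rw [morphismRestrict_comp]
      haveI : IsIso (h1 ∣_ U) := isIso_restrict_of_le h1 (U := U1) fun z hz hzy =>
        hz (by rw [Set.mem_singleton_iff.1 hzy]; exact hys)
      haveI := hr2.iso
      haveI : IsIso (h2 ∣_ (h1 ⁻¹ᵁ U)) := isIso_restrict_of_le h2
        (U := ⟨(s1 : Set Y1)ᶜ, (isClosed_finset s1 hcl1).isOpen_compl⟩) fun z hz hzs =>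
        hz (Finset.mem_of_mem_erase ((hs1mem z).1 hzs))
      exact IsIso.comp_isIso' ‹_› ‹_›
    · by_cases h : h2 w ∈ s1
      · exact hr2.reg w fun hh => hh h
      · have hy' : h1 (h2 w) = y := by
          by_contra hne
          exact h ((hs1mem _).2 (Finset.mem_erase.2 ⟨hne, not_not.1 hw⟩))
        haveI := hr1.reg (h2 w) fun hh => hh hy'
        haveI := hr2.iso
        haveI := isIso_stalkMap h2 _ w (show h2 w ∈ (⟨(s1 : Set Y1)ᶜ, (isClosed_finset s1 hcl1).isOpen_compl⟩ : Y1.Opens) from h)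
        exact isRegular_stalk_iff_of_isIso h2 w

theorem ne_genericPoint [IsIntegral Y] {y : Y} (hy : ¬ IsRegularLocalRing (Y.presheaf.stalk y)) : y ≠ genericPoint Y :=
  fun h => by subst h; exact hy (inferInstanceAs (IsRegularLocalRing Y.functionField))

/-- If all the children of `A` are resolvable then so is `A`. -/
theorem resolvable_of_children {A : Type u} [CommRing A] [IsLocalRing A] [IsDomain A] [IsNoetherianRing A]
    [IsIntegrallyClosed A] (hA : Good A) (hnreg : ¬ IsRegularLocalRing A)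
    (hch : ∀ (L : Type u) [CommRing L] [IsLocalRing L] (φ : A →+* L), Good L → ¬ IsRegularLocalRing L → Child φ →
      Resolvable L) : Resolvable A := by
  intro Y _ _ y hy ⟨e⟩
  classical
  have hy0 : y ≠ genericPoint Y := ne_genericPoint fun h => hnreg (IsRegularLocalRing.of_ringEquiv e)
  let I := Scheme.IdealSheafData.vanishingIdeal ⟨{y}, hy⟩
  have hη : genericPoint Y ∈ I.support.compl := Resolve13.point_support_ne y hy hy0
  obtain ⟨Y1, b, hb⟩ := BlowUpLib.exists_isBlowUp (X := Y) (I := I)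
  haveI : IsIntegral Y1 := Resolve13.isIntegral_blowUp hb hη
  have hft := FlatMorAdm.isFiniteTypeIdeal_of_noetherian I
  haveI : IsProper b := BlowUpLib.isProper_of_isBlowUp hb hft
  haveI := isNoetherian_of_proper b
  let U : Y.Opens := ⟨({y} : Set Y)ᶜ, hy.isOpen_compl⟩
  have hU : I.support.compl = U :=
    Opens.ext (congrArg Compl.compl (Scheme.IdealSheafData.coe_support_vanishingIdeal _))
  haveI hbU : IsIso (b ∣_ U) := hU ▸ SDiv28.isIso_off_center hb
  let e' : CommRingCat.of A ≅ Y.presheaf.stalk y := e.symm.toCommRingCatIso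
  let s : Spec (CommRingCat.of A) ⟶ Y := Spec.map e'.inv ≫ Y.fromSpecStalk y
  have hbP : BlowUp.IsBlowUp (pullback.fst s b) (Curv2.idealSheaf A (IsLocalRing.maximalIdeal A)) := by
    obtain ⟨V, hV, hyV, -⟩ := exists_isAffineOpen_mem_and_subset (x := y) (U := ⊤) trivial
    let γ : Γ(Y, V) →+* A := e.toRingHom.comp (Y.presheaf.germ V y hyV).hom
    have hs : s = Spec.map (CommRingCat.ofHom γ) ≫ hV.fromSpec := by
      simp only [s, ← hV.fromSpecStalk_eq_fromSpecStalk hyV, IsAffineOpen.fromSpecStalk]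
      rw [← Category.assoc, ← Spec.map_comp]
      rfl
    have hI : I.comap s = Curv2.idealSheaf A (IsLocalRing.maximalIdeal A) := by
      rw [hs, Scheme.IdealSheafData.comap_comp, BlowUpLib.comap_fromSpec_eq I ⟨V, hV⟩]
      have h1 := Resolve13.RatExt.idealSheaf_comap_comp γ (𝟙 _) (I.ideal ⟨V, hV⟩)
      rw [Category.id_comp, Scheme.IdealSheafData.comap_id] at h1
      refine h1.trans (congrArg (Curv2.idealSheaf A) ?_)
      rw [← Ideal.map_map, ← Misc15.DivDescent.stk_eq I ⟨V, hV⟩ hyV, Models7.stk_vanishingIdeal_point y hy]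
      exact IsLocalRing.map_ringEquiv_maximalIdeal e
    exact hI ▸ SDiv28.isBlowUp_flat_baseChange hb s
  let ψ : pullback b s ⟶ pullback b (Y.fromSpecStalk y) :=
    pullback.map b s b (Y.fromSpecStalk y) (𝟙 _) (Spec.map e'.inv) (𝟙 _) (by simp) (by simp [s])
  haveI : IsIso (Spec.map e'.inv) := inferInstance
  haveI hψ : IsIso ψ := by dsimp only [ψ]; infer_instance
  let p : pullback s b ⟶ Y1 := ((pullbackSymmetry s b).hom ≫ ψ) ≫ pullback.fst b (Y.fromSpecStalk y)
  have hstalk : ∀ t, IsIso (p.stalkMap t) := fun t => by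
    haveI := Props12.isIso_stalkMap_fst b y (((pullbackSymmetry s b).hom ≫ ψ) t)
    show IsIso ((((pullbackSymmetry s b).hom ≫ ψ) ≫ pullback.fst b (Y.fromSpecStalk y)).stalkMap t)
    rw [Scheme.Hom.stalkMap_comp]
    haveI : IsIso ((pullbackSymmetry s b).hom ≫ ψ) := IsIso.comp_isIso' inferInstance hψ
    haveI : IsIso (((pullbackSymmetry s b).hom ≫ ψ).stalkMap t) := inferInstance
    exact IsIso.comp_isIso' ‹_› ‹_›
  have hrange : ∀ w : Y1, b w ⤳ y → w ∈ Set.range p := fun w hw => by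
    obtain ⟨t, ht⟩ := Resolve13.LocalBase.mem_range_fst b y hw
    obtain ⟨t', ht'⟩ := ((pullbackSymmetry s b).hom ≫ ψ).homeomorph.surjective t
    exact ⟨t', by rw [← ht]; exact congrArg (pullback.fst b (Y.fromSpecStalk y)) ht'⟩
  have hemb : IsPreimmersion p := by
    haveI : IsPreimmersion (pullback.fst b (Y.fromSpecStalk y)) := MorphismProperty.pullback_fst _ _ inferInstance
    infer_instance
  have hsing : ∀ w : Y1, b w = y → ¬ IsRegularLocalRing (Y1.presheaf.stalk w) →
      ∃ t, p t = w ∧ ¬ IsRegularLocalRing ((pullback s b).presheaf.stalk t) := fun w hw hwr => by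
    obtain ⟨t, rfl⟩ := hrange w (hw ▸ specializes_rfl)
    haveI := hstalk t
    exact ⟨t, rfl, fun h => hwr (IsRegularLocalRing.of_ringEquiv (asIso (p.stalkMap t)).commRingCatIsoToRingEquiv.symm)⟩
  have hfin : {w : Y1 | b w = y ∧ ¬ IsRegularLocalRing (Y1.presheaf.stalk w)}.Finite :=
    ((finite_singular hA _ hbP).image p).subset fun w hw => by
      obtain ⟨t, ht, htr⟩ := hsing w hw.1 hw.2
      exact ⟨t, htr, ht⟩
  have hcl : ∀ w ∈ hfin.toFinset, IsClosed ({w} : Set Y1) := fun w hw => by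
    obtain ⟨hwy, hwr⟩ := hfin.mem_toFinset.1 hw
    obtain ⟨t, rfl, htr⟩ := hsing w hwy hwr
    refine isClosed_of_closure_subset fun z hz => ?_
    have hspec : p t ⤳ z := specializes_iff_mem_closure.2 hz
    have hzy : b z = y := Set.mem_singleton_iff.1
      ((hwy ▸ hspec.map b.continuous : y ⤳ b z).mem_closed hy rfl)
    obtain ⟨t', rfl⟩ := hrange z (hzy ▸ specializes_rfl)
    have h3 : t ⤳ t' := p.isEmbedding.isInducing.specializes_iff.1 hspec
    rw [Set.mem_singleton_iff.1 (h3.mem_closed (isClosed_of_singular hA _ hbP htr) rfl)]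
    rfl
  obtain ⟨Y2, h2, hr2⟩ := resolve_finset _ Y1 hfin.toFinset hcl rfl fun w hw => by
    obtain ⟨hwy, hwr⟩ := hfin.mem_toFinset.1 hw
    obtain ⟨t, rfl, htr⟩ := hsing w hwy hwr
    obtain ⟨L, _, _, φ, hL, hLn, hLc, ⟨eL⟩⟩ := exists_child hA _ hbP htr
    haveI := hstalk t
    exact ⟨L, inferInstance, hch L φ hL hLn hLc, ⟨(asIso (p.stalkMap t)).commRingCatIsoToRingEquiv.trans eL⟩⟩
  haveI := hr2.int
  refine ⟨Y2, h2 ≫ b, hr2.int, FlatMorAdm.isProjective_comp h2 b hr2.proj (FlatMorAdm.isProjective_blowUp hft hb), ?_,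
    fun w hw => ?_⟩
  · rw [morphismRestrict_comp]
    haveI := hr2.iso
    haveI : IsIso (h2 ∣_ (b ⁻¹ᵁ U)) := isIso_restrict_of_le h2
      (U := ⟨(hfin.toFinset : Set Y1)ᶜ, (isClosed_finset _ hcl).isOpen_compl⟩) fun z hz hzs =>
      hz (Set.mem_singleton_iff.2 (hfin.mem_toFinset.1 hzs).1)
    exact IsIso.comp_isIso' ‹_› hbU
  · by_cases h : h2 w ∈ hfin.toFinset
    · exact hr2.reg w fun hh => hh h
    · have hbw : b (h2 w) = y := not_not.1 hw
      haveI : IsRegularLocalRing (Y1.presheaf.stalk (h2 w)) := not_not.1 fun hr => h (hfin.mem_toFinset.2 ⟨hbw, hr⟩)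
      haveI := hr2.iso
      haveI := isIso_stalkMap h2 _ w
        (show h2 w ∈ (⟨(hfin.toFinset : Set Y1)ᶜ, (isClosed_finset _ hcl).isOpen_compl⟩ : Y1.Opens) from h)
      exact isRegular_stalk_iff_of_isIso h2 w

/-- A ring of the sequence. -/
structure Bad where
  R : Type u
  [ring : CommRing R]
  [loc : IsLocalRing R]
  good : Good R
  nreg : ¬ IsRegularLocalRing R
  nres : ¬ Resolvable R

attribute [instance] Bad.ring Bad.loc

theorem Bad.exists_next (S : Bad.{u}) : ∃ (T : Bad.{u}) (φ : S.R →+* T.R), Child φ := by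
  haveI := S.good.dom; haveI := S.good.noeth; haveI := S.good.normal
  by_contra h
  push Not at h
  refine S.nres (resolvable_of_children S.good S.nreg fun L _ _ φ hL hLn hc => ?_)
  by_contra hr
  exact h ⟨L, hL, hLn, hr⟩ φ hc

end Groth.Agent.RDPChain13
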