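import Groth.Agent.S1274
import Groth.Agent.S7320
import Groth.Agent.S1622
import Groth.Agent.Resolve13.CompletionRat
import Groth.Agent.Resolve13.CurveBlowUp
import Groth.Agent.FlatMorAdm.Descend
import Groth.Agent.DimLib.ProjDim
import Groth.Agent.Models7.PointBlowUpIso
import Groth.Agent.S1650
import Groth.Agent.RDPChain13.Resolvable
import Groth.Agent.BlowUpLib.Proper
import Groth.Agent.BlowUpLib.Exists

/-! A resolution of a normal surface singularity can be chosen to be an admissible blow-up. -/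

set_option autoImplicit false
set_option backward.isDefEq.respectTransparency.types false
set_option linter.style.haveILetI false

universe u

open CategoryTheory CategoryTheory.Limits AlgebraicGeometry TopologicalSpace

namespace Groth.Agent.RDPChain13

open Resolve13

variable {X Y : Scheme.{u}}

theorem isFiniteTypeIdeal_of_noetherian [IsLocallyNoetherian X] (I : X.IdealSheafData) :
    BlowUp.IsFiniteTypeIdeal I := fun U => by
  haveI := IsLocallyNoetherian.component_noetherian (X := X) U
  exact (I.ideal U).fg_of_isNoetherianRing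

theorem isBlowUp_id {D : X.IdealSheafData} (hD : BlowUp.IsEffCartierIdeal D) : BlowUp.IsBlowUp (𝟙 X) D :=
  ⟨by rwa [Scheme.IdealSheafData.comap_id], fun _ g _ => ⟨g, Category.comp_id g, fun _ h => by simpa using h⟩⟩

set_option maxHeartbeats 1000000 in
/-- A proper birational morphism to a normal surface is an isomorphism off finitely many closed points of dimension
two. -/
theorem exists_finite_iso_off (f : X ⟶ Y) [IsIntegral X] [IsIntegral Y] [AlgebraicGeometry.IsNoetherian Y]
    [IsProper f] (hn : Pi1.IsNormalScheme Y) (hd : ∀ y : Y, ringKrullDim (Y.presheaf.stalk y) ≤ 2)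
    (hξ : f (genericPoint X) = genericPoint Y) (hb : Function.Bijective (f.stalkMap (genericPoint X))) :
    ∃ (T : Set Y) (hTc : IsClosed T), T.Finite ∧
      (∀ y ∈ T, IsClosed ({y} : Set Y) ∧ ringKrullDim (Y.presheaf.stalk y) = 2) ∧
      IsIso (f ∣_ (⟨Tᶜ, hTc.isOpen_compl⟩ : Y.Opens)) := by
  have happ : ∀ V, IsIso (f.app V) := fun V =>
    Coherent.isIso_app_of_birational f hn hξ ((ConcreteCategory.isIso_iff_bijective _).2 hb) V
  obtain ⟨E, hEf, hEc, hE⟩ := Modification.exists_finite_exceptional f hξ hb hd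
  let T : Set Y := {y ∈ E | ¬ ringKrullDim (Y.presheaf.stalk y) ≤ 1}
  have hTE : T ⊆ E := fun y hy => hy.1
  have hTf : T.Finite := hEf.subset hTE
  have hTc : IsClosed T := by
    rw [← Set.biUnion_of_singleton T]
    exact hTf.isClosed_biUnion fun y hy => hEc y (hTE hy)
  refine ⟨T, hTc, hTf, fun y hy => ⟨hEc y (hTE hy), ?_⟩, ?_⟩
  · haveI : IsNoetherianRing (Y.presheaf.stalk y) := inferInstance
    obtain ⟨d, hd'⟩ := CAlgH3.exists_nat_eq_of_le_spanFinrank
      (ringKrullDim_le_spanFinrank_maximalIdeal (R := Y.presheaf.stalk y))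
    have h1 := hd y
    have h2 := hy.2
    rw [hd'] at h1 h2 ⊢
    have : d ≤ 2 := by exact_mod_cast h1
    have : ¬ d ≤ 1 := fun h => h2 (by exact_mod_cast h)
    exact_mod_cast (by omega : d = 2)
  let P : Y.Opens := ⟨Tᶜ, hTc.isOpen_compl⟩
  let g := f ∣_ P
  haveI : IsProper g := inferInstance
  haveI : LocallyQuasiFinite g := by
    refine LocallyQuasiFinite.of_finite_preimage_singleton g fun y => ?_
    haveI : LocallyOfFiniteType (f.fiberToSpecResidueField y.1) :=
      (inferInstance : LocallyOfFiniteType (Limits.pullback.snd f (Y.fromSpecResidueField y.1)))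
    haveI : IsLocallyNoetherian (f.fiber y.1) :=
      LocallyOfFiniteType.isLocallyNoetherian (f.fiberToSpecResidueField y.1)
    haveI : AlgebraicGeometry.IsNoetherian (f.fiber y.1) := { }
    have h0 : topologicalKrullDim ↥(f.fiber y.1) ≤ 0 := by
      by_cases hyE : y.1 ∈ E
      · have h1 : ringKrullDim (Y.presheaf.stalk y.1) ≤ 1 := not_not.1 fun h => y.2 ⟨hyE, h⟩
        have hmem : ∀ z, f (f.fiberι y.1 z) = y.1 := fun z => (f.range_fiberι y.1).le ⟨z, rfl⟩
        refine Modification.dim_le_zero fun a b hab => (f.fiberι y.1).isEmbedding.injective ?_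
        by_cases hη : y.1 = genericPoint Y
        · rw [Modification.eq_genericPoint f hξ hb _ ((hmem a).trans hη),
            Modification.eq_genericPoint f hξ hb _ ((hmem b).trans hη)]
        · exact Coherent.eq_of_specializes_of_dim_le_one f hξ hb y.1 hη h1 _ _ (hmem a) (hmem b)
            (hab.map (f.fiberι y.1).continuous)
      · exact hE y.1 hyE
    have hfin : (f ⁻¹' {y.1}).Finite := by
      have hd0 : topologicalKrullDim (Set.univ : Set ↥(f.fiber y.1)) ≤ 0 := by
        rwa [(Homeomorph.Set.univ _).isHomeomorph.topologicalKrullDim_eq]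
      have := ((CommAlg4.finite_and_isClosed_singleton_of_dim_le_zero isClosed_univ hd0).1).image (f.fiberι y.1)
      rwa [Set.image_univ, f.range_fiberι] at this
    refine (hfin.preimage (f := fun z : ↥(f ⁻¹ᵁ P) => (z.1 : X)) Subtype.val_injective.injOn).subset fun z hz => ?_
    show f z.1 = y.1
    rw [← morphismRestrict_base_coe f P z, show g z = y from hz]
  haveI : IsFinite g := (IsFinite.iff_isProper_and_locallyQuasiFinite g).2 ⟨inferInstance, inferInstance⟩
  refine (IsZariskiLocalAtTarget.iff_of_iSup_eq_top (P := MorphismProperty.isomorphisms Scheme)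
    (fun V : P.toScheme.affineOpens => (V : P.toScheme.Opens)) (iSup_affineOpens_eq_top P.toScheme)).2 fun V => ?_
  show IsIso (g ∣_ V.1)
  exact (isIso_morphismRestrict_iff_isIso_app (f := g) V.2).2 (CompletionRat.isIso_app_restrict f P V.1 (happ _))

/-- An admissible centre misses the generic point. -/
theorem genericPoint_mem_compl [IsIntegral X] {U : X.Opens} (hU : (U : Set X).Nonempty) {I : X.IdealSheafData}
    (hI : BlowUp.IsAdmissibleFor U I) : genericPoint X ∈ I.support.compl := fun h =>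
  Set.disjoint_left.1 hI.2 h (((genericPoint_spec X).mem_open_set_iff U.2).2 (by simpa using hU))

set_option maxHeartbeats 1000000 in
/-- A modification dominated by an admissible blow-up: the dominating map is a blow-up. -/
theorem isBlowUp_of_comp {S Z W : Scheme.{u}} {I : S.IdealSheafData} {b : W ⟶ S} (hb : BlowUp.IsBlowUp b I)
    (g : Z ⟶ S) [IsSeparated g] (U : S.Opens) (hIU : Disjoint (I.support : Set S) (U : Set S))
    [IsIso (g ∣_ I.support.compl)] {h : W ⟶ Z} (hh : h ≫ g = b) : BlowUp.IsBlowUp h (I.comap g) := by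
  refine ⟨by rw [← Scheme.IdealSheafData.comap_comp, hh]; exact hb.1, fun T q hq => ?_⟩
  have hq' : BlowUp.IsEffCartierIdeal (I.comap (q ≫ g)) := by rwa [Scheme.IdealSheafData.comap_comp]
  obtain ⟨w, hw, huniq⟩ := hb.2 T (q ≫ g) hq'
  refine ⟨w, ?_, fun w' hw' => huniq w' (by dsimp only at hw' ⊢; rw [← hw', ← hh, Category.assoc])⟩
  dsimp only at hw ⊢
  let V : T.Opens := (q ≫ g) ⁻¹ᵁ I.support.compl
  have hV : ModPairLib.IsDenseOpen V := by
    have := ModPairLib.isDenseOpen_interior hq'
    rwa [ModPairLib.interior_comap] at this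
  have e1 : (w ≫ h) ≫ g = q ≫ g := by rw [Category.assoc, hh, hw]
  refine hV.hom_ext g e1 ?_
  -- both land in the locus where `g` is an isomorphism
  let O : S.Opens := I.support.compl
  have hfac : ∀ a : T ⟶ Z, a ≫ g = q ≫ g → ∃ a' : V.toScheme ⟶ (g ⁻¹ᵁ O).toScheme, a' ≫ (g ⁻¹ᵁ O).ι = V.ι ≫ a := by
    intro a ha
    refine ⟨IsOpenImmersion.lift (g ⁻¹ᵁ O).ι (V.ι ≫ a) ?_, IsOpenImmersion.lift_fac _ _ _⟩
    rintro _ ⟨t, rfl⟩
    rw [Scheme.Opens.range_ι]
    show g ((V.ι ≫ a) t) ∈ O
    rw [Scheme.Hom.comp_apply, ← Scheme.Hom.comp_apply a g, ha]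
    exact t.2
  obtain ⟨a, ha⟩ := hfac (w ≫ h) e1
  obtain ⟨c, hc⟩ := hfac q rfl
  have : a = c := by
    rw [← cancel_mono (g ∣_ O), ← cancel_mono O.ι, Category.assoc, Category.assoc, morphismRestrict_ι,
      reassoc_of% ha, reassoc_of% hc]
    simp only [Category.assoc] at e1
    rw [e1]
  rw [← ha, ← hc, this]

theorem two_points {E Z : Scheme.{u}} {ι : E ⟶ Z} (hι : Models.IsExcCurve ι) : ∃ a b : E, a ≠ b := by
  obtain ⟨-, k, _, e, -⟩ := hι
  by_contra! h
  haveI : Subsingleton ↥E := ⟨h⟩
  haveI : Subsingleton ↥(CohB1.ProjSpace 1 k) := e.hom.homeomorph.injective.subsingleton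
  have h0 : topologicalKrullDim ↥(CohB1.ProjSpace 1 k) ≤ 0 :=
    Modification.dim_le_zero fun a b _ => Subsingleton.elim a b
  rw [DimLib.PN.topologicalKrullDim_projSpace] at h0
  exact absurd h0 (by decide)

set_option maxHeartbeats 1000000 in
/-- A contraction sequence which is an isomorphism over `P` is a `P`-admissible blow-up. -/
theorem exists_isBlowUp_contractionSeq {g : Y ⟶ X} (hg : Models.IsContractionSeq g) :
    ∀ [AlgebraicGeometry.IsNoetherian X] (P : X.Opens) [IsIso (g ∣_ P)],
      ∃ K : X.IdealSheafData, BlowUp.IsBlowUp g K ∧ BlowUp.IsAdmissibleFor P K := by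
  induction hg with
  | @iso Y X e =>
    intro _ P _
    refine ⟨⊤, ⟨?_, fun Z q _ => ⟨q ≫ e.inv, by simp, fun q' hq' => ?_⟩⟩, isFiniteTypeIdeal_of_noetherian _, ?_⟩
    · rw [Scheme.IdealSheafData.comap_top]
      intro y
      obtain ⟨U, hU, hyU, -⟩ := exists_isAffineOpen_mem_and_subset (x := y) (U := (⊤ : Y.Opens)) trivial
      exact ⟨⟨U, hU⟩, hyU, 1, one_mem _, by simp⟩
    · dsimp only at hq'
      rw [← hq', Category.assoc, e.hom_inv_id, Category.comp_id]
    · rw [Scheme.IdealSheafData.support_top]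
      exact Set.disjoint_left.2 fun x hx _ => hx
  | @step Y Z X E ι b r hι hE hb hr ih =>
    intro _ P _
    obtain ⟨hZn, hbp, z, hz, hrange, -, -, hblow⟩ := hb
    haveI := hbp
    haveI := hZn
    let J := Scheme.IdealSheafData.vanishingIdeal (⟨{z}, hz⟩ : Closeds Z)
    have hzP : r z ∉ P := fun hzP => by
      obtain ⟨a, c, hac⟩ := two_points hE
      have hmem : ∀ a : E, (b ≫ r) (ι a) = r z := fun a => by
        have h' : (ι ≫ b) a ∈ ({z} : Set Z) := hrange ▸ Set.mem_range_self a
        rw [Scheme.Hom.comp_apply, show b (ι a) = z from h']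
      have hin : ∀ a : E, ι a ∈ (b ≫ r) ⁻¹ᵁ P := fun a => show (b ≫ r) (ι a) ∈ P by rw [hmem]; exact hzP
      refine hac (ι.isClosedEmbedding.injective (congrArg Subtype.val (((b ≫ r) ∣_ P).homeomorph.injective
        (a₁ := ⟨ι a, hin a⟩) (a₂ := ⟨ι c, hin c⟩) (Subtype.ext ?_))))
      exact (morphismRestrict_base_coe (b ≫ r) P _).trans ((hmem a).trans ((hmem c).symm.trans
        (morphismRestrict_base_coe (b ≫ r) P ⟨ι c, hin c⟩).symm))
    have hle : r ⁻¹ᵁ P ≤ J.support.compl := fun w hw hwz => hzP (by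
      rw [← Set.mem_singleton_iff.1 ((Scheme.IdealSheafData.coe_support_vanishingIdeal _).le hwz)]; exact hw)
    haveI := SDiv28.isIso_off_center hblow
    haveI : IsIso (b ∣_ (r ⁻¹ᵁ P)) := isIso_restrict_of_le b hle
    haveI : IsIso (r ∣_ P) := by
      have h : IsIso ((b ∣_ (r ⁻¹ᵁ P)) ≫ (r ∣_ P)) := morphismRestrict_comp b r P ▸ ‹IsIso ((b ≫ r) ∣_ P)›
      exact IsIso.of_isIso_comp_left (b ∣_ (r ⁻¹ᵁ P)) _
    obtain ⟨K, hK, hKadm⟩ := ih P
    exact FlatMorAdm.exists_isBlowUp_comp P hKadm hK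
      ⟨isFiniteTypeIdeal_of_noetherian _, Set.disjoint_left.2 fun w hw hwP => hle hwP hw⟩ hblow

set_option maxHeartbeats 1000000 in
/-- Regularity is preserved by contraction sequences. -/
theorem regular_contractionSeq {g : Y ⟶ X} (hg : Models.IsContractionSeq g)
    (hX : ∀ x : X, IsRegularLocalRing (X.presheaf.stalk x)) :
    ∀ [IsIntegral X], ∃ _ : IsIntegral Y, ∀ y : Y, IsRegularLocalRing (Y.presheaf.stalk y) := by
  induction hg with
  | @iso Y X e =>
    intro _
    haveI : Nonempty Y := ⟨e.inv (genericPoint X)⟩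
    exact ⟨isIntegral_of_isOpenImmersion e.hom, fun y =>
      haveI := hX (e.hom y)
      IsRegularLocalRing.of_ringEquiv (asIso (e.hom.stalkMap y)).commRingCatIsoToRingEquiv⟩
  | @step Y Z X E ι b r hι hE hb hr ih =>
    intro _
    obtain ⟨hZi, hZr⟩ := ih hX
    obtain ⟨hZn, -, z, hz, -, -, hdim, hblow⟩ := hb
    haveI := hZi
    haveI := hZn
    have hz0 : z ≠ genericPoint Z := fun h => by
      rw [h, ringKrullDim_eq_zero_of_isField (Field.toIsField Z.functionField)] at hdim
      exact absurd hdim (by decide)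
    haveI := Models7.isIntegral_pointBlowUp hZr z hz hz0 b hblow
    exact ⟨inferInstance, fun y => Models7.isRegular_pointBlowUp hZr z hz b hblow y⟩

set_option maxHeartbeats 2000000 in
/-- A resolution can be replaced by a regular admissible blow-up. -/
theorem exists_regular_admissible {O : Type u} [CommRing O] [IsDomain O] [IsLocalRing O] [IsNoetherianRing O]
    [IsIntegrallyClosed O] (hdim : ringKrullDim O = 2) {Z : Scheme.{u}} (g : Z ⟶ Spec (CommRingCat.of O))
    [IsProper g] [IsIntegral Z]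
    (hbir : ∃ U : (Spec (CommRingCat.of O)).Opens, (U : Set (Spec (CommRingCat.of O))).Nonempty ∧ IsIso (g ∣_ U))
    (hreg : ∀ z : Z, IsRegularLocalRing (Z.presheaf.stalk z)) :
    ∃ (I : (Spec (CommRingCat.of O)).IdealSheafData) (W : Scheme.{u}) (b : W ⟶ Spec (CommRingCat.of O)),
      BlowUp.IsAdmissibleFor (FEt.puncturedSpec O) I ∧ BlowUp.IsBlowUp b I ∧
      ∀ w : W, IsRegularLocalRing (W.presheaf.stalk w) := by
  let S := Spec (CommRingCat.of O)
  let P : S.Opens := FEt.puncturedSpec O
  haveI hP : IsIso (g ∣_ P) := CompletionRat.isIso_restrict_punctured hdim.le g hbir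
  have hPne : (P : Set S).Nonempty := ⟨(⟨⊥, Ideal.isPrime_bot⟩ : PrimeSpectrum O), fun h => by
    refine maximalIdeal_ne_bot hdim ?_
    exact (congrArg PrimeSpectrum.asIdeal (Set.mem_singleton_iff.1 h)).symm⟩
  haveI : IsLocallyNoetherian Z := LocallyOfFiniteType.isLocallyNoetherian g
  haveI : CompactSpace Z := QuasiCompact.compactSpace_of_compactSpace g
  haveI : AlgebraicGeometry.IsNoetherian Z := {}
  obtain ⟨hgξ, hgb⟩ := Coherent.birational_of_isIso_morphismRestrict g P hPne
  obtain ⟨I, Y, b, hb, hI, h, hh⟩ := S1274.result g P (NoetherianSpace.isCompact _)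
  have hηI := genericPoint_mem_compl hPne hI
  haveI hYi : IsIntegral Y := Resolve13.isIntegral_blowUp hb hηI
  haveI : IsProper b := BlowUpLib.isProper_of_isBlowUp hb (isFiniteTypeIdeal_of_noetherian I)
  haveI : IsProper (h ≫ g) := hh ▸ inferInstance
  haveI : IsProper h := IsProper.of_comp h g
  have hsupp : (I.support : Set S) ⊆ (P : Set S)ᶜ := fun x hx hxP => Set.disjoint_left.1 hI.2 hx hxP
  haveI := SDiv28.isIso_off_center hb
  obtain ⟨hbξ, hbb⟩ := Coherent.birational_of_isIso_morphismRestrict b I.support.compl ⟨_, hηI⟩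
  have hhξ : h (genericPoint Y) = genericPoint Z :=
    Resolve13.Modification.eq_genericPoint g hgξ hgb _ (by rw [← Scheme.Hom.comp_apply, hh]; exact hbξ)
  by_cases hc : (IsLocalRing.closedPoint O : S) ∈ I.support.compl
  · -- the centre is empty
    have hall : ∀ x : S, x ∈ I.support.compl := fun x hx => by
      by_cases hxP : x ∈ P
      · exact hsupp hx hxP
      · exact hc ((not_not.1 hxP : x = IsLocalRing.closedPoint O) ▸ hx)
    haveI : IsIso b := by
      have htop : I.support.compl = (⊤ : S.Opens) := top_unique fun x _ => hall x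
      have h' : IsIso (b ∣_ (⊤ : S.Opens)) := htop ▸ inferInstance
      haveI : IsIso (⊤ : S.Opens).ι := S.topIso.isIso_hom
      haveI : IsIso (b ⁻¹ᵁ (⊤ : S.Opens)).ι := Y.topIso.isIso_hom
      have h2 : IsIso ((b ∣_ (⊤ : S.Opens)) ≫ (⊤ : S.Opens).ι) := inferInstance
      rw [morphismRestrict_ι] at h2
      exact IsIso.of_isIso_comp_left (b ⁻¹ᵁ (⊤ : S.Opens)).ι b
    haveI : IsClosedImmersion (h ≫ g) := hh ▸ inferInstance
    haveI := IsClosedImmersion.of_comp h g
    haveI : Surjective h := ⟨fun z => by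
      have hz : z ∈ closure ({genericPoint Z} : Set Z) := genericPoint_specializes z |>.mem_closure
      obtain ⟨y, hy⟩ := (h.isClosedEmbedding.isClosed_range).closure_subset_iff.2
        (Set.singleton_subset_iff.2 ⟨_, hhξ⟩) hz
      exact ⟨y, hy⟩⟩
    haveI : IsIso h := isIso_of_isClosedImmersion_of_surjective h
    exact ⟨I, Y, b, hI, hb, fun w =>
      haveI := hreg (h w)
      IsRegularLocalRing.of_ringEquiv (asIso (h.stalkMap w)).commRingCatIsoToRingEquiv⟩
  haveI : IsIso (g ∣_ I.support.compl) := isIso_restrict_of_le g (U := P)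
    fun x hx => fun (hx' : x ∈ ({IsLocalRing.closedPoint O} : Set (PrimeSpectrum O))) =>
      hc ((Set.mem_singleton_iff.1 hx') ▸ hx)
  have hblowh := isBlowUp_of_comp hb g P hI.2 hh
  haveI := SDiv28.isIso_off_center hblowh
  have hηJ : genericPoint Z ∈ (I.comap g).support.compl := fun hmem => by
    rw [Scheme.IdealSheafData.support_comap] at hmem
    exact hηI (hgξ ▸ hmem)
  obtain ⟨-, hhb⟩ := Coherent.birational_of_isIso_morphismRestrict h (I.comap g).support.compl ⟨_, hηJ⟩
  have hZn := Models7.isNormalScheme_of_regular hreg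
  have hZd : ∀ z : Z, ringKrullDim (Z.presheaf.stalk z) ≤ 2 := fun z =>
    (Modification.ringKrullDim_stalk_le g hgξ hgb z).trans (Resolve13.ringKrullDim_stalk_spec_le hdim.le _)
  obtain ⟨T, hTc, hTf, hT, hTiso⟩ := exists_finite_iso_off h hZn hZd hhξ hhb
  obtain ⟨Z', q, hq, hqiso, l, hl⟩ := S7320.result Z T hTf hTc (fun z hz => ⟨(hT z hz).1, hreg z, (hT z hz).2⟩) h hTiso
  haveI := hqiso
  obtain ⟨hZ'i, hZ'r⟩ := regular_contractionSeq hq hreg
  obtain ⟨K, hK, hKadm⟩ := exists_isBlowUp_contractionSeq hq (⟨Tᶜ, hTc.isOpen_compl⟩ : Z.Opens)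
  -- the inverse image of the centre is invertible
  have hTne : ((⟨Tᶜ, hTc.isOpen_compl⟩ : Z.Opens) : Set Z).Nonempty := ⟨genericPoint Z, fun hmem => by
    have h0 : ringKrullDim (Z.presheaf.stalk (genericPoint Z)) = 2 := (hT _ hmem).2
    rw [ringKrullDim_eq_zero_of_isField (Field.toIsField Z.functionField)] at h0
    exact absurd h0 (by decide)⟩
  obtain ⟨hqξ, -⟩ := Coherent.birational_of_isIso_morphismRestrict q _ hTne
  have hlξ : l (genericPoint Z') = genericPoint Y :=
    Resolve13.Modification.eq_genericPoint h hhξ hhb _ (by rw [← Scheme.Hom.comp_apply, hl]; exact hqξ)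
  have heff : BlowUp.IsEffCartierIdeal ((I.comap g).comap q) := by
    rw [← Scheme.IdealSheafData.comap_comp, show q ≫ g = l ≫ b by rw [← hl, Category.assoc, hh],
      Scheme.IdealSheafData.comap_comp]
    exact S1650.isEff_comap _ hlξ hb.1
  -- `Z'` is a blow-up of `Y`
  have h1 : BlowUp.IsBlowUp q (K * I.comap g) := by
    have := SDiv28.isBlowUp_comp hK (isBlowUp_id heff)
    rwa [Category.id_comp] at this
  obtain ⟨W, w, hw⟩ := BlowUpLib.exists_isBlowUp (K.comap h)
  have h2 := SDiv28.isBlowUp_comp hblowh hw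
  rw [SDiv28.mul_comm'] at h2
  obtain ⟨e, -⟩ := BlowUpLib.exists_iso_of_isBlowUp h1 h2
  have hKh : BlowUp.IsAdmissibleFor (b ⁻¹ᵁ P) (K.comap h) := by
    haveI : IsLocallyNoetherian Y := LocallyOfFiniteType.isLocallyNoetherian b
    refine ⟨isFiniteTypeIdeal_of_noetherian _, Set.disjoint_left.2 fun y hy hyP => ?_⟩
    rw [Scheme.IdealSheafData.support_comap] at hy
    refine Set.disjoint_left.1 hKadm.2 hy fun hyT => ?_
    have hclosed : IsClosed (g '' {h y}) := g.isClosedMap _ (hT _ hyT).1
    rw [Set.image_singleton, ← Scheme.Hom.comp_apply, hh] at hclosed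
    refine hyP (Set.mem_singleton_iff.2 (PrimeSpectrum.ext ?_))
    exact IsLocalRing.eq_maximalIdeal ((PrimeSpectrum.isClosed_singleton_iff_isMaximal _).1 hclosed)
  obtain ⟨K', hK', hK'adm⟩ := FlatMorAdm.exists_isBlowUp_comp P hI hb hKh hw
  exact ⟨K', W, w ≫ b, hK'adm, hK', fun x =>
    haveI := hZ'r (e.inv x)
    IsRegularLocalRing.of_ringEquiv (asIso (e.inv.stalkMap x)).commRingCatIsoToRingEquiv⟩

end Groth.Agent.RDPChain13
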