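import Groth.Agent.RDPChain13.Child
import Groth.Agent.S1649
import Groth.Agent.S1650
import Groth.Agent.S7302
import Groth.Agent.S4710
import Groth.Agent.S1598
import Groth.Agent.SDiv28.Charts
import Groth.Agent.CommAlg6.CompleteJ2
import Groth.Agent.CAlgH3.Serre
import Groth.Agent.Resolve13.Modification
import Groth.Agent.BlowUpLib.Proper
import Groth.Agent.Resolve13.CurveBlowUp

/-! The singular points of the blow-up of a rational surface singularity. -/

set_option autoImplicit false
set_option backward.isDefEq.respectTransparency.types false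
set_option linter.style.haveILetI false

universe u

open CategoryTheory CategoryTheory.Limits AlgebraicGeometry

namespace Groth.Agent.RDPChain13

/-- A rational surface singularity with normal completion. -/
structure Good (A : Type u) [CommRing A] [IsLocalRing A] : Prop where
  dom : IsDomain A
  noeth : IsNoetherianRing A
  normal : IsIntegrallyClosed A
  nagata : CAlg.IsNagata A
  dim : ringKrullDim A = 2
  rat : Curv2.IsRationalSing A
  cpl_dom : IsDomain (Curv2.cpl A)
  cpl_normal : IsIntegrallyClosed (Curv2.cpl A)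

variable {A : Type u} [CommRing A] [IsLocalRing A]

theorem maximalIdeal_ne_bot (hdim : ringKrullDim A = 2) : IsLocalRing.maximalIdeal A ≠ ⊥ := fun h => by
  rw [ringKrullDim_eq_zero_of_isField (IsLocalRing.isField_iff_maximalIdeal_eq.2 h)] at hdim
  exact absurd hdim (by decide)

section

variable [IsDomain A] [IsNoetherianRing A] [IsIntegrallyClosed A]

theorem exists_data (hA : Good A) {X : Scheme.{u}} (b : X ⟶ Spec (CommRingCat.of A))
    (hb : BlowUp.IsBlowUp b (Curv2.idealSheaf A (IsLocalRing.maximalIdeal A))) :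
    ∃ _ : IsIntegral X, IsProper b ∧ Pi1.IsNormalScheme X ∧ (b (genericPoint X) = genericPoint (Spec (CommRingCat.of A))) ∧
      Function.Bijective (b.stalkMap (genericPoint X)) := by
  let S := Spec (CommRingCat.of A)
  let J : S.IdealSheafData := Curv2.idealSheaf A (IsLocalRing.maximalIdeal A)
  let T : S.affineOpens := ⟨⊤, isAffineOpen_top _⟩
  let iso := (Scheme.ΓSpecIso (CommRingCat.of A)).inv.hom
  have hJT : J.ideal T = (IsLocalRing.maximalIdeal A).map iso := by
    show ((IsLocalRing.maximalIdeal A).map iso).map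
        ((Spec (CommRingCat.of A)).presheaf.map (homOfLE le_top).op).hom = _
    rw [show (homOfLE (le_top : (⊤ : (Spec (CommRingCat.of A)).Opens) ≤ ⊤)).op = 𝟙 _ from rfl,
      CategoryTheory.Functor.map_id]
    exact Ideal.map_id _
  have hne : J ≠ ⊥ := fun h => by
    have h1 : (IsLocalRing.maximalIdeal A).map iso = ⊥ := by rw [← hJT, h]; rfl
    rw [Ideal.map_eq_bot_iff_of_injective
      (ConcreteCategory.bijective_of_isIso (Scheme.ΓSpecIso (CommRingCat.of A)).inv).1] at h1
    exact maximalIdeal_ne_bot hA.dim h1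
  have hη : genericPoint S ∈ J.support.compl := Resolve13.genericPoint_notMem_support J hne
  have hft : BlowUp.IsFiniteTypeIdeal J := fun U => by
    have : IsNoetherianRing Γ(S, U.1) := IsLocallyNoetherian.component_noetherian U
    exact IsNoetherian.noetherian _
  have hi : IsIntegral X := Resolve13.isIntegral_blowUp hb hη
  have := SDiv28.isIso_off_center hb
  obtain ⟨h1, h2⟩ := Coherent.birational_of_isIso_morphismRestrict b J.support.compl ⟨_, hη⟩
  exact ⟨hi, BlowUpLib.isProper_of_isBlowUp hb hft, S1650.result A hA.nagata hA.dim hA.rat X b hb, h1, h2⟩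

/-- Non-closed points of the blow-up are regular. -/
theorem isClosed_of_singular (hA : Good A) {X : Scheme.{u}} (b : X ⟶ Spec (CommRingCat.of A))
    (hb : BlowUp.IsBlowUp b (Curv2.idealSheaf A (IsLocalRing.maximalIdeal A))) {x : X}
    (hx : ¬ IsRegularLocalRing (X.presheaf.stalk x)) : IsClosed ({x} : Set X) := by
  obtain ⟨_, _, hXn, hη, hbij⟩ := exists_data hA b hb
  have : IsLocallyNoetherian X := LocallyOfFiniteType.isLocallyNoetherian b
  by_contra hc
  obtain ⟨x₀, hx₀, hs⟩ : ∃ x₀ : X, IsClosed ({x₀} : Set X) ∧ x ⤳ x₀ := by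
    have : CompactSpace X := QuasiCompact.compactSpace_of_compactSpace b
    obtain ⟨S, hne, hmin⟩ := IsClosed.exists_closed_singleton (isClosed_closure (s := ({x} : Set X)))
      ⟨x, subset_closure rfl⟩
    exact ⟨S, hmin, specializes_iff_mem_closure.2 hne⟩
  obtain ⟨W, hW, hx₀W, -⟩ := exists_isAffineOpen_mem_and_subset (x := x₀) (U := ⊤) trivial
  have hxW : x ∈ W := hs.mem_open W.2 hx₀W
  have hlt := Resolve13.Modification.primeIdealOf_lt hW hxW hx₀W hs (fun e => hc (e ▸ hx₀))
  have h2 := Ideal.height_add_one_le_of_lt_of_isPrime hlt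
  have e1 : ringKrullDim (X.presheaf.stalk x) = (hW.primeIdealOf ⟨x, hxW⟩).asIdeal.height := by
    letI := TopCat.Presheaf.algebra_section_stalk X.presheaf (⟨x, hxW⟩ : W)
    have := hW.isLocalization_stalk ⟨x, hxW⟩
    exact IsLocalization.AtPrime.ringKrullDim_eq_height _ _
  have e2 : ringKrullDim (X.presheaf.stalk x₀) = (hW.primeIdealOf ⟨x₀, hx₀W⟩).asIdeal.height := by
    letI := TopCat.Presheaf.algebra_section_stalk X.presheaf (⟨x₀, hx₀W⟩ : W)
    have := hW.isLocalization_stalk ⟨x₀, hx₀W⟩
    exact IsLocalization.AtPrime.ringKrullDim_eq_height _ _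
  have h3 : ringKrullDim (X.presheaf.stalk x₀) ≤ 2 :=
    (Resolve13.Modification.ringKrullDim_stalk_le b hη hbij x₀).trans (Resolve13.ringKrullDim_stalk_spec_le hA.dim.le _)
  have h4 : (hW.primeIdealOf ⟨x₀, hx₀W⟩).asIdeal.height ≤ 1 + 1 :=
    WithBot.coe_le_coe.1 (e2 ▸ h3)
  have h5 : (hW.primeIdealOf ⟨x, hxW⟩).asIdeal.height ≤ 1 :=
    WithTop.le_of_add_le_add_right WithTop.one_ne_top (h2.trans h4)
  obtain ⟨_, _⟩ := hXn x
  exact hx (CAlgH3.isRegularLocalRing_of_normal_dim_le_one (e1 ▸ WithBot.coe_le_coe.2 h5))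

/-- There are finitely many singular points. -/
theorem finite_singular (hA : Good A) {X : Scheme.{u}} (b : X ⟶ Spec (CommRingCat.of A))
    (hb : BlowUp.IsBlowUp b (Curv2.idealSheaf A (IsLocalRing.maximalIdeal A))) :
    {x : X | ¬ IsRegularLocalRing (X.presheaf.stalk x)}.Finite := by
  have := hA.cpl_dom; have := hA.cpl_normal
  obtain ⟨_, _, hXn, hη, hbij⟩ := exists_data hA b hb
  let Ah := Curv2.cpl A
  let s := Spec.map (CommRingCat.ofHom (algebraMap A Ah))
  have : IsNoetherianRing Ah := Groth.Agent.Matlis6.isNoetherianRing_adicCompletion _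
  have : Module.FaithfullyFlat A Ah := Module.FaithfullyFlat.of_flat_of_isLocalHom
  have := CAlgH.EtaleApprox.isAdicComplete_cpl A
  have : Flat s := by
    rw [HasRingHomProperty.Spec_iff (P := @Flat)]
    exact RingHom.flat_algebraMap_iff.2 inferInstance
  have hAh : Good Ah :=
    { dom := inferInstance, noeth := inferInstance, normal := inferInstance
      nagata := CAlgH.isNagata_of_complete_local Ah
      dim := (CommAlg6.ringKrullDim_completion A).trans hA.dim
      rat := Groth.Agent.S7301.result A hA.nagata hA.dim hA.rat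
      cpl_dom := (AdicCompletion.ofAlgEquiv (IsLocalRing.maximalIdeal Ah)).symm.toMulEquiv.isDomain _
      cpl_normal := IsIntegrallyClosed.of_equiv (AdicCompletion.ofAlgEquiv (IsLocalRing.maximalIdeal Ah)).toRingEquiv }
  let Y := Curv2.bcCpl A b
  let g : Y ⟶ Spec (CommRingCat.of Ah) := Curv2.bcCplSnd A b
  have hblow : BlowUp.IsBlowUp g (Curv2.idealSheaf Ah (IsLocalRing.maximalIdeal Ah)) := by
    have h1 := SDiv28.isBlowUp_flat_baseChange hb s
    have h2 := Groth.Agent.Resolve13.RatExt.idealSheaf_comap_comp (algebraMap A Ah) (𝟙 _) (IsLocalRing.maximalIdeal A)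
    rw [Category.id_comp, Scheme.IdealSheafData.comap_id, ← AdicCompletion.maximalIdeal_eq_map] at h2
    rw [h2] at h1
    have he : (pullbackSymmetry b s).hom ≫ pullback.fst s b = g := pullbackSymmetry_hom_comp_fst _ _
    rw [← he]
    refine ⟨?_, fun Z k hk => ?_⟩
    · rw [Scheme.IdealSheafData.comap_comp]
      exact SDiv28.isEffCartier_comap_of_flat h1.1 _
    · obtain ⟨l, hl, hu⟩ := h1.2 Z k hk
      refine ⟨l ≫ (pullbackSymmetry b s).inv, ?_, fun l' hl' => ?_⟩
      · show (l ≫ (pullbackSymmetry b s).inv) ≫ (pullbackSymmetry b s).hom ≫ pullback.fst s b = k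
        rw [Category.assoc, Iso.inv_hom_id_assoc, hl]
      · have := hu (l' ≫ (pullbackSymmetry b s).hom) (by
          show (l' ≫ (pullbackSymmetry b s).hom) ≫ pullback.fst s b = k
          rw [Category.assoc]; exact hl')
        rw [← this, Category.assoc, Iso.hom_inv_id, Category.comp_id]
  obtain ⟨_, _, hYn, hgη, hgb⟩ := exists_data hAh g hblow
  have : IsLocallyNoetherian Y := LocallyOfFiniteType.isLocallyNoetherian g
  have : CompactSpace Y := QuasiCompact.compactSpace_of_compactSpace g
  have hJ2 : EGA4.IsJ2 Ah := CommAlg6.isJ2_of_complete_local Ah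
  let sing : Set Y := {y | ¬ IsRegularLocalRing (Y.presheaf.stalk y)}
  have hfinU : ∀ U : Y.affineOpens, (sing ∩ U.1).Finite := by
    intro U
    let ψ : CommRingCat.of Ah ⟶ Γ(Y, U.1) := Spec.preimage (U.2.fromSpec ≫ g)
    have hψ : ψ.hom.FiniteType :=
      (HasRingHomProperty.Spec_iff (P := @LocallyOfFiniteType)).1 (by rw [Spec.map_preimage]; infer_instance)
    letI := ψ.hom.toAlgebra
    have hopen := hJ2 Γ(Y, U.1) hψ
    have : IsNoetherianRing Γ(Y, U.1) := IsLocallyNoetherian.component_noetherian U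
    let Z : Set (PrimeSpectrum Γ(Y, U.1)) := (EGA4.regLocus Γ(Y, U.1))ᶜ
    have hmem : ∀ p : PrimeSpectrum Γ(Y, U.1), p ∈ Z → U.2.fromSpec p ∈ sing := fun p hp hreg => hp (by
      have := hreg
      exact IsRegularLocalRing.of_ringEquiv
        ((asIso (U.2.fromSpec.stalkMap p)) ≪≫ Spec.stalkIso _ p).commRingCatIsoToRingEquiv)
    have hdim0 : topologicalKrullDim Z ≤ 0 := by
      have : IsClosed Z := hopen.isClosed_compl
      have : QuasiSober Z := this.isClosedEmbedding_subtypeVal.quasiSober
      refine Resolve13.Modification.dim_le_zero fun a c hac => Subtype.ext (U.2.fromSpec.isOpenEmbedding.injective ?_)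
      have h1 : U.2.fromSpec a.1 ⤳ U.2.fromSpec c.1 :=
        (Topology.IsInducing.subtypeVal.specializes_iff.2 hac).map U.2.fromSpec.continuous
      have h2 := isClosed_of_singular hAh g hblow (hmem a.1 a.2)
      exact (Set.mem_singleton_iff.1 (h1.mem_closed h2 rfl)).symm
    refine ((CommAlg4.finite_and_isClosed_singleton_of_dim_le_zero hopen.isClosed_compl hdim0).1.image U.2.fromSpec).subset ?_
    rintro y ⟨hy, hyU⟩
    obtain ⟨p, rfl⟩ : y ∈ Set.range U.2.fromSpec := U.2.range_fromSpec ▸ hyU
    refine ⟨p, fun hp => hy ?_, rfl⟩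
    have : IsRegularLocalRing (Localization.AtPrime p.asIdeal) := hp
    exact IsRegularLocalRing.of_ringEquiv
      ((asIso (U.2.fromSpec.stalkMap p)) ≪≫ Spec.stalkIso _ p).commRingCatIsoToRingEquiv.symm
  have hsing : sing.Finite := by
    choose W hW using fun y : Y => exists_isAffineOpen_mem_and_subset (x := y) (U := ⊤) trivial
    obtain ⟨T, hT⟩ := isCompact_univ.elim_finite_subcover (fun y : Y => (W y : Set Y))
      (fun y => (W y).2) (fun y _ => Set.mem_iUnion.2 ⟨y, (hW y).2.1⟩)
    refine (T.finite_toSet.biUnion fun y _ => hfinU ⟨W y, (hW y).1⟩).subset fun y hy => ?_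
    obtain ⟨i, hi, hyi⟩ := Set.mem_iUnion₂.1 (hT (Set.mem_univ y))
    exact Set.mem_biUnion hi ⟨hy, hyi⟩
  refine (hsing.image (Curv2.bcCplFst A b).base).subset fun x hx => ?_
  have hbx : b.base x = IsLocalRing.closedPoint A := by
    have h1 : IsClosed ({b.base x} : Set (Spec (CommRingCat.of A))) := by
      rw [← Set.image_singleton]; exact b.isClosedMap _ (isClosed_of_singular hA b hb hx)
    exact PrimeSpectrum.ext (IsLocalRing.eq_maximalIdeal ((PrimeSpectrum.isClosed_singleton_iff_isMaximal _).1 h1))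
  obtain ⟨q, hq, hq'⟩ := Scheme.Pullback.exists_preimage_pullback (f := b) (g := s) x (IsLocalRing.closedPoint Ah)
    (hbx.trans (IsLocalRing.comap_closedPoint (algebraMap A Ah)).symm)
  subst hq
  exact ⟨q, fun h => hx ((S1598.result A X b q hq').1 h), rfl⟩

end

end Groth.Agent.RDPChain13
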