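import Groth.Agent.RDPChain13.Child

/-! The exceptional curve near a singular point. -/

set_option autoImplicit false

universe u

open IsLocalRing

namespace Groth.Agent.RDPChain13

variable {A A₁ : Type u} [CommRing A] [IsLocalRing A] [CommRing A₁] [IsLocalRing A₁] [IsDomain A₁]
  [IsNoetherianRing A₁] {φ : A →+* A₁} {x y z : A} {T Z : A₁}

/-- The exceptional curve is a scheme over the residue field. -/
noncomputable abbrev Chart.resHom (C : Chart φ x y z T Z) : ResidueField A →+* A₁ ⧸ Ideal.span {φ x} :=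
  Ideal.Quotient.lift (maximalIdeal A) ((Ideal.Quotient.mk (Ideal.span {φ x})).comp φ) fun a ha =>
    Ideal.Quotient.eq_zero_iff_mem.2 (C.map_eq ▸ Ideal.mem_map_of_mem φ ha)

omit [IsDomain A₁] [IsNoetherianRing A₁] in
theorem Chart.resHom_residue (C : Chart φ x y z T Z) (a : A) :
    C.resHom (residue A a) = Ideal.Quotient.mk (Ideal.span {φ x}) (φ a) := rfl

omit [IsDomain A₁] [IsNoetherianRing A₁] in
theorem Chart.nontrivial (C : Chart φ x y z T Z) : Nontrivial (A₁ ⧸ Ideal.span {φ x}) :=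
  Ideal.Quotient.nontrivial_iff.2 fun h => (maximalIdeal.isMaximal A₁).ne_top
    (top_le_iff.1 (h.symm.le.trans (Ideal.span_le.2 (by simpa using C.mem))))

omit [IsDomain A₁] [IsNoetherianRing A₁] in
theorem Chart.isLocalRing (C : Chart φ x y z T Z) : IsLocalRing (A₁ ⧸ Ideal.span {φ x}) :=
  haveI := C.nontrivial
  IsLocalRing.of_surjective' (Ideal.Quotient.mk _) Ideal.Quotient.mk_surjective

omit [IsDomain A₁] [IsNoetherianRing A₁] in
theorem Chart.mk_mem_iff (C : Chart φ x y z T Z) {u : A₁} :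
    haveI := C.isLocalRing
    Ideal.Quotient.mk (Ideal.span {φ x}) u ∈ maximalIdeal _ ↔ u ∈ maximalIdeal A₁ := by
  haveI := C.isLocalRing
  haveI : IsLocalHom (Ideal.Quotient.mk (Ideal.span {φ x})) :=
    IsLocalHom.of_surjective _ Ideal.Quotient.mk_surjective
  exact ((maximalIdeal_comap (Ideal.Quotient.mk (Ideal.span {φ x}))).symm ▸ Iff.rfl :
    u ∈ (maximalIdeal _).comap (Ideal.Quotient.mk (Ideal.span {φ x})) ↔ u ∈ maximalIdeal A₁)

theorem Chart.isPoint (C : Chart φ x y z T Z) :
    haveI := C.isLocalRing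
    letI := C.resHom.toAlgebra
    IsPoint (κ := ResidueField A) (Ideal.Quotient.mk (Ideal.span {φ x}) T) (Ideal.Quotient.mk (Ideal.span {φ x}) Z) := by
  haveI := C.isLocalRing
  letI := C.resHom.toAlgebra
  let q := Ideal.Quotient.mk (Ideal.span {φ x})
  have hev : ∀ f : MvPolynomial (Fin 2) A, MvPolynomial.aeval ![q T, q Z] (f.map (residue A)) =
      q (MvPolynomial.eval₂ φ ![T, Z] f) := by
    intro f
    induction f using MvPolynomial.induction_on with
    | C c => simp [RingHom.algebraMap_toAlgebra, C.resHom_residue, q]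
    | add a b ha hb => simp [ha, hb, q]
    | mul_X p i hp =>
      simp only [map_mul, MvPolynomial.map_X, MvPolynomial.aeval_X, MvPolynomial.eval₂_mul, MvPolynomial.eval₂_X, hp]
      fin_cases i <;> simp [q]
  have hint : ∀ u : A₁, IsIntegral (ResidueField A) (residue (A₁ ⧸ Ideal.span {φ x}) (q u)) := fun u => by
    obtain ⟨p, hp, hpu⟩ := C.child.alg u
    refine ⟨p.map (residue A), hp.map _, ?_⟩
    rw [Polynomial.eval₂_map]
    have e : (algebraMap (ResidueField A) (ResidueField (A₁ ⧸ Ideal.span {φ x}))).comp (residue A) =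
        ((residue (A₁ ⧸ Ideal.span {φ x})).comp q).comp φ := RingHom.ext fun a => rfl
    rw [e, show residue (A₁ ⧸ Ideal.span {φ x}) (q u) = ((residue (A₁ ⧸ Ideal.span {φ x})).comp q) u from rfl,
      ← Polynomial.hom_eval₂, RingHom.comp_apply, residue_eq_zero_iff, C.mk_mem_iff]
    exact hpu
  refine ⟨fun u => ?_, hint T, hint Z, fun w hw => ?_⟩
  · obtain ⟨u, rfl⟩ := Ideal.Quotient.mk_surjective u
    obtain ⟨f, g, hg, e⟩ := C.gen u
    exact ⟨f.map (residue A), g.map (residue A), by rw [hev]; exact hg.map q, by rw [hev, hev, ← map_mul, e]⟩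
  · obtain ⟨w, rfl⟩ := Ideal.Quotient.mk_surjective w
    refine C.child.not_two (φ x) w (le_antisymm (fun u hu => ?_) ?_)
    · have h1 : q u ∈ Ideal.span {q w} := hw ▸ C.mk_mem_iff.2 hu
      obtain ⟨k, hk⟩ := Ideal.mem_span_singleton'.1 h1
      obtain ⟨k, rfl⟩ := Ideal.Quotient.mk_surjective k
      rw [← map_mul, Ideal.Quotient.eq] at hk
      have := sub_mem (Ideal.mul_mem_left _ k (Ideal.subset_span (show w ∈ ({φ x, w} : Set A₁) by simp)))
        (Ideal.span_mono (show ({φ x} : Set A₁) ⊆ {φ x, w} by simp) hk)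
      simpa using this
    · refine Ideal.span_le.2 (Set.insert_subset C.mem (Set.singleton_subset_iff.2 ?_))
      exact C.mk_mem_iff.1 (hw ▸ Ideal.mem_span_singleton_self _)

/-- A singular point of a conic which is not a double line is rational. -/
theorem Chart.rational (C : Chart φ x y z T Z) {xx xy xz yy yz zz : A}
    (hns : ¬ Sq3 (residue A xx) (residue A xy) (residue A xz) (residue A yy) (residue A yz) (residue A zz))
    (hQ : φ xx + φ xy * T + φ xz * Z + φ yy * T ^ 2 + φ yz * T * Z + φ zz * Z ^ 2 ∈ Ideal.span {φ x}) :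
    ∃ a b : A, T - φ a ∈ maximalIdeal A₁ ∧ Z - φ b ∈ maximalIdeal A₁ := by
  haveI := C.isLocalRing
  letI := C.resHom.toAlgebra
  obtain ⟨a, b, ha, hb⟩ := rational_of_not_sq3 C.isPoint hns (by
    have := Ideal.Quotient.eq_zero_iff_mem.2 hQ
    simpa [RingHom.algebraMap_toAlgebra, C.resHom_residue] using this)
  obtain ⟨a, rfl⟩ := residue_surjective a
  obtain ⟨b, rfl⟩ := residue_surjective b
  exact ⟨a, b, C.mk_mem_iff.1 (by simpa [RingHom.algebraMap_toAlgebra, C.resHom_residue] using ha),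
    C.mk_mem_iff.1 (by simpa [RingHom.algebraMap_toAlgebra, C.resHom_residue] using hb)⟩

/-- Points on the line `Z = 0` of the exceptional curve. -/
theorem Chart.line (C : Chart φ x y z T Z) (hZ : Z ∈ maximalIdeal A₁) : ∃ π : Polynomial A, π.Monic ∧
    maximalIdeal A₁ = Ideal.span {φ x, π.eval₂ φ T, Z} ∧
    (∀ f : Polynomial A, f.eval₂ φ T ∈ maximalIdeal A₁ → ∃ h : Polynomial A, ∃ k : A₁,
      f.eval₂ φ T = π.eval₂ φ T * h.eval₂ φ T + φ x * k ∧ f.map (residue A) = π.map (residue A) * h.map (residue A)) ∧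
    (π.natDegree = 1 → ∃ a : A, T - φ a ∈ maximalIdeal A₁) ∧ 0 < π.natDegree := by
  haveI := C.isLocalRing
  letI := C.resHom.toAlgebra
  let q := Ideal.Quotient.mk (Ideal.span {φ x})
  let μ := minpoly (ResidueField A) (residue _ (q T))
  have hμ : μ.Monic := minpoly.monic C.isPoint.alg_t
  obtain ⟨π, hπ, hπd, hπm⟩ := Polynomial.lifts_and_degree_eq_and_monic
    ((Polynomial.mem_lifts μ).2 (Polynomial.map_surjective (residue A) residue_surjective μ)) hμ
  have hev : ∀ f : Polynomial A, Polynomial.aeval (q T) (f.map (residue A)) = q (f.eval₂ φ T) := fun f => by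
    rw [Polynomial.aeval_def, Polynomial.eval₂_map, Polynomial.hom_eval₂]
    rfl
  have hmax := C.isPoint.maximalIdeal_eq 0 (by simpa using C.mk_mem_iff.2 hZ)
  rw [Polynomial.aeval_zero, sub_zero, show minpoly _ _ = π.map (residue A) from hπ.symm, hev] at hmax
  have hdeg : π.natDegree = μ.natDegree := Polynomial.natDegree_eq_of_degree_eq hπd
  refine ⟨π, hπm, le_antisymm (fun u hu => ?_) ?_, fun f hf => ?_, fun h1 => ?_, ?_⟩
  · have h1 := C.mk_mem_iff.2 hu
    rw [hmax, show ({q (π.eval₂ φ T), q Z} : Set _) = q '' {π.eval₂ φ T, Z} from (Set.image_pair _ _ _).symm,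
      ← Ideal.map_span, Ideal.mem_map_iff_of_surjective _ Ideal.Quotient.mk_surjective] at h1
    obtain ⟨v, hv, hvu⟩ := h1
    rw [Ideal.Quotient.eq] at hvu
    have := sub_mem (Ideal.span_mono (show ({π.eval₂ φ T, Z} : Set A₁) ⊆ {φ x, π.eval₂ φ T, Z} by simp) hv)
      (Ideal.span_mono (show ({φ x} : Set A₁) ⊆ {φ x, π.eval₂ φ T, Z} by simp) hvu)
    simpa using this
  · refine Ideal.span_le.2 (Set.insert_subset C.mem (Set.insert_subset (C.mk_mem_iff.1 ?_) (by simpa using hZ)))
    exact hmax.ge (Ideal.subset_span (Set.mem_insert _ _))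
  · have h1 := C.mk_mem_iff.2 hf
    rw [← hev, aeval_mem_iff] at h1
    obtain ⟨h', hh⟩ := h1
    obtain ⟨h, rfl⟩ := Polynomial.map_surjective (residue A) residue_surjective h'
    rw [show minpoly _ _ = π.map (residue A) from hπ.symm, ← Polynomial.map_mul] at hh
    have h2 := congrArg (Polynomial.aeval (q T)) hh
    rw [hev, hev, Polynomial.eval₂_mul, Ideal.Quotient.eq] at h2
    obtain ⟨k, hk⟩ := Ideal.mem_span_singleton.1 h2
    exact ⟨h, k, by rw [← hk]; ring, by rw [hh, Polynomial.map_mul]⟩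
  · refine ⟨-π.coeff 0, ?_⟩
    have h0 := (C.mk_mem_iff.1 (hmax.ge (Ideal.subset_span (Set.mem_insert _ _))) : π.eval₂ φ T ∈ maximalIdeal A₁)
    rw [Polynomial.eq_X_add_C_of_natDegree_le_one h1.le, show π.coeff 1 = 1 from h1 ▸ hπm.coeff_natDegree] at h0
    simpa using h0
  · exact hdeg ▸ minpoly.natDegree_pos C.isPoint.alg_t

end Groth.Agent.RDPChain13
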