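import Groth.Agent.CMType13.Extension

/-! Ideals of type one with respect to parameters, as a substitute for canonical ideals. -/

set_option autoImplicit false
set_option linter.style.haveILetI false

universe u

open IsLocalRing

namespace Groth.Agent.RDPChain13

open CMType13 (IsPair)

variable {A : Type u} [CommRing A] [IsLocalRing A]

/-- An ideal of depth two whose reductions modulo parameters have cyclic socle. -/
structure Canon (J : Ideal A) : Prop where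
  ne_bot : J ≠ ⊥
  dep : ∀ x v : A, x ∈ maximalIdeal A → x ≠ 0 → v ∈ J → (∀ c ∈ maximalIdeal A, c * v ∈ Ideal.span {x} * J) →
    v ∈ Ideal.span {x} * J
  soc : ∀ x y : A, IsPair x y → ∃ s ∈ J, (∀ c ∈ maximalIdeal A, c * s ∈ Ideal.span {x, y} * J) ∧
    ∀ v ∈ J, (∀ c ∈ maximalIdeal A, c * v ∈ Ideal.span {x, y} * J) → ∃ a, v - a * s ∈ Ideal.span {x, y} * J

omit [IsLocalRing A] in
theorem mem_pair_mul {x y v : A} {J : Ideal A} :
    v ∈ Ideal.span {x, y} * J ↔ ∃ p ∈ J, ∃ w ∈ J, x * p + y * w = v := by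
  rw [Ideal.span_insert, Ideal.sup_mul, Submodule.mem_sup]
  simp only [Ideal.mem_span_singleton_mul]
  aesop

theorem reg_of_dep {J : Ideal A}
    (hdep : ∀ x v : A, x ∈ maximalIdeal A → x ≠ 0 → v ∈ J → (∀ c ∈ maximalIdeal A, c * v ∈ Ideal.span {x} * J) →
      v ∈ Ideal.span {x} * J)
    {x y v : A} (h : IsPair x y) (hv : v ∈ J) (hyv : y * v ∈ Ideal.span {x} * J) : v ∈ Ideal.span {x} * J := by
  obtain ⟨hle, hx0, -, k, hk⟩ := h
  have hx : x ∈ maximalIdeal A := hle (Ideal.subset_span (by simp))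
  suffices h : ∀ (j : ℕ) (v : A), v ∈ J → (∀ c ∈ maximalIdeal A ^ j, c * v ∈ Ideal.span {x} * J) →
      v ∈ Ideal.span {x} * J from h k v hv fun c hc => by
    obtain ⟨a, b, rfl⟩ := Ideal.mem_span_pair.1 (hk hc)
    rw [add_mul]
    refine add_mem (Ideal.mem_span_singleton_mul.2 ⟨a * v, Ideal.mul_mem_left _ _ hv, by ring⟩) ?_
    rw [mul_assoc]
    exact Ideal.mul_mem_left _ _ hyv
  intro j
  induction j with
  | zero => exact fun v _ h => by simpa using h 1 (by simp)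
  | succ j ih =>
    intro v hv h
    refine ih v hv fun c hc => hdep x _ hx hx0 (Ideal.mul_mem_left _ _ hv) fun d hd => ?_
    rw [← mul_assoc]
    exact h _ (by rw [pow_succ']; exact Ideal.mul_mem_mul hd hc)

theorem Canon.reg {J : Ideal A} (hJ : Canon J) {x y v : A} (h : IsPair x y) (hv : v ∈ J)
    (hyv : y * v ∈ Ideal.span {x} * J) : v ∈ Ideal.span {x} * J :=
  reg_of_dep hJ.dep h hv hyv

variable [IsDomain A]

theorem dep_of_reg {J : Ideal A} {X Y : A} (h : IsPair X Y)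
    (hreg : ∀ v ∈ J, Y * v ∈ Ideal.span {X} * J → v ∈ Ideal.span {X} * J) {x v : A} (hx : x ≠ 0)
    (hc : ∀ c ∈ maximalIdeal A, c * v ∈ Ideal.span {x} * J) : v ∈ Ideal.span {x} * J := by
  obtain ⟨a, ha, he⟩ := Ideal.mem_span_singleton_mul.1 (hc X (h.1 (Ideal.subset_span (by simp))))
  obtain ⟨b, hb, he'⟩ := Ideal.mem_span_singleton_mul.1 (hc Y (h.1 (Ideal.subset_span (by simp))))
  have h1 : Y * a = X * b := mul_left_cancel₀ hx (by linear_combination Y * he - X * he')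
  obtain ⟨d, hd, rfl⟩ := Ideal.mem_span_singleton_mul.1
    (hreg a ha (h1 ▸ Ideal.mem_span_singleton_mul.2 ⟨b, hb, rfl⟩))
  exact Ideal.mem_span_singleton_mul.2 ⟨d, hd, mul_left_cancel₀ h.2.1 (by linear_combination he)⟩

omit [IsDomain A] in
theorem soc_change {J : Ideal A} {x y y' : A}
    (hreg : ∀ v ∈ J, y * v ∈ Ideal.span {x} * J → v ∈ Ideal.span {x} * J)
    (hreg' : ∀ v ∈ J, y' * v ∈ Ideal.span {x} * J → v ∈ Ideal.span {x} * J)
    (hy : y ∈ maximalIdeal A) (hy' : y' ∈ maximalIdeal A)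
    (hs : ∃ s ∈ J, (∀ c ∈ maximalIdeal A, c * s ∈ Ideal.span {x, y} * J) ∧
      ∀ v ∈ J, (∀ c ∈ maximalIdeal A, c * v ∈ Ideal.span {x, y} * J) → ∃ a, v - a * s ∈ Ideal.span {x, y} * J) :
    ∃ s ∈ J, (∀ c ∈ maximalIdeal A, c * s ∈ Ideal.span {x, y'} * J) ∧
      ∀ v ∈ J, (∀ c ∈ maximalIdeal A, c * v ∈ Ideal.span {x, y'} * J) → ∃ a, v - a * s ∈ Ideal.span {x, y'} * J := by
  have key : ∀ {y y' : A} {v p w : A}, (∀ v ∈ J, y * v ∈ Ideal.span {x} * J → v ∈ Ideal.span {x} * J) → p ∈ J →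
      w ∈ J → x * p + y * w = y' * v →
      (∀ c ∈ maximalIdeal A, c * v ∈ Ideal.span {x, y} * J) → ∀ c ∈ maximalIdeal A, c * w ∈ Ideal.span {x, y'} * J := by
    intro y y' v p w hreg hp hw he hv c hc
    obtain ⟨α, hα, β, hβ, hcv⟩ := mem_pair_mul.1 (hv c hc)
    obtain ⟨d, hd, hde⟩ := Ideal.mem_span_singleton_mul.1 (hreg (c * w - y' * β)
      (sub_mem (Ideal.mul_mem_left _ _ hw) (Ideal.mul_mem_left _ _ hβ))
      (Ideal.mem_span_singleton_mul.2 ⟨y' * α - c * p, sub_mem (Ideal.mul_mem_left _ _ hα) (Ideal.mul_mem_left _ _ hp),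
        by linear_combination y' * hcv - c * he⟩))
    exact mem_pair_mul.2 ⟨d, hd, β, hβ, by linear_combination hde⟩
  obtain ⟨s, -, hsoc, hgen⟩ := hs
  obtain ⟨p, hp, s', hs', hse⟩ := mem_pair_mul.1 (hsoc y' hy')
  refine ⟨s', hs', key hreg hp hs' hse hsoc, fun v hv hvs => ?_⟩
  obtain ⟨p', hp', w, hw, hwe⟩ := mem_pair_mul.1 (hvs y hy)
  obtain ⟨a, ha⟩ := hgen w hw (key hreg' hp' hw hwe hvs)
  obtain ⟨k, hk, l, hl, hkl⟩ := mem_pair_mul.1 ha
  refine ⟨a, ?_⟩
  obtain ⟨d, hd, hde⟩ := Ideal.mem_span_singleton_mul.1 (hreg (v - a * s' - y' * l)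
    (sub_mem (sub_mem hv (Ideal.mul_mem_left _ _ hs')) (Ideal.mul_mem_left _ _ hl))
    (Ideal.mem_span_singleton_mul.2 ⟨p' + a * p + y' * k,
      add_mem (add_mem hp' (Ideal.mul_mem_left _ _ hp)) (Ideal.mul_mem_left _ _ hk),
      by linear_combination hwe + a * hse + y' * hkl⟩))
  exact mem_pair_mul.2 ⟨d, hd, l, hl, by linear_combination hde⟩

variable [IsNoetherianRing A] [IsIntegrallyClosed A]

theorem canon_of_pair (hdim : ringKrullDim A = 2) {J : Ideal A} (hne : J ≠ ⊥) {X Y : A} (h : IsPair X Y)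
    (hreg : ∀ v ∈ J, Y * v ∈ Ideal.span {X} * J → v ∈ Ideal.span {X} * J)
    (hs : ∃ s ∈ J, (∀ c ∈ maximalIdeal A, c * s ∈ Ideal.span {X, Y} * J) ∧
      ∀ v ∈ J, (∀ c ∈ maximalIdeal A, c * v ∈ Ideal.span {X, Y} * J) → ∃ a, v - a * s ∈ Ideal.span {X, Y} * J) :
    Canon J := by
  have hdep := fun x v (_ : x ∈ maximalIdeal A) (hx : x ≠ 0) (_ : v ∈ J) hc => dep_of_reg h hreg (v := v) hx hc
  refine ⟨hne, hdep, fun x y hxy => ?_⟩
  have key : ∀ {a b c : A}, IsPair a b → IsPair a c →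
      (∃ s ∈ J, (∀ e ∈ maximalIdeal A, e * s ∈ Ideal.span {a, b} * J) ∧
        ∀ v ∈ J, (∀ e ∈ maximalIdeal A, e * v ∈ Ideal.span {a, b} * J) → ∃ r, v - r * s ∈ Ideal.span {a, b} * J) →
      ∃ s ∈ J, (∀ e ∈ maximalIdeal A, e * s ∈ Ideal.span {a, c} * J) ∧
        ∀ v ∈ J, (∀ e ∈ maximalIdeal A, e * v ∈ Ideal.span {a, c} * J) → ∃ r, v - r * s ∈ Ideal.span {a, c} * J :=
    fun hab hac => soc_change (fun _ => reg_of_dep hdep hab) (fun _ => reg_of_dep hdep hac)
      (hab.1 (Ideal.subset_span (by simp))) (hac.1 (Ideal.subset_span (by simp)))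
  obtain ⟨z, hz, hz'⟩ := CMType13.exists_isPair hdim (h.1 (Ideal.subset_span (by simp))) h.2.1
    (hxy.1 (Ideal.subset_span (by simp))) hxy.2.1
  refine key hz' hxy ?_
  rw [Set.pair_comm x z]
  refine key hz.symm hz'.symm ?_
  rw [Set.pair_comm z X]
  exact key h hz hs

/-- A principal ideal of type one only occurs in multiplicity two. -/
theorem mu_le_two_of_canon (hdim : ringKrullDim A = 2) {μ : ℕ} (hμ : 2 ≤ μ)
    (hH : ∀ r : ℕ, Module.length A (↥(maximalIdeal A ^ r) ⧸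
      Submodule.comap (maximalIdeal A ^ r).subtype (maximalIdeal A ^ (r + 1))) = ((r * μ + 1 : ℕ) : ℕ∞))
    {J : Ideal A} (hJ : Canon J) {c : A} (hc : J = Ideal.span {c}) : μ ≤ 2 := by
  obtain ⟨x, hx, hx0⟩ := Submodule.exists_mem_ne_zero_of_ne_bot
    (show maximalIdeal A ≠ ⊥ from fun h => by
      rw [ringKrullDim_eq_zero_of_isField (IsLocalRing.isField_iff_maximalIdeal_eq.2 h)] at hdim
      exact absurd hdim (by decide))
  obtain ⟨y, hxy, -⟩ := CMType13.exists_isPair hdim hx hx0 hx hx0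
  have hc0 : c ≠ 0 := fun h => hJ.ne_bot (by rw [hc, h, Ideal.span_singleton_eq_bot.2 rfl])
  set I := Ideal.span ({x, y} : Set A)
  have hmem : ∀ {v : A}, c * v ∈ I * J ↔ v ∈ I := fun {v} => by
    rw [hc, mul_comm I, Ideal.mem_span_singleton_mul]
    exact ⟨fun ⟨w, hw, e⟩ => mul_left_cancel₀ hc0 e ▸ hw, fun h => ⟨v, h, rfl⟩⟩
  obtain ⟨s, hs, hsoc, hgen⟩ := hJ.soc x y hxy
  rw [hc, Ideal.mem_span_singleton] at hs
  obtain ⟨s, rfl⟩ := hs
  have hs0 : ∀ b ∈ maximalIdeal A, b * s ∈ I := fun b hb => hmem.1 (by rw [mul_left_comm]; exact hsoc b hb)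
  have hle : CMType13.soc I ≤ Submodule.span A {Submodule.Quotient.mk s} := by
    intro v hv
    obtain ⟨z, rfl⟩ := Submodule.Quotient.mk_surjective _ v
    rw [CMType13.mk_mem_soc] at hv
    obtain ⟨a, ha⟩ := hgen (c * z) (hc ▸ Ideal.mem_span_singleton.2 ⟨z, rfl⟩) fun b hb => by
      rw [mul_left_comm]; exact hmem.2 (hv b hb)
    rw [show c * z - a * (c * s) = c * (z - a * s) by ring, hmem] at ha
    refine Submodule.mem_span_singleton.2 ⟨a, ?_⟩
    rw [← Submodule.Quotient.mk_smul, Submodule.Quotient.eq, smul_eq_mul, ← neg_sub]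
    exact neg_mem ha
  let f : (A ⧸ maximalIdeal A) →ₗ[A] A ⧸ I := (maximalIdeal A).liftQ (LinearMap.toSpanSingleton A _ (Submodule.Quotient.mk s))
    fun b hb => by
      rw [LinearMap.mem_ker, LinearMap.toSpanSingleton_apply, ← Submodule.Quotient.mk_smul, Submodule.Quotient.mk_eq_zero]
      exact hs0 b hb
  have hrange : CMType13.soc I ≤ LinearMap.range f := hle.trans (by
    rw [Submodule.span_singleton_le_iff_mem]
    exact ⟨Submodule.Quotient.mk 1, by simp only [f, Submodule.liftQ_apply, LinearMap.toSpanSingleton_apply, one_smul]⟩)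
  haveI : IsSimpleModule A (A ⧸ maximalIdeal A) := isSimpleModule_iff_isCoatom.2 (maximalIdeal.isMaximal A).out
  have h1 : Module.length A (CMType13.soc I) ≤ 1 :=
    (Module.length_le_of_injective _ (Submodule.inclusion_injective hrange)).trans
      ((Module.length_le_of_surjective _ f.surjective_rangeRestrict).trans (Module.length_eq_one_iff.2 inferInstance).le)
  rw [CMType13.length_soc_pair A hdim hμ hH hxy] at h1
  have : μ - 1 ≤ 1 := by exact_mod_cast h1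
  omega

end Groth.Agent.RDPChain13
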