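import Groth.Agent.RDPChain13.Canon
import Groth.Agent.CAlgH3.CanonicalIdeal
import Groth.Agent.CAlgH3.CMRing
import Groth.Agent.CAlgH3.CanonicalGeneral

/-! Images of Gorenstein rings have ideals of type one. -/

set_option autoImplicit false
set_option linter.style.haveILetI false
set_option linter.unusedSectionVars false

universe u

open IsLocalRing
open scoped Pointwise

namespace Groth.Agent.RDPChain13

open CMType13 (IsPair)

/-- A two-dimensional normal image of a Gorenstein ring has an ideal of type one. -/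
theorem exists_canon {A R' : Type u} [CommRing A] [IsLocalRing A] [IsDomain A] [IsNoetherianRing A]
    [IsIntegrallyClosed A] [CommRing R'] [_root_.LocCoh.IsGorensteinLocalRing R'] (g : R' →+* A)
    (hg : Function.Surjective g) (hdim : ringKrullDim A = 2) : ∃ J : Ideal A, Canon J := by
  classical
  have hn : ringKrullDim A = ((2 : ℕ) : WithBot ℕ∞) := by rw [hdim]; rfl
  haveI hcm : _root_.LocCoh.IsCohenMacaulayLocalRing A := by
    refine (CAlgH3.isCohenMacaulayLocalRing_iff_depth A).2 (le_antisymm ?_ ?_)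
    · rw [hdim]; exact WithBot.coe_le_coe.2 (CAlgH3.two_le_depth_of_normal (R := A) hdim.ge)
    · exact (CAlgH3.depth_le_supportDim (R := A) (M := A)).trans_eq (Module.supportDim_self_eq_ringKrullDim A)
  obtain ⟨E, _, _, hE⟩ := Matlis6.exists_isHullAt (maximalIdeal A)
  obtain ⟨K, hKfin, ⟨eK⟩⟩ := LocCoh.exists_canonicalModule_of_gorenstein_image g hg hn hE
  haveI := hKfin
  obtain ⟨J, ⟨e⟩⟩ : ∃ J : Ideal A, Nonempty (K ≃ₗ[A] J) := by
    rcases CAlgH3.CanonicalIdeal.exists_ideal hn hE eK with ⟨⟨e⟩⟩ | ⟨I, -, -, he⟩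
    · exact ⟨⊤, ⟨e.trans (LinearEquiv.ofTop _ rfl).symm⟩⟩
    · exact ⟨I, he⟩
  let eJ : (J →ₗ[A] E) ≃ₗ[A] _root_.LocCoh.H (maximalIdeal A) 2 A := (e.congrLeft E A).symm.trans eK
  obtain ⟨x, hx, hx0⟩ := Submodule.exists_mem_ne_zero_of_ne_bot
    (show maximalIdeal A ≠ ⊥ from fun h => by
      rw [ringKrullDim_eq_zero_of_isField (IsLocalRing.isField_iff_maximalIdeal_eq.2 h)] at hdim
      exact absurd hdim (by decide))
  obtain ⟨y, hxy, -⟩ := CMType13.exists_isPair hdim hx hx0 hx hx0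
  set I := Ideal.span ({x, y} : Set A)
  have hyq : y ∈ maximalIdeal A := hxy.1 (Ideal.subset_span (by simp))
  have hmem : ∀ a ∈ [x, y], a ∈ maximalIdeal A := fun a ha => by
    rcases List.mem_pair.1 ha with rfl | rfl
    exacts [hx, hyq]
  have hlist : Ideal.ofList [x, y] = I := by
    rw [Ideal.ofList_cons, Ideal.ofList_cons, Ideal.ofList_nil, sup_bot_eq]
    exact (Ideal.span_insert x {y}).symm
  have hsing : ∀ v : A, v ∈ (x • ⊤ : Submodule A A) ↔ v ∈ Ideal.span {x} := fun v => by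
    rw [Submodule.mem_smul_pointwise_iff_exists, Ideal.mem_span_singleton']
    exact ⟨fun ⟨c, _, hc⟩ => ⟨c, by rw [← hc, smul_eq_mul, mul_comm]⟩, fun ⟨c, hc⟩ => ⟨c, trivial, by rw [← hc, smul_eq_mul, mul_comm]⟩⟩
  have hregA : RingTheory.Sequence.IsRegular A [x, y] := by
    refine (isRegular_iff_isWeaklyRegular_of_subset_maximalIdeal hmem).2 ?_
    refine (RingTheory.Sequence.isWeaklyRegular_cons_iff A x [y]).2 ⟨fun a b h => mul_left_cancel₀ hx0 h,
      (RingTheory.Sequence.isWeaklyRegular_cons_iff _ y []).2 ⟨fun v w hvw => ?_, RingTheory.Sequence.IsWeaklyRegular.nil _ _⟩⟩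
    obtain ⟨v, rfl⟩ := Submodule.Quotient.mk_surjective _ v
    obtain ⟨w, rfl⟩ := Submodule.Quotient.mk_surjective _ w
    simp only at hvw
    rw [← Submodule.Quotient.mk_smul, ← Submodule.Quotient.mk_smul, Submodule.Quotient.eq, hsing, ← smul_sub] at hvw
    rw [Submodule.Quotient.eq, hsing]
    exact CMType13.mem_span_of_mul_mem hdim hxy hvw
  have hregJ := ((LocCoh.isRegular_iff_canonical hE hn eJ [x, y] hmem).1).1 hregA
  obtain ⟨k, hk⟩ := hxy.2.2.2
  obtain ⟨θ⟩ := LocCoh.nonempty_quotient_equiv_torsionBy_H (maximalIdeal A) [x, y] A hmem hregA.toIsWeaklyRegular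
    (fun a ha => Ideal.mem_radical_iff.2 ⟨k, Submodule.mem_sup_left (hlist.symm ▸ hk (Ideal.pow_mem_pow ha k))⟩)
  have hne : J ≠ ⊥ := fun h => by
    have hne := hregJ.top_ne_smul
    exact hne (Submodule.ext fun v => ⟨fun _ => by
      have : (v : A) ∈ (⊥ : Ideal A) := h ▸ v.2
      rw [show v = 0 from Subtype.ext ((Submodule.mem_bot A).1 this)]
      exact zero_mem _, fun _ => trivial⟩)
  -- the functional
  let ξ : A ⧸ (Ideal.ofList [x, y] • (⊤ : Submodule A A)) := Submodule.Quotient.mk 1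
  let f₀ : J →ₗ[A] E := eJ.symm (θ ξ).1
  have hgen : ∀ f : J →ₗ[A] E, (∀ a ∈ I, a • f = 0) → ∃ a : A, f = a • f₀ := by
    intro f hf
    let w : _root_.LocCoh.torsionBy (Ideal.ofList [x, y]) (_root_.LocCoh.H (maximalIdeal A) 2 A) :=
      ⟨eJ f, (Submodule.mem_torsionBySet_iff _ _).2 fun a => by
        show (a : A) • eJ f = 0
        rw [← map_smul, hf a.1 (hlist ▸ a.2), map_zero]⟩
    obtain ⟨a, ha⟩ := Submodule.Quotient.mk_surjective _ (θ.symm w)
    refine ⟨a, eJ.injective ?_⟩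
    rw [map_smul, LinearEquiv.apply_symm_apply, ← Submodule.coe_smul, ← map_smul,
      show a • ξ = Submodule.Quotient.mk a from (Submodule.Quotient.mk_smul _ a (1 : A)).symm.trans (congrArg _ (mul_one a)), ha, θ.apply_symm_apply]
  have hf₀ : ∀ v : J, (v : A) ∈ I * J → f₀ v = 0 := by
    have hkill : ∀ a ∈ I, a • f₀ = 0 := fun a ha => eJ.injective (by
      rw [map_smul, LinearEquiv.apply_symm_apply, map_zero]
      exact (Submodule.mem_torsionBySet_iff _ _).1 (θ ξ).2 ⟨a, hlist.symm ▸ ha⟩)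
    intro v hv
    obtain ⟨p, hp, w, hw, he⟩ := mem_pair_mul.1 hv
    rw [show v = x • ⟨p, hp⟩ + y • (⟨w, hw⟩ : J) from Subtype.ext he.symm, map_add, map_smul, map_smul,
      ← LinearMap.smul_apply, ← LinearMap.smul_apply, hkill x (Ideal.subset_span (by simp)),
      hkill y (Ideal.subset_span (by simp))]
    simp
  let IJ : Submodule A J := Submodule.comap J.subtype (I * J)
  have hsep : ∀ v : J, f₀ v = 0 → (∀ c ∈ maximalIdeal A, c * (v : A) ∈ I * J) → (v : A) ∈ I * J := by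
    intro v hv0 hv
    by_contra hn'
    obtain ⟨χ, hχ⟩ := hE.exists_apply_ne_zero (G := J ⧸ IJ) (x := Submodule.Quotient.mk v) fun r hr => by
      by_contra hru
      obtain ⟨u, hu⟩ := not_not.1 hru
      rw [← Submodule.Quotient.mk_smul, Submodule.Quotient.mk_eq_zero] at hr
      refine hn' ?_
      have h1 : r * (v : A) ∈ I * J := hr
      have h2 := Ideal.mul_mem_left _ (↑u⁻¹ : A) h1
      rwa [← hu, ← mul_assoc, Units.inv_mul, one_mul] at h2
    obtain ⟨a, ha⟩ := hgen (χ.comp IJ.mkQ) fun a ha => LinearMap.ext fun w => by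
      show a • χ (Submodule.Quotient.mk w) = 0
      rw [← map_smul, ← Submodule.Quotient.mk_smul,
        (Submodule.Quotient.mk_eq_zero IJ).2 (show a * (w : A) ∈ I * J from Ideal.mul_mem_mul ha w.2), map_zero]
    refine hχ ?_
    have h3 := LinearMap.congr_fun ha v
    rw [LinearMap.smul_apply, hv0, smul_zero] at h3
    exact h3
  refine ⟨J, canon_of_pair hdim hne hxy (fun v hv hyv => ?_) ?_⟩
  · obtain ⟨p, hp, he⟩ := Ideal.mem_span_singleton_mul.1 hyv
    have h2 := ((RingTheory.Sequence.isWeaklyRegular_cons_iff J x [y]).1 hregJ.toIsWeaklyRegular).2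
    have h3 := ((RingTheory.Sequence.isWeaklyRegular_cons_iff _ y []).1 h2).1
    have hq : (Submodule.Quotient.mk (⟨v, hv⟩ : J) : QuotSMulTop x J) = 0 := h3.right_eq_zero_of_smul (by
      rw [← Submodule.Quotient.mk_smul, Submodule.Quotient.mk_eq_zero, Submodule.mem_smul_pointwise_iff_exists]
      exact ⟨⟨p, hp⟩, trivial, Subtype.ext he⟩)
    rw [Submodule.Quotient.mk_eq_zero, Submodule.mem_smul_pointwise_iff_exists] at hq
    obtain ⟨d, -, hd⟩ := hq
    exact Ideal.mem_span_singleton_mul.2 ⟨d.1, d.2, congrArg Subtype.val hd⟩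
  by_cases hall : ∀ v ∈ J, (∀ c ∈ maximalIdeal A, c * v ∈ I * J) → v ∈ I * J
  · exact ⟨0, zero_mem _, fun c _ => by simp, fun v hv h => ⟨0, by simpa using hall v hv h⟩⟩
  push Not at hall
  obtain ⟨v₀, hv₀, hv₀s, hv₀n⟩ := hall
  obtain ⟨ε, hε, hεm, hεgen⟩ := hE.eq_smul_of_killed
  have hline : ∀ v : J, (∀ c ∈ maximalIdeal A, c * (v : A) ∈ I * J) → ∃ c : A, f₀ v = c • ε := fun v hv =>
    hεgen _ fun a ha => by rw [← map_smul]; exact hf₀ _ (hv a ha)
  obtain ⟨c₀, hc₀⟩ := hline ⟨v₀, hv₀⟩ hv₀s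
  have hc₀u : IsUnit c₀ := by
    by_contra hu
    exact hv₀n (hsep ⟨v₀, hv₀⟩ (by rw [hc₀, hεm _ hu]) hv₀s)
  obtain ⟨u, rfl⟩ := hc₀u
  refine ⟨v₀, hv₀, hv₀s, fun v hv hvs => ?_⟩
  obtain ⟨c, hc⟩ := hline ⟨v, hv⟩ hvs
  refine ⟨c * ↑u⁻¹, hsep ⟨v - c * ↑u⁻¹ * v₀, sub_mem hv (Ideal.mul_mem_left _ _ hv₀)⟩ ?_ fun b hb => ?_⟩
  · rw [show (⟨v - c * ↑u⁻¹ * v₀, sub_mem hv (Ideal.mul_mem_left _ _ hv₀)⟩ : J) = ⟨v, hv⟩ - (c * ↑u⁻¹) • ⟨v₀, hv₀⟩ from rfl,
      map_sub, map_smul, hc, hc₀, smul_smul, mul_assoc, Units.inv_mul, mul_one, sub_self]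
  · rw [mul_sub]
    exact sub_mem (hvs b hb) (by rw [mul_left_comm]; exact Ideal.mul_mem_left _ _ (hv₀s b hb))

end Groth.Agent.RDPChain13
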