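import Groth.Agent.RDPChain13.Canon
import Groth.Agent.CMType13.Extension

/-! Ideals of type one and passage to `A(T)`. -/

set_option autoImplicit false
set_option linter.style.haveILetI false
set_option linter.unusedSectionVars false

universe u

open IsLocalRing Polynomial

namespace Groth.Agent.RDPChain13.CanonExt

open CMType13 (IsPair Ext)

variable {A : Type u} [CommRing A] [IsLocalRing A]

local notation "A'" => CMType13.Ext A
local notation "ι" => algebraMap A (CMType13.Ext A)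
local notation "λ'" => algebraMap (Polynomial A) (CMType13.Ext A)

theorem exists_unit_coeff {g : A[X]} (hg : g ∉ CMType13.P A) : ∃ i, IsUnit (g.coeff i) := by
  by_contra h
  push Not at h
  exact hg (Ideal.mem_map_C_iff.2 fun i => h i)

theorem coeff_mem_of_mul {K : Ideal A} {f g : A[X]} (hg : g ∉ CMType13.P A) (h : ∀ i, (g * f).coeff i ∈ K) (i : ℕ) :
    f.coeff i ∈ K := by
  obtain ⟨j, hj⟩ := exists_unit_coeff hg
  let q := Ideal.Quotient.mk K
  have hreg : g.map q ∈ nonZeroDivisors (A ⧸ K)[X] := by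
    refine Polynomial.mem_nonZeroDivisors_iff.2 fun a ha => ?_
    have h1 := congrArg (fun P => P.coeff j) ha
    simp only [coeff_smul, coeff_map, coeff_zero, smul_eq_mul] at h1
    exact (hj.map q).mul_left_eq_zero.1 h1
  have h0 : g.map q * f.map q = 0 := by
    rw [← Polynomial.map_mul]
    ext k
    rw [coeff_map, coeff_zero]
    exact Ideal.Quotient.eq_zero_iff_mem.2 (h k)
  have hf : f.map q = 0 := mem_nonZeroDivisors_iff_left.1 hreg _ h0
  rw [← Ideal.Quotient.eq_zero_iff_mem, ← coeff_map, hf, coeff_zero]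

theorem map_eq (K : Ideal A) : K.map ι = (K.map Polynomial.C).map λ' := by
  rw [Ideal.map_map]; rfl

theorem mem_map_iff {K : Ideal A} {f : A[X]} : λ' f ∈ K.map ι ↔ ∀ i, f.coeff i ∈ K := by
  rw [map_eq]
  constructor
  · intro h
    obtain ⟨c, hc, hcf⟩ := (IsLocalization.algebraMap_mem_map_algebraMap_iff (CMType13.P A).primeCompl _ _ f).1 h
    exact coeff_mem_of_mul hc (Ideal.mem_map_C_iff.1 hcf)
  · exact fun h => Ideal.mem_map_of_mem _ (Ideal.mem_map_C_iff.2 h)

theorem exists_rep {K : Ideal A} {v : A'} (hv : v ∈ K.map ι) :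
    ∃ (f g : A[X]), g ∉ CMType13.P A ∧ (∀ i, f.coeff i ∈ K) ∧ v * λ' g = λ' f := by
  rw [map_eq, IsLocalization.mem_map_algebraMap_iff (CMType13.P A).primeCompl] at hv
  obtain ⟨⟨⟨f, hf⟩, ⟨g, hg⟩⟩, h⟩ := hv
  exact ⟨f, g, hg, Ideal.mem_map_C_iff.1 hf, h⟩

theorem isUnit_lam {g : A[X]} (hg : g ∉ CMType13.P A) : IsUnit (λ' g) :=
  IsLocalization.map_units A' (⟨g, hg⟩ : (CMType13.P A).primeCompl)

theorem lam_C (a : A) : λ' (C a) = ι a := rfl

theorem inj_iota : Function.Injective ι := fun a b h => by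
  have h1 : λ' (C (a - b)) ∈ (⊥ : Ideal A).map ι := by
    rw [lam_C, map_sub, h, sub_self]; exact zero_mem _
  have := mem_map_iff.1 h1 0
  simpa [sub_eq_zero] using this

theorem isPair_map [IsDomain A] {x y : A} (h : IsPair x y) : IsPair (ι x) (ι y) := by
  obtain ⟨h1, hx, hy, k, hk⟩ := h
  have hI : (Ideal.span ({x, y} : Set A)).map ι = Ideal.span {ι x, ι y} := by rw [Ideal.map_span, Set.image_pair]
  refine ⟨?_, fun e => hx (inj_iota (by rw [e, map_zero])), fun e => hy (inj_iota (by rw [e, map_zero])), k, ?_⟩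
  · rw [← hI, ← CMType13.map_maximalIdeal A]; exact Ideal.map_mono h1
  · rw [← hI, ← CMType13.map_maximalIdeal A, ← Ideal.map_pow]; exact Ideal.map_mono hk

variable [IsDomain A] [IsNoetherianRing A] [IsIntegrallyClosed A]

theorem instances : IsNoetherianRing A' ∧ IsDomain A' ∧ IsIntegrallyClosed A' := by
  haveI : IsDomain A' := IsLocalization.isDomain_localization (CMType13.P A).primeCompl_le_nonZeroDivisors
  exact ⟨IsLocalization.isNoetherianRing (CMType13.P A).primeCompl _ inferInstance, inferInstance,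
    isIntegrallyClosed_of_isLocalization A' (CMType13.P A).primeCompl (CMType13.P A).primeCompl_le_nonZeroDivisors⟩

theorem map_pair_mul (x y : A) (J : Ideal A) :
    (Ideal.span {x, y} * J).map ι = Ideal.span {ι x, ι y} * J.map ι := by
  rw [Ideal.map_mul, Ideal.map_span, Set.image_pair]

theorem map_singleton_mul (x : A) (J : Ideal A) : (Ideal.span {x} * J).map ι = Ideal.span {ι x} * J.map ι := by
  rw [Ideal.map_mul, Ideal.map_span, Set.image_singleton]

theorem map_canon (hdim : ringKrullDim A = 2) {J : Ideal A} (hJ : Canon J) : Canon (J.map ι) := by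
  obtain ⟨i1, i2, i3⟩ := instances (A := A)
  obtain ⟨x, hx, hx0⟩ := Submodule.exists_mem_ne_zero_of_ne_bot
    (show maximalIdeal A ≠ ⊥ from fun h => by
      rw [ringKrullDim_eq_zero_of_isField (IsLocalRing.isField_iff_maximalIdeal_eq.2 h)] at hdim
      exact absurd hdim (by decide))
  obtain ⟨y, hxy, -⟩ := CMType13.exists_isPair hdim hx hx0 hx hx0
  refine canon_of_pair ((CMType13.ringKrullDim_ext A).trans hdim)
    (fun h => hJ.ne_bot ((Ideal.map_eq_bot_iff_of_injective inj_iota).1 h)) (isPair_map hxy) (fun v hv hyv => ?_) ?_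
  · obtain ⟨f, g, hg, hf, he⟩ := exists_rep hv
    rw [← map_singleton_mul] at hyv ⊢
    refine (Ideal.mul_unit_mem_iff_mem _ (isUnit_lam hg)).1 ?_
    rw [he]
    refine mem_map_iff.2 fun i => hJ.reg hxy (hf i) ?_
    have h1 : λ' (C y * f) ∈ (Ideal.span {x} * J).map ι := by
      rw [map_mul, lam_C, ← he, ← mul_assoc]
      exact Ideal.mul_mem_right _ _ hyv
    simpa using mem_map_iff.1 h1 i
  · obtain ⟨s, hs, hsoc, hgen⟩ := hJ.soc x y hxy
    rw [← map_pair_mul, ← CMType13.map_maximalIdeal A]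
    refine ⟨ι s, Ideal.mem_map_of_mem _ hs, fun c hc => ?_, fun v hv hvs => ?_⟩
    · obtain ⟨f, g, hg, hf, he⟩ := exists_rep hc
      refine (Ideal.mul_unit_mem_iff_mem _ (isUnit_lam hg)).1 ?_
      rw [mul_right_comm, he, ← lam_C, ← map_mul]
      exact mem_map_iff.2 fun i => by rw [coeff_mul_C]; exact hsoc _ (hf i)
    · obtain ⟨f, g, hg, hf, he⟩ := exists_rep hv
      have hsf : ∀ i, ∃ a, f.coeff i - a * s ∈ Ideal.span {x, y} * J := fun i => hgen _ (hf i) fun c hc => by
        have h1 : λ' (C c * f) ∈ (Ideal.span {x, y} * J).map ι := by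
          rw [map_mul, lam_C, ← he, ← mul_assoc]
          exact Ideal.mul_mem_right _ _ (hvs _ (Ideal.mem_map_of_mem _ hc))
        simpa using mem_map_iff.1 h1 i
      choose a ha using hsf
      let aP : A[X] := ∑ i ∈ f.support, monomial i (a i)
      obtain ⟨u, hu⟩ := isUnit_lam hg
      refine ⟨(↑u⁻¹ : A') * λ' aP, ?_⟩
      refine (Ideal.mul_unit_mem_iff_mem _ (isUnit_lam hg)).1 ?_
      have h2 : ∀ i, (f - aP * C s).coeff i ∈ Ideal.span {x, y} * J := fun i => by
        simp only [aP, coeff_sub, coeff_mul_C, finsetSum_coeff, coeff_monomial, Finset.sum_ite_eq', mem_support_iff]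
        split_ifs with h0
        · simpa using ha i
        · simp [notMem_support_iff.1 h0]
      rw [sub_mul, he, ← hu]
      have h3 := mem_map_iff.2 h2
      rw [map_sub, map_mul, lam_C] at h3
      rwa [show (↑u⁻¹ : A') * λ' aP * ι s * ↑u = λ' aP * ι s by linear_combination (λ' aP * ι s) * u.inv_mul]

theorem canon_of_map (hdim : ringKrullDim A = 2) {J : Ideal A} (hJ : Canon (J.map ι)) : Canon J := by
  obtain ⟨x, hx, hx0⟩ := Submodule.exists_mem_ne_zero_of_ne_bot
    (show maximalIdeal A ≠ ⊥ from fun h => by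
      rw [ringKrullDim_eq_zero_of_isField (IsLocalRing.isField_iff_maximalIdeal_eq.2 h)] at hdim
      exact absurd hdim (by decide))
  obtain ⟨y, hxy, -⟩ := CMType13.exists_isPair hdim hx hx0 hx hx0
  have hcon : ∀ {K : Ideal A} {a : A}, ι a ∈ K.map ι → a ∈ K := fun {K a} h => by
    simpa using mem_map_iff.1 (show λ' (C a) ∈ K.map ι from h) 0
  refine canon_of_pair hdim (fun h => hJ.ne_bot (h ▸ Ideal.map_bot)) hxy (fun v hv hyv => hcon ?_) ?_
  · rw [map_singleton_mul]
    refine hJ.reg (isPair_map hxy) (Ideal.mem_map_of_mem _ hv) ?_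
    rw [← map_mul, ← map_singleton_mul]
    exact Ideal.mem_map_of_mem _ hyv
  · by_cases hall : ∀ v ∈ J, (∀ c ∈ maximalIdeal A, c * v ∈ Ideal.span {x, y} * J) → v ∈ Ideal.span {x, y} * J
    · exact ⟨0, zero_mem _, fun c _ => by simp, fun v hv h => ⟨0, by simpa using hall v hv h⟩⟩
    push Not at hall
    obtain ⟨v₀, hv₀, hv₀s, hv₀n⟩ := hall
    obtain ⟨s, hs, hsoc, hgen⟩ := hJ.soc _ _ (isPair_map hxy)
    have hgen' : ∀ v ∈ J, (∀ c ∈ maximalIdeal A, c * v ∈ Ideal.span {x, y} * J) →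
        ∃ a : A', ι v - a * s ∈ (Ideal.span {x, y} * J).map ι := fun v hv hvs => by
      rw [map_pair_mul]
      refine hgen _ (Ideal.mem_map_of_mem _ hv) fun c hc => ?_
      rw [← CMType13.map_maximalIdeal A] at hc
      rw [← map_pair_mul]
      induction hc using Submodule.span_induction with
      | mem c hc =>
        obtain ⟨b, hb, rfl⟩ := hc
        rw [← map_mul]; exact Ideal.mem_map_of_mem _ (hvs b hb)
      | zero => simp
      | add a b _ _ ha hb => rw [add_mul]; exact add_mem ha hb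
      | smul r a _ ha => rw [smul_eq_mul, mul_assoc]; exact Ideal.mul_mem_left _ _ ha
    obtain ⟨a₀, ha₀⟩ := hgen' v₀ hv₀ hv₀s
    have ha₀u : IsUnit a₀ := by
      by_contra hu
      refine hv₀n (hcon ?_)
      have h1 : a₀ * s ∈ (Ideal.span {x, y} * J).map ι := by rw [map_pair_mul]; exact hsoc _ hu
      simpa using add_mem ha₀ h1
    obtain ⟨u, rfl⟩ := ha₀u
    refine ⟨v₀, hv₀, hv₀s, fun v hv hvs => ?_⟩
    obtain ⟨a, ha⟩ := hgen' v hv hvs
    have h1 : ι v - (a * ↑u⁻¹) * ι v₀ ∈ (Ideal.span {x, y} * J).map ι := by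
      rw [show ι v - (a * ↑u⁻¹) * ι v₀ = (ι v - a * s) - (a * ↑u⁻¹) * (ι v₀ - ↑u * s) by
        linear_combination -(a * s) * u.inv_mul]
      exact sub_mem ha (Ideal.mul_mem_left _ _ ha₀)
    obtain ⟨⟨f, g⟩, hfg⟩ := IsLocalization.surj (CMType13.P A).primeCompl (a * (↑u⁻¹ : A'))
    obtain ⟨i, hi⟩ := exists_unit_coeff g.2
    have h2 : λ' (C v * (g : A[X]) - f * C v₀) ∈ (Ideal.span {x, y} * J).map ι := by
      rw [map_sub, map_mul, map_mul, lam_C, lam_C, ← hfg,
        show ι v * λ' (g : A[X]) - a * ↑u⁻¹ * λ' (g : A[X]) * ι v₀ = λ' (g : A[X]) * (ι v - a * ↑u⁻¹ * ι v₀) by ring]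
      exact Ideal.mul_mem_left _ _ h1
    have h3 := mem_map_iff.1 h2 i
    rw [coeff_sub, coeff_C_mul, coeff_mul_C] at h3
    obtain ⟨w, hw⟩ := hi
    refine ⟨(↑w⁻¹ : A) * f.coeff i, ?_⟩
    rw [← hw] at h3
    have h4 := Ideal.mul_mem_left _ (↑w⁻¹ : A) h3
    rwa [show (↑w⁻¹ : A) * (v * ↑w - f.coeff i * v₀) = v - ↑w⁻¹ * f.coeff i * v₀ by linear_combination v * w.inv_mul] at h4

end Groth.Agent.RDPChain13.CanonExt
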