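import Groth.Agent.RDPChain13.Curve

/-! Singular points of the blow-up of a double point, in coordinates. -/

set_option autoImplicit false

universe u

open IsLocalRing

namespace Groth.Agent.RDPChain13

variable {A A₁ : Type u} [CommRing A] [IsLocalRing A] [CommRing A₁] [IsLocalRing A₁]

/-- `A₁` is the local ring of a singular closed point of the blow-up of `A` at its maximal ideal. -/
structure Child (φ : A →+* A₁) : Prop where
  le : (maximalIdeal A).map φ ≤ maximalIdeal A₁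
  principal : ∃ X ∈ maximalIdeal A, (maximalIdeal A).map φ = Ideal.span {φ X}
  inj : Function.Injective φ
  ne_bot : maximalIdeal A ≠ ⊥
  gen : ∀ u : A₁, ∃ n : ℕ, ∃ b ∈ maximalIdeal A ^ n, ∃ d ∈ maximalIdeal A ^ n,
    (maximalIdeal A).map φ ^ n = Ideal.span {φ d} ∧ φ b = u * φ d
  alg : ∀ u : A₁, ∃ p : Polynomial A, p.Monic ∧ p.eval₂ φ u ∈ maximalIdeal A₁
  not_two : ∀ a b : A₁, maximalIdeal A₁ ≠ Ideal.span {a, b}

/-- Coordinates adapted to a point in the chart of `x`. -/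
structure Chart (φ : A →+* A₁) (x y z : A) (T Z : A₁) : Prop where
  child : Child φ
  span : maximalIdeal A = Ideal.span {x, y, z}
  ne : φ x ≠ 0
  map_eq : (maximalIdeal A).map φ = Ideal.span {φ x}
  hT : φ y = φ x * T
  hZ : φ z = φ x * Z

variable {φ : A →+* A₁} {x y z : A} {T Z : A₁}

theorem mem_of_map_mem {a : A} (h : φ a ∈ maximalIdeal A₁) : a ∈ maximalIdeal A :=
  fun ha => h (ha.map φ)

theorem Chart.mem (C : Chart φ x y z T Z) : φ x ∈ maximalIdeal A₁ :=
  C.child.le (C.map_eq ▸ Ideal.mem_span_singleton_self _)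

theorem Chart.dvd (C : Chart φ x y z T Z) {a : A} (ha : a ∈ maximalIdeal A) : ∃ k, φ a = φ x * k :=
  Ideal.mem_span_singleton.1 (C.map_eq ▸ Ideal.mem_map_of_mem φ ha)

theorem Chart.dvd_pow (C : Chart φ x y z T Z) {n : ℕ} {a : A} (ha : a ∈ maximalIdeal A ^ n) :
    ∃ k, φ a = φ x ^ n * k := by
  refine Ideal.mem_span_singleton.1 ?_
  rw [← Ideal.span_singleton_pow, ← C.map_eq, ← Ideal.map_pow]
  exact Ideal.mem_map_of_mem φ ha

theorem Chart.exists_eval (C : Chart φ x y z T Z) : ∀ {n : ℕ} {b : A}, b ∈ maximalIdeal A ^ n →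
    ∃ f : MvPolynomial (Fin 2) A, φ b = φ x ^ n * MvPolynomial.eval₂ φ ![T, Z] f
  | 0, b, _ => ⟨MvPolynomial.C b, by simp⟩
  | n + 1, b, hb => by
    rw [pow_succ'] at hb
    induction hb using Submodule.mul_induction_on' with
    | mem_mul_mem a ha c hc =>
      obtain ⟨f, hf⟩ := Chart.exists_eval C hc
      rw [C.span] at ha
      obtain ⟨p, a', ha', rfl⟩ := Ideal.mem_span_insert.1 ha
      obtain ⟨q, r, rfl⟩ := Ideal.mem_span_pair.1 ha'
      refine ⟨(MvPolynomial.C p + MvPolynomial.C q * MvPolynomial.X 0 + MvPolynomial.C r * MvPolynomial.X 1) * f, ?_⟩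
      simp [hf, C.hT, C.hZ, pow_succ]
      ring
    | add a _ c _ ha hc =>
      obtain ⟨f, hf⟩ := ha
      obtain ⟨g, hg⟩ := hc
      exact ⟨f + g, by rw [map_add, hf, hg, MvPolynomial.eval₂_add, mul_add]⟩

theorem Child.exists_chart [IsDomain A₁] (h : Child φ) (hm : maximalIdeal A = Ideal.span {x, y, z}) :
    (∃ T Z, Chart φ x y z T Z) ∨ (∃ T Z, Chart φ y x z T Z) ∨ (∃ T Z, Chart φ z x y T Z) := by
  obtain ⟨X, hX, hW⟩ := h.principal
  have hX0 : φ X ≠ 0 := fun h0 => h.ne_bot <| by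
    rw [h0, Ideal.span_singleton_eq_bot.2 rfl, Ideal.map_eq_bot_iff_of_injective h.inj] at hW
    exact hW
  have hd : ∀ a ∈ maximalIdeal A, ∃ k, φ a = φ X * k := fun a ha =>
    Ideal.mem_span_singleton.1 (hW ▸ Ideal.mem_map_of_mem φ ha)
  obtain ⟨a, ha⟩ := hd x (hm ▸ Ideal.subset_span (by simp))
  obtain ⟨b, hb⟩ := hd y (hm ▸ Ideal.subset_span (by simp))
  obtain ⟨c, hc⟩ := hd z (hm ▸ Ideal.subset_span (by simp))
  have mk : ∀ (x y z : A) (a b c : A₁), maximalIdeal A = Ideal.span {x, y, z} → φ x = φ X * a → φ y = φ X * b →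
      φ z = φ X * c → IsUnit a → ∃ T Z, Chart φ x y z T Z := by
    intro x y z a b c hm ha hb hc hu
    obtain ⟨a, rfl⟩ := hu
    refine ⟨(a⁻¹ : A₁ˣ) * b, (a⁻¹ : A₁ˣ) * c, h, hm, ?_, ?_, ?_, ?_⟩
    · rw [ha]; exact mul_ne_zero hX0 a.ne_zero
    · rw [hW, ha, Ideal.span_singleton_eq_span_singleton]
      exact ⟨a, rfl⟩
    · rw [ha, hb, mul_assoc, ← mul_assoc (a : A₁)]; simp
    · rw [ha, hc, mul_assoc, ← mul_assoc (a : A₁)]; simp
  by_contra! hcon
  obtain ⟨h1, h2, h3⟩ := hcon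
  have hu : a ∈ maximalIdeal A₁ ∧ b ∈ maximalIdeal A₁ ∧ c ∈ maximalIdeal A₁ :=
    ⟨fun hu => (mk x y z a b c hm ha hb hc hu).elim fun T ⟨Z, hC⟩ => h1 T Z hC,
      fun hu => (mk y x z b a c (by rw [hm, Set.insert_comm]) hb ha hc hu).elim fun T ⟨Z, hC⟩ => h2 T Z hC,
      fun hu => (mk z x y c a b (by rw [hm, Set.pair_comm y z, Set.insert_comm]) hc ha hb hu).elim
        fun T ⟨Z, hC⟩ => h3 T Z hC⟩
  have hX' := hm ▸ hX
  obtain ⟨p, w, hw, e⟩ := Ideal.mem_span_insert.1 hX'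
  obtain ⟨q, r, e'⟩ := Ideal.mem_span_pair.1 hw
  have e2 : φ X * 1 = φ X * (φ p * a + φ q * b + φ r * c) := by
    conv_lhs => rw [mul_one, e, ← e']
    simp only [map_add, map_mul, ha, hb, hc]
    ring
  refine (maximalIdeal.isMaximal A₁).ne_top ((Ideal.eq_top_iff_one _).2 ?_)
  rw [mul_left_cancel₀ hX0 e2]
  exact add_mem (add_mem (Ideal.mul_mem_left _ _ hu.1) (Ideal.mul_mem_left _ _ hu.2.1)) (Ideal.mul_mem_left _ _ hu.2.2)

theorem Chart.gen (C : Chart φ x y z T Z) [IsDomain A₁] (u : A₁) : ∃ f g : MvPolynomial (Fin 2) A,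
    IsUnit (MvPolynomial.eval₂ φ ![T, Z] g) ∧
      u * MvPolynomial.eval₂ φ ![T, Z] g = MvPolynomial.eval₂ φ ![T, Z] f := by
  obtain ⟨n, b, hb, d, hd, hdn, e⟩ := C.child.gen u
  obtain ⟨f, hf⟩ := C.exists_eval hb
  obtain ⟨g, hg⟩ := C.exists_eval hd
  rw [C.map_eq, Ideal.span_singleton_pow, Ideal.span_singleton_eq_span_singleton] at hdn
  obtain ⟨w, hw⟩ := hdn
  have hw' : MvPolynomial.eval₂ φ ![T, Z] g = (w : A₁) := mul_left_cancel₀ (pow_ne_zero n C.ne) (hg.symm.trans hw.symm)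
  refine ⟨f, g, hw' ▸ w.isUnit, mul_left_cancel₀ (pow_ne_zero n C.ne) ?_⟩
  rw [mul_left_comm, ← hg, ← e, hf]

theorem Chart.shift (C : Chart φ x y z T Z) (a b : A) :
    Chart φ x (y - a * x) (z - b * x) (T - φ a) (Z - φ b) := by
  refine ⟨C.child, C.span.trans (le_antisymm ?_ ?_), C.ne, C.map_eq,
    by rw [map_sub, map_mul, C.hT]; ring, by rw [map_sub, map_mul, C.hZ]; ring⟩ <;> rw [Ideal.span_le]
  · rintro w (rfl | rfl | rfl)
    · exact Ideal.subset_span (by simp)
    · exact (sub_add_cancel w (a * x)).subst (motive := fun v => v ∈ Ideal.span {x, w - a * x, z - b * x})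
        (add_mem (Ideal.subset_span (by simp)) (Ideal.mul_mem_left _ _ (Ideal.subset_span (by simp))))
    · exact (sub_add_cancel w (b * x)).subst (motive := fun v => v ∈ Ideal.span {x, y - a * x, w - b * x})
        (add_mem (Ideal.subset_span (by simp)) (Ideal.mul_mem_left _ _ (Ideal.subset_span (by simp))))
  · rintro w (rfl | rfl | rfl)
    · exact Ideal.subset_span (by simp)
    · exact sub_mem (Ideal.subset_span (by simp)) (Ideal.mul_mem_left _ _ (Ideal.subset_span (by simp)))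
    · exact sub_mem (Ideal.subset_span (by simp)) (Ideal.mul_mem_left _ _ (Ideal.subset_span (by simp)))

variable [IsNoetherianRing A₁]

theorem coeff_mem (hnt : ∀ a b : A₁, maximalIdeal A₁ ≠ Ideal.span {a, b}) {p q r a b c : A₁}
    (hm : maximalIdeal A₁ = Ideal.span {p, q, r}) (h : a * p + b * q + c * r ∈ maximalIdeal A₁ ^ 2) :
    a ∈ maximalIdeal A₁ ∧ b ∈ maximalIdeal A₁ ∧ c ∈ maximalIdeal A₁ := by
  have key : ∀ {p q r a b c : A₁}, maximalIdeal A₁ = Ideal.span {p, q, r} →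
      a * p + b * q + c * r ∈ maximalIdeal A₁ ^ 2 → a ∈ maximalIdeal A₁ := by
    intro p q r a b c hm h
    by_contra ha
    have hau : IsUnit a := not_not.1 ha
    have hq : q ∈ Ideal.span ({q, r} : Set A₁) := Ideal.subset_span (by simp)
    have hr : r ∈ Ideal.span ({q, r} : Set A₁) := Ideal.subset_span (by simp)
    refine hnt q r (le_antisymm ?_ (hm ▸ Ideal.span_mono (by simp)))
    refine Submodule.le_of_le_smul_of_le_jacobson_bot (IsNoetherian.noetherian _) (maximalIdeal_le_jacobson ⊥) ?_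
    rw [smul_eq_mul, ← pow_two]
    refine hm.le.trans (Ideal.span_le.2 ?_)
    rintro w (rfl | rfl | rfl)
    · refine (Ideal.unit_mul_mem_iff_mem _ hau).1 ?_
      rw [show a * w = -(b * q + c * r) + (a * w + b * q + c * r) by ring]
      exact Submodule.add_mem_sup (neg_mem (add_mem (Ideal.mul_mem_left _ _ hq) (Ideal.mul_mem_left _ _ hr))) h
    · exact Ideal.mem_sup_left hq
    · exact Ideal.mem_sup_left hr
  exact ⟨key hm h, key (p := q) (q := p) (r := r) (by rw [hm, Set.insert_comm]) (by rwa [add_comm (b * q)]),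
    key (p := r) (q := p) (r := q) (by rw [hm, Set.pair_comm q r, Set.insert_comm]) (by rwa [add_comm, ← add_assoc] at h)⟩

/-- A rational point of the chart. -/
theorem Chart.origin [IsDomain A₁] (C : Chart φ x y z T Z) (hT : T ∈ maximalIdeal A₁) (hZ : Z ∈ maximalIdeal A₁) :
    maximalIdeal A₁ = Ideal.span {φ x, T, Z} ∧ ∀ u : A₁, ∃ a : A, u - φ a ∈ maximalIdeal A₁ := by
  have hle : Ideal.span {φ x, T, Z} ≤ maximalIdeal A₁ :=
    Ideal.span_le.2 (Set.insert_subset C.mem (Set.insert_subset hT (by simpa using hZ)))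
  have key : ∀ f : MvPolynomial (Fin 2) A, MvPolynomial.eval₂ φ ![T, Z] f - φ (MvPolynomial.constantCoeff f) ∈
      Ideal.span {φ x, T, Z} := by
    intro f
    induction f using MvPolynomial.induction_on with
    | C c => simp
    | add p q hp hq => rw [MvPolynomial.eval₂_add, map_add, map_add, add_sub_add_comm]; exact add_mem hp hq
    | mul_X p i _ =>
      fin_cases i <;> simp <;> exact Ideal.mul_mem_left _ _ (Ideal.subset_span (by simp))
  refine ⟨le_antisymm (fun u hu => ?_) hle, fun u => ?_⟩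
  · obtain ⟨f, g, hg, e⟩ := C.gen u
    have h1 : MvPolynomial.eval₂ φ ![T, Z] f ∈ maximalIdeal A₁ := e ▸ Ideal.mul_mem_right _ _ hu
    have h2 : φ (MvPolynomial.constantCoeff f) ∈ maximalIdeal A₁ := by simpa using sub_mem h1 (hle (key f))
    obtain ⟨k, hk⟩ := C.dvd (mem_of_map_mem h2)
    refine (Ideal.mul_unit_mem_iff_mem _ hg).1 (e ▸ ?_)
    rw [← sub_add_cancel (MvPolynomial.eval₂ φ ![T, Z] f) (φ (MvPolynomial.constantCoeff f)), hk]
    exact add_mem (hk ▸ key f) (Ideal.mul_mem_right _ _ (Ideal.subset_span (by simp)))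
  · obtain ⟨f, g, hg, e⟩ := C.gen u
    have hg0 : IsUnit (φ (MvPolynomial.constantCoeff g)) := by
      by_contra h
      have := add_mem (hle (key g)) (show φ (MvPolynomial.constantCoeff g) ∈ maximalIdeal A₁ from h)
      rw [sub_add_cancel] at this
      exact this hg
    have hgA : IsUnit (MvPolynomial.constantCoeff g) := by
      by_contra h
      exact C.child.le (Ideal.mem_map_of_mem φ h) hg0
    obtain ⟨w, hw⟩ := hgA
    refine ⟨MvPolynomial.constantCoeff f * (w⁻¹ : Aˣ), (Ideal.mul_unit_mem_iff_mem _ hg0).1 ?_⟩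
    rw [sub_mul, ← map_mul, mul_assoc, ← hw, Units.inv_mul, mul_one, hw]
    have h3 := sub_mem (hle (key f)) (Ideal.mul_mem_left _ u (hle (key g)))
    rw [mul_sub, e, sub_sub_sub_cancel_left] at h3
    exact h3

end Groth.Agent.RDPChain13
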