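import Groth.Agent.CMType13.Colength

/-! Reductions with linear Hilbert function have reduction number one. -/

set_option autoImplicit false

universe u

open IsLocalRing

namespace Groth.Agent.RDPChain13

open CMType13

variable {A : Type u} [CommRing A] [IsLocalRing A] [IsDomain A] [IsNoetherianRing A] [IsIntegrallyClosed A]

/-- A parameter reduction of the maximal ideal has reduction number one. -/
theorem sq_eq_of_reduction (hdim : ringKrullDim A = 2) {μ : ℕ} (hμ : 2 ≤ μ)
    (hN : ∀ N : ℕ, Module.length A (A ⧸ maximalIdeal A ^ N) = ((μ * N.choose 2 + N : ℕ) : ℕ∞))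
    {x y : A} (h : IsPair x y) {s : ℕ} (hred : maximalIdeal A ^ (s + 1) = Ideal.span {x, y} * maximalIdeal A ^ s) :
    maximalIdeal A ^ 2 = Ideal.span {x, y} * maximalIdeal A := by
  classical
  set m := maximalIdeal A
  set J := Ideal.span ({x, y} : Set A)
  have hle : J ≤ m := h.1
  obtain ⟨k, hk⟩ := h.2.2.2
  have hfin : Module.length A (A ⧸ J) ≤ ((μ * k.choose 2 + k : ℕ) : ℕ∞) :=
    (Module.length_le_of_surjective _ (Submodule.factor_surjective hk)).trans (hN k).le
  obtain ⟨ℓ, hℓ⟩ := ENat.ne_top_iff_exists.1 (ne_top_of_le_ne_top (ENat.coe_ne_top _) hfin)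
  have hJn := length_span_pow hdim h hℓ.symm
  have hpow : ∀ n, m ^ (n + s) ≤ J ^ n := by
    have : ∀ n, m ^ (n + s) = J ^ n * m ^ s := by
      intro n
      induction n with
      | zero => simp
      | succ n ih => rw [show n + 1 + s = (n + s) + 1 by ring, pow_succ, ih, mul_assoc, ← pow_succ, hred, ← mul_assoc, ← pow_succ]
    exact fun n => (this n).trans_le Ideal.mul_le_left
  have hcomp : ∀ n, (n + 1).choose 2 * ℓ ≤ μ * (n + s).choose 2 + (n + s) ∧ μ * n.choose 2 + n ≤ (n + 1).choose 2 * ℓ := by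
    intro n
    have h1 := (Module.length_le_of_surjective _ (Submodule.factor_surjective (hpow n)))
    have h2 := (Module.length_le_of_surjective _ (Submodule.factor_surjective (Ideal.pow_right_mono hle n)))
    rw [hJn, hN] at h1 h2
    exact ⟨by exact_mod_cast h1, by exact_mod_cast h2⟩
  have hℓμ : ℓ = μ := by
    have c2 : ∀ a : ℕ, 2 * (a + 1).choose 2 = (a + 1) * a := by
      intro a
      induction a with
      | zero => rfl
      | succ a ih => rw [Nat.choose_succ_succ (a + 1) 1, Nat.choose_one_right, Nat.mul_add, ih]; ring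
    refine le_antisymm ?_ ?_
    · by_contra hc
      let n := 2 * μ * (s + 1) * (s + 1) + 2 * s + 4
      have h1 := (hcomp n).1
      obtain ⟨a, ha⟩ : ∃ a, n + s = a + 1 := ⟨n + s - 1, by omega⟩
      rw [ha] at h1
      have k0 : (n + 1).choose 2 * (μ + 1) ≤ μ * (a + 1).choose 2 + (a + 1) :=
        (Nat.mul_le_mul_left _ (show μ + 1 ≤ ℓ by omega)).trans h1
      have k1 : (μ + 1) * ((n + 1) * n) ≤ μ * ((a + 1) * a) + 2 * (a + 1) := by
        have e1 : (μ + 1) * ((n + 1) * n) = 2 * ((n + 1).choose 2 * (μ + 1)) := by rw [← c2 n]; ring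
        have e2 : μ * ((a + 1) * a) = 2 * (μ * (a + 1).choose 2) := by rw [← c2 a]; ring
        omega
      have hsn : s ≤ n := by omega
      have hn : μ * (3 * s) + 4 ≤ n := by
        have : μ * (3 * s) ≤ 2 * μ * (s + 1) * (s + 1) := by nlinarith [mul_nonneg (Nat.zero_le μ) (Nat.zero_le (s * s))]
        omega
      have q1 : μ * ((a + 1) * a) + μ * (n + s) = μ * ((n + s) * (n + s)) := by rw [ha]; ring
      have q2 : μ * s * s ≤ μ * s * n := Nat.mul_le_mul_left _ hsn
      have q3 := Nat.mul_le_mul_left n hn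
      have q4 : a + 1 = n + s := ha.symm
      have q5 : 4 ≤ n := by omega
      rw [show (μ + 1) * ((n + 1) * n) = μ * n * n + μ * n + n * n + n by ring] at k1
      rw [show μ * ((n + s) * (n + s)) = μ * n * n + 2 * (μ * s * n) + μ * s * s by ring,
        Nat.mul_add μ n s] at q1
      rw [show n * (μ * (3 * s) + 4) = 3 * (μ * s * n) + 4 * n by ring] at q3
      clear_value n
      linarith only [k1, q1, q2, q3, q4, q5, hsn, Nat.zero_le (μ * s), Nat.zero_le (μ * n)]
    · by_contra hc
      obtain ⟨n, hn⟩ : ∃ n, n = 2 * μ + 4 := ⟨_, rfl⟩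
      have h1 := (hcomp (n + 1)).2
      have k0 : (n + 1 + 1).choose 2 * (ℓ + 1) ≤ (n + 1 + 1).choose 2 * μ :=
        Nat.mul_le_mul_left _ (show ℓ + 1 ≤ μ by omega)
      rw [Nat.mul_add, Nat.mul_one] at k0
      have e1 : (n + 1 + 1).choose 2 = (n + 1).choose 2 + (n + 1) := by
        rw [Nat.choose_succ_succ (n + 1) 1, Nat.choose_one_right]; exact add_comm _ _
      rw [e1] at h1 k0
      have e2 := c2 n
      have e3 : (n + 1) * (2 * μ + 4) = (n + 1) * n := by rw [hn]
      rw [show (n + 1) * (2 * μ + 4) = 2 * ((n + 1) * μ) + 4 * n + 4 by ring] at e3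
      rw [Nat.add_mul, Nat.add_mul] at k0
      rw [Nat.add_mul, Nat.mul_comm μ] at h1
      linarith
  subst hℓμ
  have hm1 : Module.length A (A ⧸ m ^ 1) = 1 := by rw [hN]; simp
  have hne : J ≠ m := fun e => by
    have h1 := hℓ
    rw [e, ← pow_one m, hm1] at h1
    have : ℓ = 1 := by exact_mod_cast h1
    omega
  have hm2 : m ^ 2 ≤ J := by
    have h2 : Module.length A (A ⧸ m ^ 2) = ((ℓ + 2 : ℕ) : ℕ∞) := by rw [hN]; simp
    let g : (A ⧸ m ^ 2) →ₗ[A] A ⧸ (J ⊔ m ^ 2) := Submodule.factor le_sup_right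
    let f : (A ⧸ m) × (A ⧸ m) →ₗ[A] A ⧸ m ^ 2 := LinearMap.coprod
      (Submodule.mapQ m (m ^ 2) (LinearMap.mulRight A x) fun r hr => by
        rw [Submodule.mem_comap, LinearMap.mulRight_apply, sq]; exact Ideal.mul_mem_mul hr (hle (Ideal.subset_span (by simp))))
      (Submodule.mapQ m (m ^ 2) (LinearMap.mulRight A y) fun r hr => by
        rw [Submodule.mem_comap, LinearMap.mulRight_apply, sq]; exact Ideal.mul_mem_mul hr (hle (Ideal.subset_span (by simp))))
    have hex : LinearMap.ker g ≤ LinearMap.range f := by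
      intro v hv
      obtain ⟨r, rfl⟩ := Submodule.Quotient.mk_surjective _ v
      rw [LinearMap.mem_ker] at hv
      obtain ⟨j, hj, e, he, rfl⟩ := Submodule.mem_sup.1 ((Submodule.Quotient.mk_eq_zero _).1 hv)
      obtain ⟨a, b, rfl⟩ := Ideal.mem_span_pair.1 hj
      refine ⟨(Submodule.Quotient.mk a, Submodule.Quotient.mk b), ?_⟩
      rw [LinearMap.coprod_apply, Submodule.mapQ_apply, Submodule.mapQ_apply, ← Submodule.Quotient.mk_add,
        Submodule.Quotient.eq, LinearMap.mulRight_apply, LinearMap.mulRight_apply]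
      simpa using neg_mem he
    have h3 : Module.length A (A ⧸ m ^ 2) ≤ 2 + Module.length A (A ⧸ (J ⊔ m ^ 2)) := by
      rw [Module.length_eq_add_of_exact (LinearMap.ker g).subtype g (Submodule.injective_subtype _)
        (Submodule.factor_surjective _) (LinearMap.exact_subtype_ker_map g)]
      refine add_le_add ?_ le_rfl
      refine ((Module.length_le_of_injective _ (Submodule.inclusion_injective hex)).trans
        (Module.length_le_of_surjective _ f.surjective_rangeRestrict)).trans ?_
      rw [Module.length_prod, ← pow_one m, hm1]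
      rfl
    rw [h2] at h3
    by_contra hc
    have h4 : Module.length A (A ⧸ J) = Module.length A (LinearMap.ker (Submodule.factor (le_sup_left : J ≤ J ⊔ m ^ 2))) +
        Module.length A (A ⧸ (J ⊔ m ^ 2)) :=
      Module.length_eq_add_of_exact _ _ (Submodule.injective_subtype _) (Submodule.factor_surjective _)
        (LinearMap.exact_subtype_ker_map _)
    have h5 : Nontrivial (LinearMap.ker (Submodule.factor (le_sup_left : J ≤ J ⊔ m ^ 2))) := by
      obtain ⟨e, he, he'⟩ := SetLike.not_le_iff_exists.1 hc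
      exact ⟨⟨⟨Submodule.Quotient.mk e, (Submodule.Quotient.mk_eq_zero _).2 (Submodule.mem_sup_right he)⟩, 0,
        fun h => he' ((Submodule.Quotient.mk_eq_zero _).1 (congrArg Subtype.val h))⟩⟩
    obtain ⟨p, hp⟩ := ENat.ne_top_iff_exists.1 (ne_top_of_le_ne_top (ENat.coe_ne_top _) (le_add_self.trans (h4.symm.trans hℓ.symm).le))
    obtain ⟨q, hq⟩ := ENat.ne_top_iff_exists.1 (ne_top_of_le_ne_top (ENat.coe_ne_top _) (le_self_add.trans (h4.symm.trans hℓ.symm).le))
    have hq1 : 0 < q := by
      have := (Module.length_pos (R := A) (M := LinearMap.ker (Submodule.factor (le_sup_left : J ≤ J ⊔ m ^ 2))))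
      rw [← hq] at this
      exact_mod_cast this
    rw [← hℓ, ← hp, ← hq] at h4
    rw [← hp] at h3
    have h4' : ℓ = q + p := by exact_mod_cast h4
    have h3' : ℓ + 2 ≤ 2 + p := by exact_mod_cast h3
    omega
  have hA1 : Module.length A (A ⧸ m) = 1 := by rw [← pow_one m]; exact hm1
  refine le_antisymm (fun e he => ?_) (by rw [pow_two]; exact Ideal.mul_mono_left hle)
  obtain ⟨a, b, rfl⟩ := Ideal.mem_span_pair.1 (hm2 he)
  have key : ∀ (u v : A), u * x + v * y ∈ m ^ 2 → u ∈ m ∧ v ∈ m := by
    intro u v huv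
    by_contra hc
    -- otherwise `(x, y) + m ^ 2` needs one generator
    obtain ⟨g, hg⟩ : ∃ g ∈ m, J ≤ Ideal.span {g} ⊔ m ^ 2 := by
      have hxm : x ∈ m := hle (Ideal.subset_span (by simp))
      have hym : y ∈ m := hle (Ideal.subset_span (by simp))
      rcases not_and_or.1 hc with hu | hv
      · obtain ⟨w, hw⟩ := not_not.1 hu
        refine ⟨y, hym, Ideal.span_le.2 (Set.insert_subset ?_ (by simpa using Ideal.mem_sup_left (Ideal.mem_span_singleton_self y)))⟩
        have := Ideal.mul_mem_left (Ideal.span {y} ⊔ m ^ 2) (↑w⁻¹ : A)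
          (sub_mem (Ideal.mem_sup_right huv) (Ideal.mul_mem_left _ v (Ideal.mem_sup_left (Ideal.mem_span_singleton_self y))))
        rwa [add_sub_cancel_right, ← hw, ← mul_assoc, Units.inv_mul, one_mul] at this
      · obtain ⟨w, hw⟩ := not_not.1 hv
        refine ⟨x, hxm, Ideal.span_le.2 (Set.insert_subset (Ideal.mem_sup_left (Ideal.mem_span_singleton_self x)) ?_)⟩
        have := Ideal.mul_mem_left (Ideal.span {x} ⊔ m ^ 2) (↑w⁻¹ : A)
          (sub_mem (Ideal.mem_sup_right huv) (Ideal.mul_mem_left _ u (Ideal.mem_sup_left (Ideal.mem_span_singleton_self x))))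
        rw [add_sub_cancel_left, ← hw, ← mul_assoc, Units.inv_mul, one_mul] at this
        simpa using this
    have h2 : Module.length A (A ⧸ m ^ 2) = ((ℓ + 2 : ℕ) : ℕ∞) := by rw [hN]; simp
    have hJ' : Ideal.span {g} ⊔ m ^ 2 ≤ J ⊔ Ideal.span {g} := sup_le le_sup_right (hm2.trans le_sup_left)
    let f : (A ⧸ m) →ₗ[A] A ⧸ m ^ 2 := Submodule.mapQ m (m ^ 2) (LinearMap.mulRight A g) fun r hr => by
      rw [Submodule.mem_comap, LinearMap.mulRight_apply, sq]; exact Ideal.mul_mem_mul hr hg.1
    let F : (A ⧸ m ^ 2) →ₗ[A] A ⧸ J := Submodule.factor hm2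
    have hex : LinearMap.ker F ≤ LinearMap.range f := by
      intro z hz
      obtain ⟨r, rfl⟩ := Submodule.Quotient.mk_surjective _ z
      obtain ⟨c, hc1, e, he', rfl⟩ := Submodule.mem_sup.1 (hg.2 ((Submodule.Quotient.mk_eq_zero J).1 (LinearMap.mem_ker.1 hz)))
      obtain ⟨c, rfl⟩ := Ideal.mem_span_singleton'.1 hc1
      refine ⟨Submodule.Quotient.mk c, ?_⟩
      rw [Submodule.mapQ_apply, Submodule.Quotient.eq, LinearMap.mulRight_apply]
      simpa using neg_mem he'
    have h3 : Module.length A (A ⧸ m ^ 2) ≤ 1 + Module.length A (A ⧸ J) := by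
      rw [Module.length_eq_add_of_exact (LinearMap.ker F).subtype F (Submodule.injective_subtype _)
        (Submodule.factor_surjective _) (LinearMap.exact_subtype_ker_map F)]
      exact add_le_add ((Module.length_le_of_injective _ (Submodule.inclusion_injective hex)).trans
        ((Module.length_le_of_surjective _ f.surjective_rangeRestrict).trans hA1.le)) le_rfl
    rw [h2, ← hℓ] at h3
    have : ℓ + 2 ≤ 1 + ℓ := by exact_mod_cast h3
    omega
  obtain ⟨ha, hb⟩ := key a b he
  exact add_mem (mul_comm a x ▸ Ideal.mul_mem_mul (Ideal.subset_span (by simp)) ha)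
    (mul_comm b y ▸ Ideal.mul_mem_mul (Ideal.subset_span (by simp)) hb)

end Groth.Agent.RDPChain13
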