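import Groth.Agent.RDPChain13.PropagateMain
import Groth.Agent.RDPChain13.CanonExt
import Groth.Agent.RDPChain13.Reduction
import Groth.Agent.RDPChain13.Child

/-! Ideals of type one along chains of point blow-ups. -/

set_option autoImplicit false
set_option linter.style.haveILetI false
set_option linter.unusedSectionVars false
set_option maxHeartbeats 1000000

universe u

open IsLocalRing Polynomial

namespace Groth.Agent.RDPChain13

open CMType13 (IsPair)

/-- The step over a ring with a reduction of reduction number one. -/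
theorem canon_step_setting {A L : Type u} [CommRing A] [IsLocalRing A] [IsDomain A] [IsNoetherianRing A]
    [CommRing L] [IsLocalRing L] [IsDomain L] [IsNoetherianRing L] [IsIntegrallyClosed L] [Algebra A L]
    (hdimL : ringKrullDim L = 2) {J : Ideal A} (hJ : Canon J) {x y : A} (hxy : IsPair x y)
    (hsq : maximalIdeal A ^ 2 = Ideal.span {x, y} * maximalIdeal A) (hne : Ideal.span {x, y} ≠ maximalIdeal A)
    (hinj : Function.Injective (algebraMap A L))
    (hmap : (maximalIdeal A).map (algebraMap A L) = Ideal.span {algebraMap A L x})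
    (hle : (maximalIdeal A).map (algebraMap A L) ≤ maximalIdeal L)
    (hgen : ∀ u : L, ∃ n : ℕ, ∃ b ∈ maximalIdeal A ^ n, ∃ d ∈ maximalIdeal A ^ n,
      (maximalIdeal A).map (algebraMap A L) ^ n = Ideal.span {algebraMap A L d} ∧ algebraMap A L b = u * algebraMap A L d)
    (halg : ∀ u : L, ∃ P : A[X], P.Monic ∧ P.eval₂ (algebraMap A L) u ∈ maximalIdeal L) :
    Canon (J.map (algebraMap A L)) := by
  set m := maximalIdeal A
  set I := Ideal.span ({x, y} : Set A)
  obtain ⟨s₀, hs₀, hsoc₀, hgen₀⟩ := hJ.soc x y hxy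
  have hmJsoc : ∀ b ∈ m * J, ∀ c ∈ m, c * b ∈ I * J := fun b hb c hc => by
    have h : c * b ∈ m ^ 2 * J := by rw [pow_two, mul_assoc]; exact Ideal.mul_mem_mul hc hb
    rw [hsq, mul_assoc] at h
    exact Ideal.mul_mono_right (Ideal.mul_le_right : m * J ≤ J) h
  -- `m J` is not in `I J`
  have hnot : ¬ m * J ≤ I * J := fun h => by
    have hall : J ≤ Ideal.span {s₀} ⊔ I * J := fun v hv => by
      obtain ⟨a, ha⟩ := hgen₀ v hv fun c hc => h (Ideal.mul_mem_mul hc hv)
      rw [show v = a * s₀ + (v - a * s₀) by ring]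
      exact add_mem (Ideal.mem_sup_left (Ideal.mul_mem_left _ _ (Ideal.mem_span_singleton_self _))) (Ideal.mem_sup_right ha)
    have hJeq : J = Ideal.span {s₀} := le_antisymm
      (Submodule.le_of_le_smul_of_le_jacobson_bot (IsNoetherian.noetherian J)
        (hxy.1.trans (maximalIdeal_le_jacobson ⊥)) (by simpa [smul_eq_mul] using hall))
      ((Ideal.span_singleton_le_iff_mem _).2 hs₀)
    have hs0ne : s₀ ≠ 0 := fun h0 => hJ.ne_bot (by rw [hJeq, h0, Ideal.span_singleton_eq_bot.2 rfl])
    refine hne (le_antisymm hxy.1 fun c hc => ?_)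
    have := h (Ideal.mul_mem_mul hc hs₀)
    rw [hJeq, Ideal.mem_mul_span_singleton] at this
    obtain ⟨e, he, hce⟩ := this
    exact mul_right_cancel₀ hs0ne hce ▸ he
  obtain ⟨b, hb, hbn⟩ := SetLike.not_le_iff_exists.1 hnot
  have hbJ : b ∈ J := (Ideal.mul_le_right : m * J ≤ J) hb
  obtain ⟨a, ha⟩ := hgen₀ b hbJ (hmJsoc b hb)
  have hau : IsUnit a := by
    by_contra hu
    exact hbn (by simpa using add_mem ha (hsoc₀ a hu))
  obtain ⟨u, rfl⟩ := hau
  obtain ⟨w, hw⟩ := Ideal.mem_span_singleton'.1 (hmap.le (Ideal.mem_map_of_mem (algebraMap A L)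
    (hxy.1 (Ideal.subset_span (show y ∈ ({x, y} : Set A) by simp)))))
  have S : Setting J x y b w :=
    { canon := hJ, pair := hxy, sq := hsq, inj := hinj, map_eq := hmap, le := hle, gen := hgen
      ht := by rw [mul_comm]; exact hw.symm
      s_mem := hb, s_not := hbn, s_soc := hmJsoc b hb
      s_gen := fun v hv hvs => by
        obtain ⟨a', ha'⟩ := hgen₀ v hv hvs
        refine ⟨a' * ↑u⁻¹, ?_⟩
        rw [show v - a' * ↑u⁻¹ * b = (v - a' * s₀) - a' * ↑u⁻¹ * (b - ↑u * s₀) by
          linear_combination -(a' * s₀) * u.inv_mul]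
        exact sub_mem ha' (Ideal.mul_mem_left _ _ ha) }
  exact S.canon_map hdimL (halg w)

section lift

variable {A L : Type u} [CommRing A] [IsLocalRing A] [CommRing L] [IsLocalRing L] (φ : A →+* L)

theorem comap_P (hle : (maximalIdeal A).map φ ≤ maximalIdeal L) :
    CMType13.P A = (CMType13.P L).comap (mapRingHom φ) := by
  ext f
  rw [Ideal.mem_map_C_iff, Ideal.mem_comap, Ideal.mem_map_C_iff]
  refine forall_congr' fun i => ?_
  rw [coe_mapRingHom, coeff_map]
  exact ⟨fun h => hle (Ideal.mem_map_of_mem φ h), fun h hu => h (hu.map φ)⟩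

/-- `A(T) → L(T)`. -/
noncomputable def extHom (hle : (maximalIdeal A).map φ ≤ maximalIdeal L) : CMType13.Ext A →+* CMType13.Ext L :=
  Localization.localRingHom (CMType13.P A) (CMType13.P L) (mapRingHom φ) (comap_P φ hle)

theorem extHom_lam (hle : (maximalIdeal A).map φ ≤ maximalIdeal L) (f : A[X]) :
    extHom φ hle (algebraMap A[X] (CMType13.Ext A) f) = algebraMap L[X] (CMType13.Ext L) (f.map φ) :=
  Localization.localRingHom_to_map _ _ _ _ f

theorem extHom_iota (hle : (maximalIdeal A).map φ ≤ maximalIdeal L) :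
    (extHom φ hle).comp (algebraMap A (CMType13.Ext A)) = (algebraMap L (CMType13.Ext L)).comp φ :=
  RingHom.ext fun a => (extHom_lam φ hle (C a)).trans (by rw [map_C]; rfl)

end lift

theorem canon_step {A L : Type u} [CommRing A] [IsLocalRing A] [IsDomain A] [IsNoetherianRing A]
    [IsIntegrallyClosed A] [CommRing L] [IsLocalRing L] [IsDomain L] [IsNoetherianRing L] [IsIntegrallyClosed L]
    (hdim : ringKrullDim A = 2) (hdimL : ringKrullDim L = 2) {μ : ℕ} (hμ : 2 ≤ μ)
    (hH : ∀ r : ℕ, Module.length A (↥(maximalIdeal A ^ r) ⧸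
      Submodule.comap (maximalIdeal A ^ r).subtype (maximalIdeal A ^ (r + 1))) = ((r * μ + 1 : ℕ) : ℕ∞))
    (φ : A →+* L) (hφ : Child φ) {J : Ideal A} (hJ : Canon J) : Canon (J.map φ) := by
  classical
  let A' := CMType13.Ext A
  let L' := CMType13.Ext L
  obtain ⟨_, _, _⟩ := CanonExt.instances (A := A)
  obtain ⟨_, _, _⟩ := CanonExt.instances (A := L)
  let φ' := extHom φ hφ.le
  letI : Algebra A' L' := φ'.toAlgebra
  have halgmap : algebraMap A' L' = φ' := rfl
  let lA := algebraMap A[X] A'
  let lL := algebraMap L[X] L'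
  have hφ' : ∀ f, φ' (lA f) = lL (f.map φ) := extHom_lam φ hφ.le
  have hmap' : ∀ K : Ideal A, (K.map (algebraMap A A')).map φ' = (K.map φ).map (algebraMap L L') := fun K => by
    rw [Ideal.map_map, Ideal.map_map, extHom_iota]
  refine CanonExt.canon_of_map hdimL ?_
  rw [← hmap']
  have hinj : Function.Injective φ' := (injective_iff_map_eq_zero φ').2 fun v hv => by
    obtain ⟨⟨f, g⟩, hfg⟩ := IsLocalization.surj (CMType13.P A).primeCompl v
    have h1 : lL (f.map φ) = 0 := by rw [← hφ' f, ← hfg, map_mul, hv, zero_mul]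
    have h2 : f.map φ = 0 :=
      IsLocalization.injective L' (CMType13.P L).primeCompl_le_nonZeroDivisors (h1.trans (map_zero _).symm)
    rw [Polynomial.map_eq_zero_iff hφ.inj] at h2
    rw [h2, map_zero] at hfg
    exact (IsLocalization.map_units A' g).mul_left_eq_zero.1 hfg
  obtain ⟨X₀, hX₀, hX₀e⟩ := hφ.principal
  have hm' : (maximalIdeal A').map φ' = Ideal.span {φ' (algebraMap A A' X₀)} := by
    rw [← CMType13.map_maximalIdeal A, hmap', hX₀e, Ideal.map_span, Set.image_singleton]
    exact congrArg (fun v => Ideal.span {v}) (RingHom.congr_fun (extHom_iota φ hφ.le) X₀).symm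
  have hle' : (maximalIdeal A').map φ' ≤ maximalIdeal L' := by
    rw [← CMType13.map_maximalIdeal A, hmap', ← CMType13.map_maximalIdeal L]
    exact Ideal.map_mono hφ.le
  -- the reduction
  have hN' : ∀ N : ℕ, Module.length A' (A' ⧸ maximalIdeal A' ^ N) = ((μ * N.choose 2 + N : ℕ) : ℕ∞) := fun N => by
    rw [← CMType13.map_maximalIdeal A, ← Ideal.map_pow, CMType13.length_quot_map, CMType13.length_pow_of_linear hH]
  have hdim' : ringKrullDim A' = 2 := (CMType13.ringKrullDim_ext A).trans hdim
  obtain ⟨x, y, k, hxy, hred⟩ := CMType13.exists_reduction (CMType13.infinite_residueField A) hdim' hN'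
  have hsq := sq_eq_of_reduction hdim' hμ hN' hxy hred
  have hne : Ideal.span {x, y} ≠ maximalIdeal A' := fun h => by
    have h1 := CMType13.length_span_pow hdim' hxy (ℓ := 1) (by
      rw [h, ← pow_one (maximalIdeal A'), hN']; simp) 2
    rw [h, hN'] at h1
    have : μ * Nat.choose 2 2 + 2 = (2 + 1).choose 2 * 1 := by exact_mod_cast h1
    simp at this
    omega
  -- `m L'` is generated by `x` or `y`
  set X' := φ' (algebraMap A A' X₀)
  have hX'0 : X' ≠ 0 := fun h => by
    have h1 : maximalIdeal A' = ⊥ := (Ideal.map_eq_bot_iff_of_injective hinj).1 (by rw [hm', h, Ideal.span_singleton_eq_bot.2 rfl])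
    exact hxy.2.1 ((Submodule.eq_bot_iff _).1 h1 x (hxy.1 (Ideal.subset_span (by simp))))
  have hI' : (Ideal.span {x, y}).map φ' = Ideal.span {X'} := by
    have h1 : (maximalIdeal A').map φ' ^ 2 = (Ideal.span {x, y}).map φ' * (maximalIdeal A').map φ' := by
      rw [← Ideal.map_pow, hsq, Ideal.map_mul]
    rw [hm', pow_two] at h1
    exact ((Ideal.span_singleton_mul_right_inj hX'0).1 (by rw [h1, mul_comm])).symm
  have hpick : ∃ x' y' : A', IsPair x' y' ∧ Ideal.span {x', y'} = Ideal.span {x, y} ∧ Ideal.span {φ' x'} = Ideal.span {X'} := by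
    have hx : φ' x ∈ Ideal.span {X'} := hI' ▸ Ideal.mem_map_of_mem _ (Ideal.subset_span (by simp))
    have hy : φ' y ∈ Ideal.span {X'} := hI' ▸ Ideal.mem_map_of_mem _ (Ideal.subset_span (by simp))
    obtain ⟨a, ha⟩ := Ideal.mem_span_singleton'.1 hx
    obtain ⟨b, hb⟩ := Ideal.mem_span_singleton'.1 hy
    have hX : X' ∈ Ideal.span {φ' x, φ' y} := by
      have := hI'.ge (Ideal.mem_span_singleton_self X')
      rwa [Ideal.map_span, Set.image_pair] at this
    obtain ⟨α, β, hαβ⟩ := Ideal.mem_span_pair.1 hX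
    have h1 : α * a + β * b = 1 := mul_right_cancel₀ hX'0 (by rw [← ha, ← hb] at hαβ; linear_combination hαβ)
    rcases IsLocalRing.isUnit_or_isUnit_of_add_one h1 with h | h
    · refine ⟨x, y, hxy, rfl, ?_⟩
      rw [← ha]; exact Ideal.span_singleton_mul_left_unit (isUnit_of_mul_isUnit_right h) _
    · refine ⟨y, x, hxy.symm, by rw [Set.pair_comm], ?_⟩
      rw [← hb]; exact Ideal.span_singleton_mul_left_unit (isUnit_of_mul_isUnit_right h) _
  obtain ⟨x', y', hxy', hsp, hx'⟩ := hpick
  refine canon_step_setting (A := A') (L := L') ((CMType13.ringKrullDim_ext L).trans hdimL) (CanonExt.map_canon hdim hJ)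
    hxy' (hsp ▸ hsq) (hsp ▸ hne) hinj (hm'.trans hx'.symm) hle' (fun u => ?_) (fun u => ?_)
  · -- fractions
    obtain ⟨⟨f, g⟩, hfg⟩ := IsLocalization.surj (CMType13.P L).primeCompl u
    have hrep : ∀ F : Finset L, ∃ n : ℕ, ∃ d ∈ maximalIdeal A ^ n,
        (maximalIdeal A).map φ ^ n = Ideal.span {φ d} ∧ ∀ w ∈ F, ∃ b ∈ maximalIdeal A ^ n, φ b = w * φ d := by
      intro F
      induction F using Finset.induction with
      | empty => exact ⟨0, 1, by simp, by simp, by simp⟩
      | insert w F _ ih =>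
        obtain ⟨n, d, hd, hds, hF⟩ := ih
        obtain ⟨k, b, hb, d', hd', hds', hb'⟩ := hφ.gen w
        refine ⟨n + k, d * d', by rw [pow_add]; exact Ideal.mul_mem_mul hd hd', ?_, fun v hv => ?_⟩
        · rw [pow_add, hds, hds', Ideal.span_singleton_mul_span_singleton, map_mul]
        · rcases Finset.mem_insert.1 hv with rfl | hv
          · exact ⟨d * b, by rw [pow_add]; exact Ideal.mul_mem_mul hd hb, by rw [map_mul, map_mul, hb']; ring⟩
          · obtain ⟨c, hc, hc'⟩ := hF v hv
            exact ⟨c * d', by rw [pow_add]; exact Ideal.mul_mem_mul hc hd', by rw [map_mul, map_mul, hc']; ring⟩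
    obtain ⟨n, d, hd, hds, hF⟩ := hrep (f.coeffs ∪ (g : L[X]).coeffs)
    have hlift : ∀ q : L[X], q.coeffs ⊆ f.coeffs ∪ (g : L[X]).coeffs → ∃ B : A[X], (∀ i, B.coeff i ∈ maximalIdeal A ^ n) ∧
        B.map φ = q * C (φ d) := by
      intro q hq
      have hc : ∀ i, ∃ b ∈ maximalIdeal A ^ n, φ b = q.coeff i * φ d := fun i => by
        by_cases h0 : q.coeff i = 0
        · exact ⟨0, zero_mem _, by rw [h0, map_zero, zero_mul]⟩
        · exact hF _ (hq (Polynomial.coeff_mem_coeffs h0))
      choose b hb hb' using hc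
      refine ⟨∑ i ∈ q.support, monomial i (b i), fun i => ?_, ?_⟩
      · simp only [finsetSum_coeff, coeff_monomial, Finset.sum_ite_eq']
        split_ifs
        · exact hb i
        · exact zero_mem _
      · ext i
        simp only [coeff_map, finsetSum_coeff, coeff_monomial, Finset.sum_ite_eq', coeff_mul_C, mem_support_iff]
        split_ifs with h0
        · exact hb' i
        · rw [not_not] at h0; rw [h0, map_zero, zero_mul]
    obtain ⟨B, hB, hBe⟩ := hlift f Finset.subset_union_left
    obtain ⟨D, hD, hDe⟩ := hlift g Finset.subset_union_right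
    have hpow : ∀ {E : A[X]}, (∀ i, E.coeff i ∈ maximalIdeal A ^ n) → lA E ∈ maximalIdeal A' ^ n := fun {E} hE => by
      rw [← CMType13.map_maximalIdeal A, ← Ideal.map_pow]
      exact CanonExt.mem_map_iff.2 hE
    refine ⟨n, lA B, hpow hB, lA D, hpow hD, ?_, ?_⟩
    · rw [halgmap, ← CMType13.map_maximalIdeal A, hmap', ← Ideal.map_pow, hds, Ideal.map_span, Set.image_singleton,
        hφ', hDe, map_mul]
      exact (Ideal.span_singleton_mul_left_unit (IsLocalization.map_units L' g) _).symm
    · rw [halgmap, hφ', hφ', hBe, hDe, map_mul, map_mul, ← mul_assoc, hfg]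
  · -- residues are algebraic
    let K' := ResidueField L'
    let ρ : A' →+* K' := (residue L').comp φ'
    letI := ρ.toAlgebra
    have hloc : IsLocalHom φ' := ⟨fun r hr => by
      by_contra h; exact hle' (Ideal.mem_map_of_mem φ' h) hr⟩
    have hcoeff : ∀ w : L, IsIntegral A' (residue L' (algebraMap L L' w)) := fun w => by
      obtain ⟨P, hP, hPw⟩ := hφ.alg w
      refine ⟨P.map (algebraMap A A'), hP.map _, ?_⟩
      show eval₂ _ (((residue L').comp (algebraMap L L')) w) _ = 0
      rw [eval₂_map, show (algebraMap A' K').comp (algebraMap A A') = ((residue L').comp (algebraMap L L')).comp φ by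
        show ((residue L').comp φ').comp _ = _
        rw [RingHom.comp_assoc, extHom_iota, RingHom.comp_assoc],
        ← hom_eval₂, RingHom.comp_apply, residue_eq_zero_iff, ← CMType13.map_maximalIdeal L]
      exact Ideal.mem_map_of_mem _ hPw
    have hT : IsIntegral A' (residue L' (lL X)) := by
      rw [show residue L' (lL X) = algebraMap A' K' (lA X) by
        show _ = residue L' (φ' (lA X))
        rw [hφ', map_X]]
      exact isIntegral_algebraMap
    have hpoly : ∀ q : L[X], IsIntegral A' (residue L' (lL q)) := fun q => by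
      induction q using Polynomial.induction_on with
      | C a => exact hcoeff a
      | add p q hp hq => rw [map_add, map_add]; exact hp.add hq
      | monomial n a ih =>
        rw [show (C a * X ^ (n + 1) : L[X]) = C a * X ^ n * X by ring, map_mul, map_mul]
        exact ih.mul hT
    obtain ⟨⟨f, g⟩, hfg⟩ := IsLocalization.surj (CMType13.P L).primeCompl u
    have hg0 : residue L' (lL (g : L[X])) ≠ 0 := fun h =>
      (residue_eq_zero_iff _).1 h (IsLocalization.map_units L' g)
    obtain ⟨P, hP, hPe⟩ := hpoly (g : L[X])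
    have hinv : IsIntegral A' (residue L' (lL (g : L[X])))⁻¹ := by
      have hmem : (residue L' (lL (g : L[X])))⁻¹ ∈ integralClosure A' K' :=
        Setting.inv_mem (A := A') (fun a ha => (residue_eq_zero_iff (φ' a)).2 (hle' (Ideal.mem_map_of_mem φ' ha)))
          (integralClosure A' K') (hpoly _) hg0 _ P rfl hP hPe
      exact hmem
    have hu : IsIntegral A' (residue L' u) := by
      have h := (hpoly f).mul hinv
      rwa [← hfg, map_mul, mul_assoc, mul_inv_cancel₀ hg0, mul_one] at h
    obtain ⟨Q, hQ, hQu⟩ := hu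
    refine ⟨Q, hQ, ?_⟩
    rw [halgmap, ← residue_eq_zero_iff, hom_eval₂]
    exact hQu

end Groth.Agent.RDPChain13
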