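import Groth.Agent.RDPChain13.Principal
import Groth.Agent.RDPChain13.Child

/-! Along a chain of point blow-ups every ideal becomes principal. -/

set_option autoImplicit false
set_option linter.style.haveILetI false

universe u

open IsLocalRing

namespace Groth.Agent.RDPChain13

variable (R : ℕ → Type u) [∀ i, CommRing (R i)]

/-- The composite `R 0 → R n`. -/
def fromZero (φ : ∀ i, R i →+* R (i + 1)) : ∀ n, R 0 →+* R n
  | 0 => RingHom.id _
  | n + 1 => (φ n).comp (fromZero φ n)

variable [∀ i, IsLocalRing (R i)] [∀ i, IsDomain (R i)] [∀ i, IsIntegrallyClosed (R i)] [IsNoetherianRing (R 0)]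

theorem exists_principal_ideal (φ : ∀ i, R i →+* R (i + 1)) (hch : ∀ i, Child (φ i)) (hdim : ringKrullDim (R 0) ≤ 2)
    (J : Ideal (R 0)) : ∃ n, (J.map (fromZero R φ n)).IsPrincipal := by
  classical
  let K := FractionRing (R 0)
  have hfrac : ∀ n (u : R n), ∃ p q : R 0, q ≠ 0 ∧ u * fromZero R φ n q = fromZero R φ n p := by
    intro n
    induction n with
    | zero => exact fun u => ⟨u, 1, one_ne_zero, mul_one u⟩
    | succ n ih =>
      intro u
      obtain ⟨k, b, -, d, -, hspan, hbd⟩ := (hch n).gen u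
      have hd : φ n d ≠ 0 := fun h => by
        rw [h, Ideal.span_singleton_eq_bot.2 rfl] at hspan
        have h2 : (maximalIdeal (R n)).map (φ n) = ⊥ := eq_zero_of_pow_eq_zero hspan
        exact (hch n).ne_bot ((Ideal.map_eq_bot_iff_of_injective (hch n).inj).1 h2)
      obtain ⟨pb, qb, hqb, hb⟩ := ih b
      obtain ⟨pd, qd, hqd, hd'⟩ := ih d
      refine ⟨pb * qd, qb * pd, mul_ne_zero hqb fun h => ?_, ?_⟩
      · rw [h, map_zero] at hd'
        rcases mul_eq_zero.1 hd' with h' | h'
        · exact hd (by rw [h', map_zero])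
        · have hinj : Function.Injective (fromZero R φ n) := by
            clear hd' hb h' h ih hspan hbd hd pb qb pd qd hqb hqd u d b k
            induction n with
            | zero => exact fun _ _ h => h
            | succ n ih => exact (hch n).inj.comp ih
          exact hqd (hinj (h'.trans (map_zero _).symm))
      · have hb' := congrArg (φ n) hb
        have hd'' := congrArg (φ n) hd'
        simp only [map_mul] at hb' hd''
        simp only [fromZero, map_mul, RingHom.comp_apply, ← hb', ← hd'', hbd]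
        ring
  have hinj : ∀ n, Function.Injective (fromZero R φ n) := fun n => by
    induction n with
    | zero => exact fun _ _ h => h
    | succ n ih => exact (hch n).inj.comp ih
  let ψ : ∀ n, K →+* FractionRing (R n) := fun n =>
    IsFractionRing.lift (g := (algebraMap (R n) (FractionRing (R n))).comp (fromZero R φ n))
      ((IsFractionRing.injective (R n) (FractionRing (R n))).comp (hinj n))
  have hψ : ∀ n p, ψ n (algebraMap (R 0) K p) = algebraMap (R n) _ (fromZero R φ n p) := fun n p =>
    IsFractionRing.lift_algebraMap _ _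
  have hsurj : ∀ n (u : R n), ∃ w : K, ψ n w = algebraMap (R n) _ u := fun n u => by
    obtain ⟨p, q, hq, hu⟩ := hfrac n u
    refine ⟨algebraMap _ K p / algebraMap _ K q, ?_⟩
    rw [map_div₀, hψ, hψ, ← hu, map_mul, mul_div_assoc, div_self, mul_one]
    exact fun h => hq (hinj n ((IsFractionRing.injective (R n) _ (h.trans (map_zero _).symm)).trans (map_zero _).symm))
  choose ιf hιf using hsurj
  let ι : ∀ n, R n →+* K := fun n =>
    { toFun := ιf n
      map_one' := (ψ n).injective (by rw [hιf, map_one, map_one])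
      map_mul' := fun u v => (ψ n).injective (by rw [map_mul (ψ n), hιf, hιf, hιf, map_mul])
      map_zero' := (ψ n).injective (by rw [hιf, map_zero, map_zero])
      map_add' := fun u v => (ψ n).injective (by rw [map_add (ψ n), hιf, hιf, hιf, map_add]) }
  have hι0 : ∀ n p, ι n (fromZero R φ n p) = algebraMap (R 0) K p := fun n p =>
    (ψ n).injective ((hιf n _).trans (hψ n p).symm)
  have hιinj : ∀ n, Function.Injective (ι n) := fun n u v h =>
    IsFractionRing.injective (R n) (FractionRing (R n)) ((hιf n u).symm.trans ((congrArg (ψ n) h).trans (hιf n v)))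
  have hcompat : ∀ n u, ι (n + 1) (φ n u) = ι n u := fun n u => by
    obtain ⟨p, q, hq, hu⟩ := hfrac n u
    have h1 := congrArg (fun w => ι (n + 1) (φ n w)) hu
    have h2 := congrArg (ι n) hu
    simp only [map_mul] at h1 h2
    rw [show φ n (fromZero R φ n q) = fromZero R φ (n + 1) q from rfl, show φ n (fromZero R φ n p) = fromZero R φ (n + 1) p from rfl, hι0, hι0] at h1
    rw [hι0, hι0] at h2
    exact mul_right_cancel₀ (fun h => hq (IsFractionRing.injective (R 0) K (h.trans (map_zero _).symm))) (h1.trans h2.symm)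
  let A : ℕ → Subring K := fun n => (ι n).range
  let e : ∀ n, R n ≃+* A n := fun n => RingEquiv.ofBijective (ι n).rangeRestrict
    ⟨fun u v h => hιinj n (congrArg Subtype.val h), (ι n).rangeRestrict_surjective⟩
  haveI hloc : ∀ n, IsLocalRing (A n) := fun n => (e n).isLocalRing
  have hmem : ∀ n (x : A n), x ∈ maximalIdeal (A n) ↔ (e n).symm x ∈ maximalIdeal (R n) := fun n x => by
    refine not_congr ⟨fun h => h.map _, fun h => ?_⟩
    simpa using h.map (e n)
  haveI : IsNoetherianRing (A 0) := isNoetherianRing_of_ringEquiv _ (e 0)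
  have hclosed : ∀ n (y : K), IsIntegral (A n) y → y ∈ A n := by
    intro n y ⟨P, hP, hPy⟩
    let P' := P.map ((e n).symm : A n →+* R n)
    have hid : (ι n).comp ((e n).symm : A n →+* R n) = (A n).subtype := RingHom.ext fun x =>
      congrArg Subtype.val ((e n).apply_symm_apply x)
    have hy : IsIntegral (R n) (ψ n y) := by
      refine ⟨P', hP.map _, ?_⟩
      have hc : algebraMap (R n) (FractionRing (R n)) = (ψ n).comp (ι n) := RingHom.ext fun u => (hιf n u).symm
      rw [hc, ← Polynomial.hom_eval₂]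
      refine (congrArg (ψ n) ?_).trans (map_zero _)
      rw [Polynomial.eval₂_map, hid]
      exact hPy
    obtain ⟨u, hu⟩ := IsIntegrallyClosed.isIntegral_iff.1 hy
    exact ⟨u, (ψ n).injective ((hιf n u).trans hu)⟩
  have hmono : Monotone A := monotone_nat_of_le_succ fun n => by
    rintro _ ⟨u, rfl⟩
    exact ⟨φ n u, hcompat n u⟩
  have hms : ∀ n x, x ∈ Models7.mSet (A n) ↔ ∃ u ∈ maximalIdeal (R n), ι n u = x := fun n x => by
    refine ⟨fun ⟨hx, h⟩ => ⟨_, (hmem n ⟨x, hx⟩).1 h, congrArg Subtype.val ((e n).apply_symm_apply _)⟩, ?_⟩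
    rintro ⟨u, hu, rfl⟩
    exact ⟨⟨u, rfl⟩, (hmem n _).2 (by convert hu; exact (e n).symm_apply_apply u)⟩
  have key : ∀ z : K, ∃ n, z ∈ A n ∨ z⁻¹ ∈ A n := exists_mem_chain A hclosed hmono
    (fun n x hx => by
      obtain ⟨u, hu, rfl⟩ := (hms n x).1 hx
      exact (hms (n + 1) _).2 ⟨φ n u, (hch n).le (Ideal.mem_map_of_mem _ hu), hcompat n u⟩)
    (fun n => by
      obtain ⟨X, hX, hspan⟩ := (hch n).principal
      refine ⟨ι n X, (hms (n + 1) _).2 ⟨φ n X, (hch n).le (Ideal.mem_map_of_mem _ hX), hcompat n X⟩, fun x hx => ?_⟩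
      obtain ⟨u, hu, rfl⟩ := (hms n x).1 hx
      obtain ⟨k, hk⟩ := Ideal.mem_span_singleton.1 (hspan.le (Ideal.mem_map_of_mem _ hu))
      exact ⟨ι (n + 1) k, ⟨k, rfl⟩, by rw [← hcompat n u, hk, map_mul, hcompat]⟩)
    (fun x => by
      obtain ⟨p, q, hq, rfl⟩ := IsFractionRing.div_surjective (A := R 0) x
      exact ⟨_, ⟨p, hι0 0 p⟩, _, ⟨q, hι0 0 q⟩, IsFractionRing.to_map_ne_zero_of_mem_nonZeroDivisors hq, rfl⟩)
    ((ringKrullDim_eq_of_ringEquiv (e 0)).symm.le.trans hdim)
  suffices h : ∀ s : Finset (R 0), ∃ n c, (Ideal.span (s : Set (R 0))).map (fromZero R φ n) = Ideal.span {c} by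
    obtain ⟨s, rfl⟩ := IsNoetherian.noetherian J
    obtain ⟨n, c, hc⟩ := h s
    exact ⟨n, ⟨c, hc⟩⟩
  intro s
  induction s using Finset.induction with
  | empty => exact ⟨0, 0, by simp⟩
  | insert g s _ ih =>
    obtain ⟨n, c, hc⟩ := ih
    have push : ∀ m, n ≤ m → ∃ c', (Ideal.span (s : Set (R 0))).map (fromZero R φ m) = Ideal.span {c'} ∧
        ι m c' = ι n c := by
      intro m hm
      induction m, hm using Nat.le_induction with
      | base => exact ⟨c, hc, rfl⟩
      | succ m hm ih =>
        obtain ⟨c', hc', he⟩ := ih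
        refine ⟨φ m c', ?_, (hcompat m c').trans he⟩
        rw [fromZero, ← Ideal.map_map, hc', Ideal.map_span, Set.image_singleton]
    by_cases hc0 : ι n c = 0
    · exact ⟨n, fromZero R φ n g, by
        rw [Finset.coe_insert, Ideal.span_insert, Ideal.map_sup, hc, (injective_iff_map_eq_zero _).1 (hιinj n) c hc0,
          Ideal.map_span, Set.image_singleton, Ideal.span_singleton_eq_bot.2 rfl, sup_bot_eq]⟩
    obtain ⟨m, hm⟩ := key (algebraMap (R 0) K g / ι n c)
    let N := max n m
    obtain ⟨c', hc', he⟩ := push N (le_max_left n m)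
    have hg : ι N (fromZero R φ N g) = algebraMap (R 0) K g := hι0 N g
    by_cases hg0 : algebraMap (R 0) K g = 0
    · refine ⟨N, c', ?_⟩
      rw [Finset.coe_insert, Ideal.span_insert, Ideal.map_sup, hc', Ideal.map_span, Set.image_singleton,
        (injective_iff_map_eq_zero _).1 (hιinj N) _ (hg.trans hg0), Ideal.span_singleton_eq_bot.2 rfl, bot_sup_eq]
    rcases hm with hm | hm
    · obtain ⟨k, hk⟩ := hmono (le_max_right n m) hm
      refine ⟨N, c', ?_⟩
      rw [Finset.coe_insert, Ideal.span_insert, Ideal.map_sup, hc', Ideal.map_span, Set.image_singleton, sup_eq_right,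
        Ideal.span_singleton_le_span_singleton]
      exact ⟨k, hιinj N (by rw [hg, map_mul, he, hk, mul_div_cancel₀ _ hc0])⟩
    · obtain ⟨k, hk⟩ := hmono (le_max_right n m) hm
      rw [inv_div] at hk
      refine ⟨N, fromZero R φ N g, ?_⟩
      rw [Finset.coe_insert, Ideal.span_insert, Ideal.map_sup, hc', Ideal.map_span, Set.image_singleton, sup_eq_left,
        Ideal.span_singleton_le_span_singleton]
      exact ⟨k, hιinj N (by rw [he, map_mul, hg, hk, mul_div_cancel₀ _ hg0])⟩

end Groth.Agent.RDPChain13
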