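import Groth.Agent.RDPChain13.Resolution
import Groth.Agent.RDPChain13.PrincipalChain
import Groth.Agent.RDPChain13.CanonStep
import Groth.Agent.RDPChain13.CanonExist

/-! Rational singularities which are images of Gorenstein rings are resolvable. -/

set_option autoImplicit false
set_option backward.isDefEq.respectTransparency.types false
set_option linter.style.haveILetI false

universe u

open IsLocalRing

namespace Groth.Agent.RDPChain13

theorem exists_hilbert {A : Type u} [CommRing A] [IsLocalRing A] (hA : Good A) (hnreg : ¬ IsRegularLocalRing A) :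
    ∃ μ : ℕ, 2 ≤ μ ∧ ∀ r : ℕ, Module.length A (↥(maximalIdeal A ^ r) ⧸
      Submodule.comap (maximalIdeal A ^ r).subtype (maximalIdeal A ^ (r + 1))) = ((r * μ + 1 : ℕ) : ℕ∞) := by
  haveI := hA.dom; haveI := hA.noeth; haveI := hA.normal
  obtain ⟨μ, hH⟩ := Len.hilbert A hA.nagata hA.dim hA.rat
  have hc := hH 1
  rw [Len.length_cotangent_eq, one_mul] at hc
  exact ⟨μ, (Len.exists_pair_and_mu A hA.dim hnreg hc).1, hH⟩

/-- A rational singularity with an ideal of type one is resolvable. -/
theorem resolvable_of_canon {A : Type u} [CommRing A] [IsLocalRing A] (hA : Good A) {J : Ideal A} (hJ : Canon J) :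
    Resolvable A := by
  by_cases hnreg : IsRegularLocalRing A
  · exact resolvable_of_regular hnreg
  by_contra hres
  choose next step hstep using fun S : Bad.{u} => S.exists_next
  let seq : ℕ → Bad.{u} := fun i => Nat.rec (motive := fun _ => Bad.{u}) ⟨A, hA, hnreg, hres⟩ (fun _ S => next S) i
  haveI : ∀ i : ℕ, IsDomain (seq i).R := fun i => (seq i).good.dom
  haveI : ∀ i : ℕ, IsNoetherianRing (seq i).R := fun i => (seq i).good.noeth
  haveI : ∀ i : ℕ, IsIntegrallyClosed (seq i).R := fun i => (seq i).good.normal
  haveI : ∀ i, IsLocalRing ((fun i => (seq i).R) i) := fun i => (seq i).loc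
  let φ : ∀ i, (seq i).R →+* (seq (i + 1)).R := fun i => step (seq i)
  have hcanon : ∀ i, Canon (J.map (fromZero (fun i => (seq i).R) φ i)) := by
    intro i
    induction i with
    | zero => exact (Ideal.map_id J).symm ▸ hJ
    | succ i ih =>
      haveI : IsDomain (seq i).R := (seq i).good.dom
      haveI : IsNoetherianRing (seq i).R := (seq i).good.noeth
      haveI : IsIntegrallyClosed (seq i).R := (seq i).good.normal
      haveI : IsDomain (seq (i + 1)).R := (seq (i + 1)).good.dom
      haveI : IsNoetherianRing (seq (i + 1)).R := (seq (i + 1)).good.noeth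
      haveI : IsIntegrallyClosed (seq (i + 1)).R := (seq (i + 1)).good.normal
      obtain ⟨μ, hμ, hH⟩ := exists_hilbert (seq i).good (seq i).nreg
      have := canon_step (seq i).good.dim (seq (i + 1)).good.dim hμ hH (φ i) (hstep (seq i)) ih
      rw [Ideal.map_map] at this
      exact this
  haveI : ∀ i, IsDomain ((fun i => (seq i).R) i) := fun i => (seq i).good.dom
  haveI : ∀ i, IsNoetherianRing ((fun i => (seq i).R) i) := fun i => (seq i).good.noeth
  haveI : ∀ i, IsIntegrallyClosed ((fun i => (seq i).R) i) := fun i => (seq i).good.normal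
  haveI : IsNoetherianRing (seq 0).R := hA.noeth
  obtain ⟨n, hn⟩ := exists_principal_ideal (fun i => (seq i).R) φ (fun i => hstep (seq i)) hA.dim.le J
  obtain ⟨c, hc⟩ := hn.principal
  obtain ⟨μ, hμ, hH⟩ := exists_hilbert (seq n).good (seq n).nreg
  have h2 : μ = 2 := le_antisymm (mu_le_two_of_canon (seq n).good.dim hμ hH (hcanon n) hc) hμ
  subst h2
  obtain ⟨x, y, z, xx, xy, xz, yy, yz, zz, hm, hQ, hne⟩ := exists_three_of_mu_two (seq n).R hH
  exact (seq n).nres (resolvable_of_three (seq n).good (seq n).nreg hm hQ hne)

/-- A rational singularity which is an image of a Gorenstein ring is resolvable. -/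
theorem resolvable_of_image {A R' : Type u} [CommRing A] [IsLocalRing A] [CommRing R']
    [_root_.LocCoh.IsGorensteinLocalRing R'] (hA : Good A) (g : R' →+* A) (hg : Function.Surjective g) :
    Resolvable A := by
  haveI := hA.dom; haveI := hA.noeth; haveI := hA.normal
  obtain ⟨J, hJ⟩ := exists_canon g hg hA.dim
  exact resolvable_of_canon hA hJ

end Groth.Agent.RDPChain13
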