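import Groth.Agent.RDPChain13.Child
import Groth.Agent.LocCoh.NonVanishing
import Groth.Agent.FSchLib.Completion
import Groth.Agent.Resolve13.TorsionVal
import Groth.Prelude.Def_Curv2

/-! A normal surface ring has no smooth formal curve of singular points. -/

set_option autoImplicit false

universe u

open IsLocalRing

namespace Groth.Agent.RDPChain13

theorem exists_approx {A : Type u} [CommRing A] [IsLocalRing A] [IsNoetherianRing A] (N : ℕ) (r : Curv2.cpl A) :
    ∃ a : A, r - algebraMap A (Curv2.cpl A) a ∈ maximalIdeal (Curv2.cpl A) ^ N := by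
  obtain ⟨a, ha⟩ := Ideal.Quotient.mk_surjective (AdicCompletion.evalₐ (maximalIdeal A) N r)
  refine ⟨a, ?_⟩
  rw [AdicCompletion.maximalIdeal_eq_map, ← FSchLib.ker_evalₐ (maximalIdeal A) (IsNoetherian.noetherian _) N, RingHom.mem_ker]
  show AdicCompletion.evalₐ (maximalIdeal A) N (r - algebraMap A _ a) = 0
  rw [map_sub, ← ha, AlgHom.commutes]
  exact sub_self _

theorem pullback_mem {A : Type u} [CommRing A] [IsLocalRing A] [IsNoetherianRing A] {J : Ideal A} {a : A}
    (h : algebraMap A (Curv2.cpl A) a ∈ J.map (algebraMap A (Curv2.cpl A))) : a ∈ J := by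
  haveI : Module.Flat A (Curv2.cpl A) := AdicCompletion.flat_of_isNoetherian _
  haveI : Module.FaithfullyFlat A (Curv2.cpl A) := Module.FaithfullyFlat.of_flat_of_isLocalHom
  exact (Ideal.comap_map_eq_self_of_faithfullyFlat (A := A) (B := Curv2.cpl A) J).le h

section Generic

variable {R : Type u} [CommRing R] [IsLocalRing R] [IsNoetherianRing R] {U V ε₀ : R}

theorem expand (hmax : maximalIdeal R = Ideal.span {ε₀} ⊔ Ideal.span {U, V}) (r : R) (hr : r ∉ Ideal.span {U, V}) :
    ∃ (j : ℕ) (ε : R), IsUnit ε ∧ r - ε * ε₀ ^ j ∈ Ideal.span {U, V} := by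
  have he : ε₀ ∈ maximalIdeal R := hmax.symm ▸ Ideal.mem_sup_left (Ideal.mem_span_singleton_self _)
  classical
  revert r
  generalize hP : Ideal.span {U, V} = P at hmax ⊢
  intro r hr
  have hPm : P ≤ maximalIdeal R := hmax.symm ▸ le_sup_right
  have hex : ∃ j, r ∉ P ⊔ maximalIdeal R ^ j := by
    by_contra! hall
    refine hr ?_
    rw [← Ideal.Quotient.eq_zero_iff_mem]
    haveI : Nontrivial (R ⧸ P) := Ideal.Quotient.nontrivial_iff.2 fun h => (maximalIdeal.isMaximal R).ne_top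
      (top_le_iff.1 (h ▸ hPm))
    haveI : IsLocalRing (R ⧸ P) := IsLocalRing.of_surjective' (Ideal.Quotient.mk P) Ideal.Quotient.mk_surjective
    have hk := Ideal.iInf_pow_eq_bot_of_isLocalRing (I := maximalIdeal (R ⧸ P)) (maximalIdeal.isMaximal _).ne_top
    refine (Ideal.mem_bot).1 (hk.le (Ideal.mem_iInf.2 fun j => ?_))
    have h1 := Ideal.mem_map_of_mem (Ideal.Quotient.mk P) (hall j)
    rw [Ideal.map_sup, Ideal.map_quotient_self, bot_sup_eq, Ideal.map_pow] at h1
    refine Ideal.pow_right_mono ?_ j h1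
    haveI : IsLocalHom (Ideal.Quotient.mk P) := IsLocalHom.of_surjective _ Ideal.Quotient.mk_surjective
    exact Ideal.map_le_iff_le_comap.2 fun x hx hu => hx ((isUnit_map_iff (Ideal.Quotient.mk P) x).1 hu)
  have hpowle : ∀ j, maximalIdeal R ^ j ≤ P ⊔ Ideal.span {ε₀ ^ j} := by
    intro j
    induction j with
    | zero => simp
    | succ j ih =>
      rw [pow_succ]
      refine (Ideal.mul_mono ih hmax.le).trans ?_
      rw [Ideal.sup_mul, Ideal.mul_sup (Ideal.span {ε₀ ^ j}), Ideal.span_singleton_mul_span_singleton, ← pow_succ]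
      exact sup_le ((Ideal.mul_le.2 fun a ha b _ => Ideal.mul_mem_right b P ha).trans le_sup_left)
        (sup_le le_sup_right ((Ideal.mul_le.2 fun a _ b hb => Ideal.mul_mem_left P a hb).trans le_sup_left))
  obtain ⟨j, hj⟩ : ∃ j, Nat.find hex = j + 1 := ⟨Nat.find hex - 1, by
    have h0 : Nat.find hex ≠ 0 := fun h0 => by
      have := Nat.find_spec hex
      rw [h0, pow_zero, Ideal.one_eq_top, sup_top_eq] at this
      exact this Submodule.mem_top
    omega⟩
  have hrj : r ∈ P ⊔ maximalIdeal R ^ j := not_not.1 (Nat.find_min hex (show j < Nat.find hex by omega))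
  obtain ⟨p, hp, q, hq, rfl⟩ := Submodule.mem_sup.1 (sup_le le_sup_left (hpowle j) hrj)
  obtain ⟨c, rfl⟩ := Ideal.mem_span_singleton'.1 hq
  refine ⟨j, c, ?_, by simpa using hp⟩
  by_contra hc
  refine Nat.find_spec hex (add_mem (Ideal.mem_sup_left hp) (Ideal.mem_sup_right ?_))
  rw [hj, pow_succ']
  exact Ideal.mul_mem_mul hc (Ideal.pow_mem_pow he j)

theorem isPrime_of_no_pow (hmax : maximalIdeal R = Ideal.span {ε₀} ⊔ Ideal.span {U, V})
    (hek : ∀ k, ε₀ ^ k ∉ Ideal.span {U, V}) : (Ideal.span {U, V}).IsPrime := by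
  refine ⟨fun h => hek 0 (h ▸ Submodule.mem_top), fun {a b} hab => ?_⟩
  by_contra! hcon
  obtain ⟨i, α, hα, ha⟩ := expand hmax a hcon.1
  obtain ⟨k, β, hβ, hb⟩ := expand hmax b hcon.2
  refine hek (i + k) ((Ideal.unit_mul_mem_iff_mem _ (hα.mul hβ)).1 ?_)
  rw [show α * β * ε₀ ^ (i + k) = a * b - (a - α * ε₀ ^ i) * b - α * ε₀ ^ i * (b - β * ε₀ ^ k) by ring]
  exact sub_mem (sub_mem hab (Ideal.mul_mem_right _ _ ha)) (Ideal.mul_mem_left _ _ hb)

variable [IsDomain R] [IsIntegrallyClosed R]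

theorem exists_ratio (hdim : ringKrullDim R ≤ 2) (P : Ideal R) [P.IsPrime] (hlt : P < maximalIdeal R) (U V : R) :
    ∃ p q : R, q ∉ P ∧ (V * q = U * p ∨ U * q = V * p) := by
  let L := Localization.AtPrime P
  haveI : IsDomain L := IsLocalization.isDomain_localization P.primeCompl_le_nonZeroDivisors
  haveI : IsNoetherianRing L := IsLocalization.isNoetherianRing P.primeCompl L inferInstance
  haveI : IsIntegrallyClosed L := isIntegrallyClosed_of_isLocalization L P.primeCompl P.primeCompl_le_nonZeroDivisors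
  haveI : IsPrincipalIdealRing L := ((tfae_of_isNoetherianRing_of_isLocalRing_of_isDomain L).out 3 0 :
    (IsIntegrallyClosed L ∧ ∀ Q : Ideal L, Q ≠ ⊥ → Q.IsPrime → Q = IsLocalRing.maximalIdeal L) ↔ _).1
    ⟨inferInstance, fun Q hQ hQp => by
      haveI := hQp
      by_contra hne'
      have h1 := Ideal.height_add_one_le_of_lt_of_isPrime (lt_of_le_of_ne (IsLocalRing.le_maximalIdeal hQp.ne_top) hne')
      have h2 := Ideal.height_add_one_le_of_lt_of_isPrime hlt
      have h3 := IsLocalRing.maximalIdeal_height_eq_ringKrullDim (R := R)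
      have h4 : (maximalIdeal R).height ≤ 2 := by
        have : ((maximalIdeal R).height : WithBot ℕ∞) ≤ 2 := by
          rw [h3]; exact hdim
        exact WithBot.coe_le_coe.1 (show ((maximalIdeal R).height : WithBot ℕ∞) ≤ ((2 : ℕ∞) : WithBot ℕ∞) from this)
      have h5 : (IsLocalRing.maximalIdeal L).height = P.height := by
        have e1 := IsLocalization.AtPrime.ringKrullDim_eq_height P L
        rw [← IsLocalRing.maximalIdeal_height_eq_ringKrullDim (R := L)] at e1
        exact_mod_cast e1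
      rw [h5] at h1
      have h6 : Q.height + 1 + 1 ≤ 0 + 1 + 1 := (add_le_add h1 le_rfl).trans ((h2.trans h4).trans (by norm_num))
      have h7 : Q.height = 0 := nonpos_iff_eq_zero.1 (WithTop.le_of_add_le_add_right WithTop.one_ne_top
        (WithTop.le_of_add_le_add_right WithTop.one_ne_top h6))
      rw [Ideal.height_eq_zero_iff, IsDomain.minimalPrimes_eq_singleton_bot, Set.mem_singleton_iff] at h7
      exact hQ h7⟩
  have hinj : Function.Injective (algebraMap R L) := IsLocalization.injective L P.primeCompl_le_nonZeroDivisors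
  obtain ⟨c, hc⟩ := ValuationRing.cond (algebraMap R L U) (algebraMap R L V)
  obtain ⟨⟨a, s⟩, has⟩ := IsLocalization.surj P.primeCompl c
  rcases hc with hc | hc
  · exact ⟨a, s, s.2, Or.inl (hinj (by rw [map_mul, map_mul, ← hc, ← has]; ring))⟩
  · exact ⟨a, s, s.2, Or.inr (hinj (by rw [map_mul, map_mul, ← hc, ← has]; ring))⟩

theorem false_of_estimates (hdim : ringKrullDim R ≤ 2) (hmax : maximalIdeal R = Ideal.span {ε₀} ⊔ Ideal.span {U, V})
    (hek : ∀ k, ε₀ ^ k ∉ Ideal.span {U, V})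
    (hfin : ∀ (j : ℕ) (p q : R), IsUnit p ∨ IsUnit q →
      ε₀ ^ j * (p * U + q * V) ∈ Ideal.span {U, V} * Ideal.span {U, V} → False) : False := by
  haveI := isPrime_of_no_pow hmax hek
  generalize hP : Ideal.span {U, V} = P at hek hfin
  have hoff : ∀ r : R, r ∉ P → ∃ (j : ℕ) (ε : R), IsUnit ε ∧ r - ε * ε₀ ^ j ∈ P := hP ▸ expand hmax
  haveI : P.IsPrime := hP ▸ ‹(Ideal.span {U, V}).IsPrime›
  have hlt : P < maximalIdeal R := lt_of_le_of_ne (hP ▸ hmax.symm ▸ le_sup_right) fun h =>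
    hek 1 (by rw [pow_one, h, hmax]; exact Ideal.mem_sup_left (Ideal.mem_span_singleton_self _))
  have key : ∀ (p q : R) (W W' : R), W * q = W' * p → q ∉ P → (W = U ∧ W' = V ∨ W = V ∧ W' = U) → False := by
    intro p q W W' heq hq hW
    obtain ⟨j, ε, hε, hqj⟩ := hoff q hq
    have hWP : W ∈ P ∧ W' ∈ P := by
      rcases hW with ⟨rfl, rfl⟩ | ⟨rfl, rfl⟩ <;> exact ⟨hP ▸ Ideal.subset_span (by simp), hP ▸ Ideal.subset_span (by simp)⟩
    by_cases hp : p ∈ P
    · have h1 : ε₀ ^ j * (ε * W) ∈ P * P := by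
        rw [show ε₀ ^ j * (ε * W) = W' * p - W * (q - ε * ε₀ ^ j) by linear_combination heq]
        exact sub_mem (Ideal.mul_mem_mul hWP.2 hp) (Ideal.mul_mem_mul hWP.1 hqj)
      rcases hW with ⟨rfl, rfl⟩ | ⟨rfl, rfl⟩
      · exact hfin j ε 0 (Or.inl hε) (by simpa using h1)
      · exact hfin j 0 ε (Or.inr hε) (by simpa using h1)
    obtain ⟨f, η, hη, hpf⟩ := hoff p hp
    obtain ⟨i, c, d, hcd, h1⟩ : ∃ (i : ℕ) (c d : R), (IsUnit c ∨ IsUnit d) ∧ ε₀ ^ i * (c * W + d * W') ∈ P * P := by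
      have hmem : ε₀ ^ j * ε * W - ε₀ ^ f * η * W' ∈ P * P := by
        rw [show ε₀ ^ j * ε * W - ε₀ ^ f * η * W' = W' * (p - η * ε₀ ^ f) - W * (q - ε * ε₀ ^ j) by
          linear_combination heq]
        exact sub_mem (Ideal.mul_mem_mul hWP.2 hpf) (Ideal.mul_mem_mul hWP.1 hqj)
      rcases le_total j f with h | h
      · obtain ⟨k, rfl⟩ := Nat.exists_eq_add_of_le h
        exact ⟨j, ε, -(η * ε₀ ^ k), Or.inl hε, by convert hmem using 1; ring⟩
      · obtain ⟨k, rfl⟩ := Nat.exists_eq_add_of_le h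
        exact ⟨f, ε * ε₀ ^ k, -η, Or.inr hη.neg, by convert hmem using 1; ring⟩
    rcases hW with ⟨rfl, rfl⟩ | ⟨rfl, rfl⟩
    · exact hfin i c d hcd h1
    · exact hfin i d c hcd.symm (by rwa [add_comm] at h1)
  obtain ⟨p, q, hq, h | h⟩ := exists_ratio hdim P hlt U V
  · exact key p q V U h hq (Or.inr ⟨rfl, rfl⟩)
  · exact key p q U V h hq (Or.inl ⟨rfl, rfl⟩)

end Generic

variable {A : Type u} [CommRing A] [IsLocalRing A] [IsNoetherianRing A]

section Estimates

variable {B : ℕ → Type u} [∀ n, CommRing (B n)] [∀ n, IsLocalRing (B n)] [∀ n, IsDomain (B n)]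
    [∀ n, IsNoetherianRing (B n)] {ψ : ∀ n, A →+* B n} {e : A} {U V : Curv2.cpl A}

local notation "R" => Curv2.cpl A
local notation "ι" => algebraMap A (Curv2.cpl A)

theorem himg (hle : ∀ n, 0 < n → (maximalIdeal A).map (ψ n) ≤ Ideal.span {ψ n e}) :
    ∀ (n : ℕ) (a : A), ι a ∈ maximalIdeal R ^ n → ∀ i, 0 < i → ∃ k, ψ i a = ψ i e ^ n * k := fun n a ha i hi => by
    rw [AdicCompletion.maximalIdeal_eq_map, ← Ideal.map_pow] at ha
    have h1 := Ideal.mem_map_of_mem (ψ i) (pullback_mem ha)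
    rw [Ideal.map_pow] at h1
    have h2 := Ideal.pow_right_mono (hle i hi) n h1
    rw [Ideal.span_singleton_pow] at h2
    exact Ideal.mem_span_singleton.1 h2

/-- Approximations of the formal curve. -/
def Approx (ψ : ∀ n, A →+* B n) (e : A) (U V : R) : Prop :=
  ∀ n, ∃ a b : A, ∀ N, N ≤ 2 * n + 1 → U - ι a ∈ maximalIdeal R ^ N ∧ V - ι b ∈ maximalIdeal R ^ N ∧
      ∃ U' V' : B n, ψ n a = ψ n e ^ n * U' ∧ ψ n b = ψ n e ^ n * V' ∧ maximalIdeal (B n) = Ideal.span {ψ n e, U', V'}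

theorem not_mem_span (hne : ∀ n, ψ n e ≠ 0) (hle : ∀ n, 0 < n → (maximalIdeal A).map (ψ n) ≤ Ideal.span {ψ n e})
    (hUV : Approx ψ e U V) (k : ℕ) : ι e ^ k ∉ Ideal.span {U, V} := by
  intro hk
  obtain ⟨r, s, hrs⟩ := Ideal.mem_span_pair.1 hk
  let n := k + 1
  obtain ⟨a, b, hab⟩ := hUV n
  obtain ⟨h1, h2, U', V', hUa, hVb, hm'⟩ := hab (k + 1) (by omega)
  obtain ⟨r', hr⟩ := exists_approx (k + 1) r
  obtain ⟨s', hs⟩ := exists_approx (k + 1) s
  obtain ⟨w, hw⟩ := himg hle (k + 1) (e ^ k - (r' * a + s' * b)) (by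
    rw [map_sub, map_pow, ← hrs, map_add, map_mul, map_mul,
      show r * U + s * V - (ι r' * ι a + ι s' * ι b) =
        (r - ι r') * U + ι r' * (U - ι a) + ((s - ι s') * V + ι s' * (V - ι b)) by ring]
    exact add_mem (add_mem (Ideal.mul_mem_right _ _ hr) (Ideal.mul_mem_left _ _ h1))
      (add_mem (Ideal.mul_mem_right _ _ hs) (Ideal.mul_mem_left _ _ h2))) n (Nat.succ_pos k)
  rw [map_sub, map_pow, map_add, map_mul, map_mul, hUa, hVb] at hw
  have h3 : ψ n e ^ k * 1 = ψ n e ^ k * (ψ n e * (w + ψ n r' * U' + ψ n s' * V')) := by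
    rw [mul_one]
    simp only [n] at hw ⊢
    linear_combination hw
  refine (maximalIdeal.isMaximal (B n)).ne_top ((Ideal.eq_top_iff_one _).2 ?_)
  rw [mul_left_cancel₀ (pow_ne_zero k (hne n)) h3]
  exact Ideal.mul_mem_right _ _ (hm' ▸ Ideal.subset_span (by simp))

theorem not_mem_sq (hne : ∀ n, ψ n e ≠ 0) (hle : ∀ n, 0 < n → (maximalIdeal A).map (ψ n) ≤ Ideal.span {ψ n e})
    (hnt : ∀ n a b, maximalIdeal (B n) ≠ Ideal.span {a, b}) (hUV : Approx ψ e U V) (j : ℕ) (p q : R)
    (hpq : IsUnit p ∨ IsUnit q) (hmem : ι e ^ j * (p * U + q * V) ∈ Ideal.span {U, V} * Ideal.span {U, V}) : False := by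
  obtain ⟨r, s, t, hrst⟩ : ∃ r s t : R, ι e ^ j * (p * U + q * V) = r * U ^ 2 + s * (U * V) + t * V ^ 2 := by
    generalize ι e ^ j * (p * U + q * V) = o at hmem ⊢
    induction hmem using Submodule.mul_induction_on' with
    | mem_mul_mem a ha b hb =>
      obtain ⟨a₁, a₂, rfl⟩ := Ideal.mem_span_pair.1 ha
      obtain ⟨b₁, b₂, rfl⟩ := Ideal.mem_span_pair.1 hb
      exact ⟨a₁ * b₁, a₁ * b₂ + a₂ * b₁, a₂ * b₂, by ring⟩
    | add a _ b _ ha hb =>
      obtain ⟨r, s, t, rfl⟩ := ha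
      obtain ⟨r', s', t', rfl⟩ := hb
      exact ⟨r + r', s + s', t + t', by ring⟩
  let n := j + 1
  obtain ⟨a, b, hab⟩ := hUV n
  obtain ⟨h1, h2, U', V', hUa, hVb, hm'⟩ := hab (2 * n) (by omega)
  let N := 2 * n
  obtain ⟨p', hp⟩ := exists_approx N p
  obtain ⟨q', hq⟩ := exists_approx N q
  obtain ⟨r', hr⟩ := exists_approx N r
  obtain ⟨s', hs⟩ := exists_approx N s
  obtain ⟨t', ht⟩ := exists_approx N t
  have cong : ∀ {x y x' y' : R}, x - x' ∈ maximalIdeal R ^ N → y - y' ∈ maximalIdeal R ^ N →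
      x * y - x' * y' ∈ maximalIdeal R ^ N := fun {x y x' y'} hx hy => by
    rw [show x * y - x' * y' = (x - x') * y + x' * (y - y') by ring]
    exact add_mem (Ideal.mul_mem_right _ _ hx) (Ideal.mul_mem_left _ _ hy)
  have hee : ι e ^ j - ι e ^ j ∈ maximalIdeal R ^ N := by rw [sub_self]; exact zero_mem _
  have hmem2 : ι (e ^ j * (p' * a + q' * b) - (r' * (a * a) + s' * (a * b) + t' * (b * b))) ∈ maximalIdeal R ^ N := by
    have c1 := cong hee (y := p * U + q * V) (y' := ι p' * ι a + ι q' * ι b) (by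
      rw [add_sub_add_comm]; exact add_mem (cong hp h1) (cong hq h2))
    have c2 := add_mem (add_mem (cong hr (cong h1 h1)) (cong hs (cong h1 h2))) (cong ht (cong h2 h2))
    have := sub_mem c2 c1
    convert this using 1
    simp only [map_sub, map_mul, map_add, map_pow]
    linear_combination hrst
  obtain ⟨w, hw⟩ := himg hle N _ hmem2 n (Nat.succ_pos j)
  simp only [map_sub, map_mul, map_add, map_pow, hUa, hVb] at hw
  have h3 : ψ n e ^ (j + n) * (ψ n p' * U' + ψ n q' * V') = ψ n e ^ (j + n) *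
      ((w + ψ n r' * (U' * U') + ψ n s' * (U' * V') + ψ n t' * (V' * V')) * ψ n e) := by
    simp only [n, N] at hw ⊢
    linear_combination hw
  have h4 := mul_left_cancel₀ (pow_ne_zero _ (hne n)) h3
  obtain ⟨-, hp1, hq1⟩ := coeff_mem (hnt n) hm' (a := -(w + ψ n r' * (U' * U') + ψ n s' * (U' * V') + ψ n t' * (V' * V')))
    (b := ψ n p') (c := ψ n q') (by
      rw [show -(w + ψ n r' * (U' * U') + ψ n s' * (U' * V') + ψ n t' * (V' * V')) * ψ n e + ψ n p' * U' + ψ n q' * V' = 0 by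
        linear_combination h4]
      exact zero_mem _)
  have back : ∀ {x : R} {x' : A}, x - ι x' ∈ maximalIdeal R ^ N → ψ n x' ∈ maximalIdeal (B n) → x ∈ maximalIdeal R :=
    fun {x x'} hx hx' => by
    have := add_mem (Ideal.pow_le_self (show N ≠ 0 by omega) hx)
      (show ι x' ∈ maximalIdeal R from (AdicCompletion.maximalIdeal_eq_map : maximalIdeal R = _) ▸ Ideal.mem_map_of_mem ι (mem_of_map_mem hx'))
    rwa [sub_add_cancel] at this
  rcases hpq with h | h
  · exact back hp hp1 h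
  · exact back hq hq1 h

end Estimates

/-- The straight chain cannot be infinite. -/
theorem limit_false [IsDomain (Curv2.cpl A)] [IsIntegrallyClosed (Curv2.cpl A)] (hdim : ringKrullDim A ≤ 2)
    (B : ℕ → Type u) [∀ n, CommRing (B n)] [∀ n, IsLocalRing (B n)] [∀ n, IsDomain (B n)]
    [∀ n, IsNoetherianRing (B n)] (ψ : ∀ n, A →+* B n) (e : A) (u v : ℕ → A)
    (hm : maximalIdeal A = Ideal.span {e, u 0, v 0})
    (hu : ∀ n, u (n + 1) - u n ∈ Ideal.span {e ^ (n + 1)})
    (hv : ∀ n, v (n + 1) - v n ∈ Ideal.span {e ^ (n + 1)})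
    (hne : ∀ n, ψ n e ≠ 0)
    (hle : ∀ n, 0 < n → (maximalIdeal A).map (ψ n) ≤ Ideal.span {ψ n e})
    (hchart : ∀ n, ∃ U V : B n, ψ n (u n) = ψ n e ^ n * U ∧ ψ n (v n) = ψ n e ^ n * V ∧
      maximalIdeal (B n) = Ideal.span {ψ n e, U, V})
    (hnt : ∀ n a b, maximalIdeal (B n) ≠ Ideal.span {a, b}) : False := by
  classical
  haveI : IsNoetherianRing (Curv2.cpl A) := Matlis6.isNoetherianRing_adicCompletion (maximalIdeal A)
  let R := Curv2.cpl A
  let ι := algebraMap A (Curv2.cpl A)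
  have hmR : maximalIdeal (Curv2.cpl A) = (maximalIdeal A).map ι := AdicCompletion.maximalIdeal_eq_map
  have heA : e ∈ maximalIdeal A := hm ▸ Ideal.subset_span (by simp)
  have he : ι e ∈ maximalIdeal (Curv2.cpl A) := hmR ▸ Ideal.mem_map_of_mem ι heA
  have htel : ∀ (w : ℕ → A), (∀ n, w (n + 1) - w n ∈ Ideal.span {e ^ (n + 1)}) →
      ∀ {n M}, n ≤ M → w M - w n ∈ Ideal.span {e ^ (n + 1)} := by
    intro w hw n M h
    induction M, h using Nat.le_induction with
    | base => simp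
    | succ M hM ih =>
      rw [← sub_add_sub_cancel (w (M + 1)) (w M) (w n)]
      exact add_mem (Ideal.span_singleton_le_span_singleton.2 (pow_dvd_pow e (by omega)) (hw M)) ih
  have hlim : ∀ (w : ℕ → A), (∀ n, w (n + 1) - w n ∈ Ideal.span {e ^ (n + 1)}) →
      ∃ W : R, ∀ n, W - ι (w n) ∈ maximalIdeal R ^ (n + 1) := by
    intro w hw
    have hpow : ∀ {n : ℕ} {a : A}, a ∈ Ideal.span {e ^ n} → ι a ∈ maximalIdeal R ^ n := fun {n a} ha => by
      obtain ⟨c, rfl⟩ := Ideal.mem_span_singleton'.1 ha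
      rw [map_mul, map_pow]
      exact Ideal.mul_mem_left _ _ (Ideal.pow_mem_pow he n)
    obtain ⟨W, hW⟩ := IsPrecomplete.prec (inferInstance : IsPrecomplete (maximalIdeal R) R) (f := fun n => ι (w n))
      fun {n M} h => by
        rw [SModEq.sub_mem, smul_eq_mul, Ideal.mul_top, ← neg_sub, neg_mem_iff, ← map_sub]
        exact Ideal.pow_le_pow_right (Nat.le_succ n) (hpow (htel w hw h))
    refine ⟨W, fun n => ?_⟩
    have h1 := hW (n + 1)
    rw [SModEq.sub_mem, smul_eq_mul, Ideal.mul_top] at h1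
    have h2 := sub_mem (hpow (hw n)) h1
    rw [map_sub, show ι (w (n + 1)) - ι (w n) - (ι (w (n + 1)) - W) = W - ι (w n) by ring] at h2
    exact h2
  obtain ⟨U, hU⟩ := hlim u hu
  obtain ⟨V, hV⟩ := hlim v hv
  let P : Ideal R := Ideal.span {U, V}
  have hmax : maximalIdeal R = Ideal.span {ι e} ⊔ P := by
    have hUm : U ∈ maximalIdeal R := by
      have := add_mem (Ideal.pow_le_self one_ne_zero (hU 0)) (show ι (u 0) ∈ maximalIdeal R from
        hmR ▸ Ideal.mem_map_of_mem ι (hm ▸ Ideal.subset_span (by simp)))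
      simpa using this
    have hVm : V ∈ maximalIdeal R := by
      have := add_mem (Ideal.pow_le_self one_ne_zero (hV 0)) (show ι (v 0) ∈ maximalIdeal R from
        hmR ▸ Ideal.mem_map_of_mem ι (hm ▸ Ideal.subset_span (by simp)))
      simpa using this
    refine le_antisymm ?_ (sup_le ((Ideal.span_singleton_le_iff_mem _).2 he)
      (Ideal.span_le.2 (Set.insert_subset hUm (by simpa using hVm))))
    refine Submodule.le_of_le_smul_of_le_jacobson_bot (IsNoetherian.noetherian _) (maximalIdeal_le_jacobson ⊥) ?_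
    rw [smul_eq_mul, ← pow_two]
    nth_rw 1 [hmR]
    refine Ideal.map_le_iff_le_comap.2 (hm.le.trans (Ideal.span_le.2 ?_))
    have key : ∀ (w : ℕ → A) (W : R), W ∈ P → (∀ n, w (n + 1) - w n ∈ Ideal.span {e ^ (n + 1)}) →
        (∀ n, W - ι (w n) ∈ maximalIdeal R ^ (n + 1)) →
        ι (w 0) ∈ Ideal.span {ι e} ⊔ P ⊔ maximalIdeal R ^ 2 := by
      intro w W hWP hw hW
      obtain ⟨c, hc⟩ := Ideal.mem_span_singleton'.1 (hw 0)
      rw [show ι (w 0) = W - (W - ι (w 1)) - ι c * ι e by rw [← map_mul, ← pow_one e, hc, map_sub]; ring]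
      exact sub_mem (sub_mem (Ideal.mem_sup_left (Ideal.mem_sup_right hWP)) (Ideal.mem_sup_right (hW 1)))
        (Ideal.mem_sup_left (Ideal.mem_sup_left (Ideal.mul_mem_left _ _ (Ideal.mem_span_singleton_self _))))
    rintro _ (rfl | rfl | rfl)
    · exact Ideal.mem_sup_left (Ideal.mem_sup_left (Ideal.mem_span_singleton_self _))
    · exact key u U (Ideal.subset_span (by simp)) hu hU
    · exact key v V (Ideal.subset_span (by simp)) hv hV
  have hUV : Approx ψ e U V := by
    intro n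
    refine ⟨u (2 * n), v (2 * n), fun N hN => ⟨Ideal.pow_le_pow_right hN (hU _), Ideal.pow_le_pow_right hN (hV _), ?_⟩⟩
    obtain ⟨U', V', h1, h2, h3⟩ := hchart n
    obtain ⟨c, hc⟩ := Ideal.mem_span_singleton'.1 (htel u hu (show n ≤ 2 * n by omega))
    obtain ⟨d, hd⟩ := Ideal.mem_span_singleton'.1 (htel v hv (show n ≤ 2 * n by omega))
    refine ⟨U' + ψ n c * ψ n e, V' + ψ n d * ψ n e, ?_, ?_, h3.trans ?_⟩
    · rw [show u (2 * n) = u n + c * e ^ (n + 1) by rw [hc]; ring, map_add, h1, map_mul, map_pow]; ring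
    · rw [show v (2 * n) = v n + d * e ^ (n + 1) by rw [hd]; ring, map_add, h2, map_mul, map_pow]; ring
    · refine le_antisymm (Ideal.span_le.2 ?_) (Ideal.span_le.2 ?_)
      · rintro w (rfl | rfl | rfl)
        · exact Ideal.subset_span (by simp)
        · exact (add_sub_cancel_right w (ψ n c * ψ n e)).subst
            (motive := fun o => o ∈ Ideal.span {ψ n e, w + ψ n c * ψ n e, V' + ψ n d * ψ n e})
            (sub_mem (Ideal.subset_span (by simp)) (Ideal.mul_mem_left _ _ (Ideal.subset_span (by simp))))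
        · exact (add_sub_cancel_right w (ψ n d * ψ n e)).subst
            (motive := fun o => o ∈ Ideal.span {ψ n e, U' + ψ n c * ψ n e, w + ψ n d * ψ n e})
            (sub_mem (Ideal.subset_span (by simp)) (Ideal.mul_mem_left _ _ (Ideal.subset_span (by simp))))
      · rintro w (rfl | rfl | rfl)
        · exact Ideal.subset_span (by simp)
        · exact add_mem (Ideal.subset_span (by simp)) (Ideal.mul_mem_left _ _ (Ideal.subset_span (by simp)))
        · exact add_mem (Ideal.subset_span (by simp)) (Ideal.mul_mem_left _ _ (Ideal.subset_span (by simp)))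
  exact false_of_estimates (by rw [LocCoh.ringKrullDim_adicCompletion A]; exact hdim) hmax
    (not_mem_span hne hle hUV) (not_mem_sq hne hle hnt hUV)

end Groth.Agent.RDPChain13
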