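import Groth.Agent.RDPChain13.States
import Groth.Agent.RDPChain13.Limit

/-! Chains of singular points over a double point are finite. -/

set_option autoImplicit false

universe u

open IsLocalRing

namespace Groth.Agent.RDPChain13

variable (R : ℕ → Type u) [∀ i, CommRing (R i)] [∀ i, IsLocalRing (R i)] [∀ i, IsDomain (R i)]
  [∀ i, IsNoetherianRing (R i)] (φ : ∀ i, R i →+* R (i + 1))

/-- The composite of the maps of the chain starting at `K`. -/
def comp (K : ℕ) : ∀ n, R K →+* R (K + n)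
  | 0 => RingHom.id _
  | n + 1 => (φ (K + n)).comp (comp K n)

variable [∀ i, IsDomain (Curv2.cpl (R i))] [∀ i, IsIntegrallyClosed (Curv2.cpl (R i))]

theorem no_straight (hdim : ∀ i, ringKrullDim (R i) ≤ 2) (hch : ∀ i, Child (φ i)) (K : ℕ) (e y z : R K)
    (hm : maximalIdeal (R K) = Ideal.span {e, y, z})
    (hstr : ∀ n, Str (φ (K + n)) (comp R φ K n e)) (he : ∀ n, comp R φ K n e ≠ 0) (hK : ∀ a b, maximalIdeal (R K) ≠ Ideal.span {a, b}) : False := by
  classical
  let ψ := comp R φ K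
  have hres : ∀ (n : ℕ) (w : R (K + n)), ∃ a : R K, w - ψ n a ∈ maximalIdeal (R (K + n)) := by
    intro n
    induction n with
    | zero => exact fun w => ⟨w, by simp [ψ, comp]⟩
    | succ n ih =>
      intro w
      obtain ⟨b, hb⟩ := (hstr n).2 w
      obtain ⟨a, ha⟩ := ih b
      refine ⟨a, ?_⟩
      have := add_mem hb ((hch (K + n)).le (Ideal.mem_map_of_mem (φ (K + n)) ha))
      rw [map_sub, sub_add_sub_cancel] at this
      exact this
  let P : ℕ → R K → R K → Prop := fun n u v => ∃ U V : R (K + n), ψ n u = ψ n e ^ n * U ∧ ψ n v = ψ n e ^ n * V ∧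
    maximalIdeal (R (K + n)) = Ideal.span {ψ n e, U, V}
  have step : ∀ (n : ℕ) (u v : R K), P n u v → ∃ u' v', P (n + 1) u' v' ∧ u' - u ∈ Ideal.span {e ^ (n + 1)} ∧
      v' - v ∈ Ideal.span {e ^ (n + 1)} := by
    rintro n u v ⟨U, V, hu, hv, hUV⟩
    obtain ⟨T, hT⟩ : ∃ T, φ (K + n) U = φ (K + n) (ψ n e) * T := Ideal.mem_span_singleton.1
      ((hstr n).1 ▸ Ideal.mem_map_of_mem _ (hUV ▸ Ideal.subset_span (by simp)))
    obtain ⟨Z, hZ⟩ : ∃ Z, φ (K + n) V = φ (K + n) (ψ n e) * Z := Ideal.mem_span_singleton.1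
      ((hstr n).1 ▸ Ideal.mem_map_of_mem _ (hUV ▸ Ideal.subset_span (by simp)))
    have C : Chart (φ (K + n)) (ψ n e) U V T Z := ⟨hch _, hUV, he (n + 1), (hstr n).1, hT, hZ⟩
    obtain ⟨a, ha⟩ := hres (n + 1) T
    obtain ⟨b, hb⟩ := hres (n + 1) Z
    have C' := C.shift (ψ n a) (ψ n b)
    refine ⟨u - a * e ^ (n + 1), v - b * e ^ (n + 1), ⟨T - ψ (n + 1) a, Z - ψ (n + 1) b, ?_, ?_, (C'.origin ha hb).1⟩, ?_, ?_⟩
    · show φ (K + n) (ψ n (u - a * e ^ (n + 1))) = φ (K + n) (ψ n e) ^ (n + 1) * (T - φ (K + n) (ψ n a))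
      simp only [map_sub, map_mul, map_pow, hu, hT]
      ring
    · show φ (K + n) (ψ n (v - b * e ^ (n + 1))) = φ (K + n) (ψ n e) ^ (n + 1) * (Z - φ (K + n) (ψ n b))
      simp only [map_sub, map_mul, map_pow, hv, hZ]
      ring
    · rw [sub_sub_cancel_left, neg_mem_iff]
      exact Ideal.mul_mem_left _ _ (Ideal.mem_span_singleton_self _)
    · rw [sub_sub_cancel_left, neg_mem_iff]
      exact Ideal.mul_mem_left _ _ (Ideal.mem_span_singleton_self _)
  choose fu fv hP hdu hdv using step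
  let seq : ∀ n, {uv : R K × R K // P n uv.1 uv.2} := fun n => Nat.rec (motive := fun n => {uv : R K × R K // P n uv.1 uv.2})
    ⟨(y, z), y, z, by simp [ψ, comp], by simp [ψ, comp], by simpa [ψ, comp] using hm⟩
    (fun n s => ⟨(fu n _ _ s.2, fv n _ _ s.2), hP n _ _ s.2⟩) n
  refine limit_false (hdim K) (fun n => R (K + n)) ψ e (fun n => (seq n).1.1) (fun n => (seq n).1.2) hm
    (fun n => hdu n _ _ (seq n).2) (fun n => hdv n _ _ (seq n).2) he (fun n hn => ?_) (fun n => (seq n).2) (fun n => ?_)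
  · obtain ⟨n, rfl⟩ := Nat.exists_eq_succ_of_ne_zero (Nat.pos_iff_ne_zero.1 hn)
    clear hn
    show (maximalIdeal (R K)).map ((φ (K + n)).comp (ψ n)) ≤ Ideal.span {φ (K + n) (ψ n e)}
    rw [← Ideal.map_map, ← (hstr n).1]
    refine Ideal.map_mono ?_
    clear seq
    induction n with
    | zero => exact le_of_eq (Ideal.map_id _)
    | succ n ih =>
      show (maximalIdeal (R K)).map ((φ (K + n)).comp (ψ n)) ≤ _
      rw [← Ideal.map_map]
      exact (Ideal.map_mono ih).trans (hch _).le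
  · cases n with
    | zero => exact hK
    | succ n => exact (hch (K + n)).not_two

variable [∀ i, IsIntegrallyClosed (R i)]

/-- There is no infinite chain of singular points over a double point. -/
theorem no_chain (hdim : ∀ i, ringKrullDim (R i) ≤ 2) (hch : ∀ i, Child (φ i)) {x y z xx xy xz yy yz zz : R 0}
    (hm : maximalIdeal (R 0) = Ideal.span {x, y, z})
    (hQ : xx * x ^ 2 + xy * (x * y) + xz * (x * z) + yy * y ^ 2 + yz * (y * z) + zz * z ^ 2 ∈ maximalIdeal (R 0) ^ 3)
    (hne : ¬ (xx ∈ maximalIdeal (R 0) ∧ xy ∈ maximalIdeal (R 0) ∧ xz ∈ maximalIdeal (R 0) ∧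
      yy ∈ maximalIdeal (R 0) ∧ yz ∈ maximalIdeal (R 0) ∧ zz ∈ maximalIdeal (R 0))) : False := by
  classical
  have hne0 : ∀ (K : ℕ) (e y z : R (K + 1)), maximalIdeal (R (K + 1)) = Ideal.span {e, y, z} → e ≠ 0 := by
    intro K e y z h he
    rw [he, Ideal.span_insert_zero] at h
    exact (hch K).not_two y z h
  have hinj : ∀ (K : ℕ) (n : ℕ), Function.Injective (comp R φ K n) := by
    intro K n
    induction n with
    | zero => exact fun a b h => h
    | succ n ih => exact (hch (K + n)).inj.comp ih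
  have hstart : ∃ K, StN (R (K + 1)) ∨ ∀ n, ¬ StN (R (K + 1 + n)) ∧ ∃ e : R (K + 1), StD (comp R φ (K + 1) 0 e) := by
    rcases step_start hm hQ hne (hch 0) with h | ⟨f, h⟩
    · exact ⟨0, Or.inl h⟩
    by_cases hN : ∃ K, StN (R (K + 1))
    · exact ⟨_, Or.inl hN.choose_spec⟩
    simp only [not_exists] at hN
    have hD : ∃ K, ∃ e : R (K + 1), StD e := by
      rcases h with h | h
      · exact ⟨0, f, h⟩
      rcases step_T h (hch 1) with h | ⟨g, h | h⟩
      · exact absurd h (hN 1)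
      · exact ⟨1, g, h⟩
      rcases step_T' h (hch 2) with h | ⟨k, h⟩
      · exact absurd h (hN 2)
      · exact ⟨2, k, h⟩
    obtain ⟨K, e, he⟩ := hD
    exact ⟨K, Or.inr fun n => ⟨by rw [Nat.add_right_comm]; exact hN (K + n), e, he⟩⟩
  obtain ⟨K, hN | hD⟩ := hstart
  · obtain ⟨e, he, -⟩ := step_N hN (hch (K + 1))
    obtain ⟨y', z', a, b, c, v, hm', -⟩ := id he
    have key : ∀ n, StNS (comp R φ (K + 2) n (φ (K + 1) e)) := by
      intro n
      induction n with
      | zero => exact he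
      | succ n ih => exact (step_NS ih (hch _)).2
    exact no_straight R φ hdim hch (K + 2) _ y' z' hm' (fun n => (step_NS (key n) (hch _)).1)
      (fun n h => hne0 (K + 1) _ y' z' hm' (hinj _ n (h.trans (map_zero _).symm))) (hch (K + 1)).not_two
  · obtain ⟨-, e, he⟩ := hD 0
    obtain ⟨y', z', c, a, v, w, hm', -⟩ := id he
    have key : ∀ n, StD (comp R φ (K + 1) n e) := by
      intro n
      induction n with
      | zero => exact he
      | succ n ih => exact ((step_D ih (hch _)).resolve_left (hD (n + 1)).1).2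
    exact no_straight R φ hdim hch (K + 1) e y' z' hm'
      (fun n => ((step_D (key n) (hch _)).resolve_left (hD (n + 1)).1).1)
      (fun n h => hne0 K _ y' z' hm' (hinj _ n (h.trans (map_zero _).symm))) (hch K).not_two

end Groth.Agent.RDPChain13
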