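import Groth.Agent.RDPChain13.Child
import Groth.Prelude.Def_BlowUp2
import Groth.Agent.ProjLib.AffineBlowup

/-! Local rings of blow-up charts as steps of a chain. -/

set_option autoImplicit false

universe u

namespace Groth.Agent.RDPChain13

variable {A : Type u} [CommRing A] [IsLocalRing A] [IsDomain A]

local notation "m" => IsLocalRing.maximalIdeal A

theorem chart_gen {a : A} (ha : a ∈ m) (c : ↥(BlowUp.affineAlgebra A m a)) :
    ∃ n : ℕ, ∃ z ∈ m ^ n, algebraMap A ↥(BlowUp.affineAlgebra A m a) z =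
      c * algebraMap A ↥(BlowUp.affineAlgebra A m a) a ^ n := by
  suffices h : ∀ q ∈ BlowUp.affineAlgebra A m a, ∃ n : ℕ, ∃ z ∈ m ^ n,
      algebraMap A (Localization.Away a) z = q * algebraMap A (Localization.Away a) a ^ n by
    obtain ⟨n, z, hz, e⟩ := h c.1 c.2
    exact ⟨n, z, hz, Subtype.ext e⟩
  intro q hq
  induction hq using Algebra.adjoin_induction with
  | mem q hq =>
    obtain ⟨z, hz, rfl⟩ := hq
    refine ⟨1, z, by rwa [pow_one], ?_⟩
    rw [pow_one]
    exact (IsLocalization.mk'_spec _ z ⟨a, Submonoid.mem_powers a⟩).symm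
  | algebraMap r => exact ⟨0, r, by simp, by simp⟩
  | add p q hp hq ihp ihq =>
    obtain ⟨n, z, hz, e⟩ := ihp
    obtain ⟨k, w, hw, e'⟩ := ihq
    refine ⟨n + k, z * a ^ k + w * a ^ n, add_mem ?_ ?_, ?_⟩
    · rw [pow_add]; exact Ideal.mul_mem_mul hz (Ideal.pow_mem_pow ha k)
    · rw [pow_add, mul_comm (m ^ n)]; exact Ideal.mul_mem_mul hw (Ideal.pow_mem_pow ha n)
    · rw [map_add, map_mul, map_mul, e, e', map_pow, map_pow]
      ring
  | mul p q hp hq ihp ihq =>
    obtain ⟨n, z, hz, e⟩ := ihp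
    obtain ⟨k, w, hw, e'⟩ := ihq
    refine ⟨n + k, z * w, by rw [pow_add]; exact Ideal.mul_mem_mul hz hw, ?_⟩
    rw [map_mul, e, e']
    ring

variable {C L : Type u} [CommRing C] [IsDomain C] [Algebra A C] [Algebra.FiniteType A C] [CommRing L] [IsLocalRing L]
  [Algebra C L] [Algebra A L] [IsScalarTower A C L] (q : Ideal C) [q.IsMaximal] [IsLocalization.AtPrime L q]

/-- The local ring at a closed point of a chart over the closed point. -/
theorem child_of_chart (hbot : m ≠ ⊥) (hinjC : Function.Injective (algebraMap A C)) {a : A} (ha : a ∈ m)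
    (hdiv : ∀ z ∈ m, ∃ w : C, algebraMap A C z = algebraMap A C a * w)
    (hgen : ∀ c : C, ∃ n : ℕ, ∃ z ∈ m ^ n, algebraMap A C z = c * algebraMap A C a ^ n)
    (hcomap : q.comap (algebraMap A C) = m)
    (hnt : ∀ s t : L, IsLocalRing.maximalIdeal L ≠ Ideal.span {s, t}) :
    Child (algebraMap A L) ∧ ∀ u : L, ∃ p p' : A, p' ≠ 0 ∧ algebraMap A L p' * u = algebraMap A L p := by
  have hdomL : IsDomain L := IsLocalization.isDomain_of_le_nonZeroDivisors L q.primeCompl_le_nonZeroDivisors
  have hinjL : Function.Injective (algebraMap C L) := IsLocalization.injective L q.primeCompl_le_nonZeroDivisors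
  have hinj : Function.Injective (algebraMap A L) := by
    rw [IsScalarTower.algebraMap_eq A C L]; exact hinjL.comp hinjC
  have ha0 : a ≠ 0 := fun h => hbot ((Submodule.eq_bot_iff _).2 fun z hz => hinjC (by
    obtain ⟨w, hw⟩ := hdiv z hz
    rw [hw, h, map_zero, zero_mul]))
  have hmap : (m).map (algebraMap A L) = Ideal.span {algebraMap A L a} := by
    refine le_antisymm (Ideal.map_le_iff_le_comap.2 fun z hz => ?_)
      ((Ideal.span_singleton_le_iff_mem _).2 (Ideal.mem_map_of_mem _ ha))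
    obtain ⟨w, hw⟩ := hdiv z hz
    rw [Ideal.mem_comap, Ideal.mem_span_singleton]
    exact ⟨algebraMap C L w, by rw [IsScalarTower.algebraMap_apply A C L, hw, map_mul, ← IsScalarTower.algebraMap_apply]⟩
  have hgenL : ∀ u : L, ∃ n : ℕ, ∃ z ∈ m ^ n, ∃ d ∈ m ^ n, (m).map (algebraMap A L) ^ n = Ideal.span {algebraMap A L d} ∧
      algebraMap A L z = u * algebraMap A L d := by
    intro u
    obtain ⟨⟨c, s⟩, hcs⟩ := IsLocalization.surj q.primeCompl u
    obtain ⟨n, z, hz, e₁⟩ := hgen c
    obtain ⟨k, d, hd, e₂⟩ := hgen s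
    refine ⟨n + k, z * a ^ k, by rw [pow_add]; exact Ideal.mul_mem_mul hz (Ideal.pow_mem_pow ha k),
      d * a ^ n, by rw [pow_add, mul_comm (m ^ n)]; exact Ideal.mul_mem_mul hd (Ideal.pow_mem_pow ha n), ?_, ?_⟩
    · rw [hmap, Ideal.span_singleton_pow, Ideal.span_singleton_eq_span_singleton]
      obtain ⟨v, hv⟩ := IsLocalization.map_units L s
      refine ⟨v, ?_⟩
      rw [hv, map_mul, IsScalarTower.algebraMap_apply A C L d, e₂, map_mul, map_pow, map_pow,
        ← IsScalarTower.algebraMap_apply A C L]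
      ring
    · rw [map_mul, map_mul, IsScalarTower.algebraMap_apply A C L z, e₁, IsScalarTower.algebraMap_apply A C L d, e₂,
        map_mul, map_mul, ← hcs, map_pow, map_pow, map_pow, map_pow, ← IsScalarTower.algebraMap_apply A C L]
      ring
  have hle : (m).map (algebraMap A L) ≤ IsLocalRing.maximalIdeal L := by
    rw [IsScalarTower.algebraMap_eq A C L, ← Ideal.map_map, ← IsLocalization.AtPrime.map_eq_maximalIdeal q L]
    exact Ideal.map_mono (Ideal.map_le_iff_le_comap.2 hcomap.ge)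
  refine ⟨⟨hle, ⟨a, ha, hmap⟩, hinj, hbot, hgenL, fun u => ?_, hnt⟩, fun u => ?_⟩
  · let k := A ⧸ m
    letI : Algebra k (C ⧸ q) := (Ideal.quotientMap q (algebraMap A C) hcomap.ge).toAlgebra
    letI := Ideal.Quotient.field m
    letI := Ideal.Quotient.field q
    have : IsScalarTower A k (C ⧸ q) := .of_algebraMap_eq fun _ => rfl
    have : Algebra.FiniteType A (C ⧸ q) :=
      ‹Algebra.FiniteType A C›.of_surjective (Ideal.Quotient.mkₐ A q) Ideal.Quotient.mk_surjective
    have : Algebra.FiniteType k (C ⧸ q) := Algebra.FiniteType.of_restrictScalars_finiteType A k _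
    have : Module.Finite k (C ⧸ q) := finite_of_finite_type_of_isJacobsonRing k _
    obtain ⟨⟨c, s⟩, hcs⟩ := IsLocalization.surj q.primeCompl u
    obtain ⟨w, hw⟩ := Ideal.Quotient.mk_surjective (Ideal.Quotient.mk q c / Ideal.Quotient.mk q (s : C))
    obtain ⟨p, hp, hpw⟩ := (Algebra.IsIntegral.isIntegral (R := k) (Ideal.Quotient.mk q w))
    obtain ⟨P, hP, -, hPm⟩ := Polynomial.lifts_and_degree_eq_and_monic
      ((Polynomial.mem_lifts p).2 (Polynomial.map_surjective _ Ideal.Quotient.mk_surjective p)) hp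
    refine ⟨P, hPm, ?_⟩
    have hPw : P.eval₂ (algebraMap A C) w ∈ q := by
      rw [← Ideal.Quotient.eq_zero_iff_mem, Polynomial.hom_eval₂, ← hpw, ← hP, Polynomial.eval₂_map]
      rfl
    have huw : u - algebraMap C L w ∈ IsLocalRing.maximalIdeal L := by
      refine (Ideal.mul_unit_mem_iff_mem _ (IsLocalization.map_units L s)).1 ?_
      rw [sub_mul, hcs, ← map_mul, ← map_sub, IsLocalization.AtPrime.to_map_mem_maximal_iff L q,
        ← Ideal.Quotient.eq_zero_iff_mem, map_sub, map_mul, hw,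
        div_mul_cancel₀ _ (fun h => s.2 (Ideal.Quotient.eq_zero_iff_mem.1 h)), sub_self]
    have h1 : algebraMap C L (P.eval₂ (algebraMap A C) w) ∈ IsLocalRing.maximalIdeal L :=
      (IsLocalization.AtPrime.to_map_mem_maximal_iff L q _).2 hPw
    rw [Polynomial.hom_eval₂, ← IsScalarTower.algebraMap_eq] at h1
    have h2 : P.eval₂ (algebraMap A L) u - P.eval₂ (algebraMap A L) (algebraMap C L w) ∈ IsLocalRing.maximalIdeal L := by
      rw [← Polynomial.eval_map, ← Polynomial.eval_map]
      exact Ideal.mem_of_dvd _ (Polynomial.sub_dvd_eval_sub _ _ _) huw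
    simpa using add_mem h2 h1
  · obtain ⟨n, z, -, d, -, hd, e'⟩ := hgenL u
    refine ⟨z, d, fun h => ?_, by rw [mul_comm]; exact e'.symm⟩
    rw [h, map_zero, hmap, Ideal.span_singleton_pow, Ideal.span_singleton_eq_span_singleton] at hd
    exact pow_ne_zero n ((map_ne_zero_iff _ hinj).2 ha0) (Associated.eq_zero_iff hd |>.2 rfl)

end Groth.Agent.RDPChain13
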