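import Groth.Agent.RDPChain13.Blowup
import Groth.Agent.RDPChain13.ChartChild

/-! Singular points of blow-ups give steps of chains. -/

set_option autoImplicit false
set_option backward.isDefEq.respectTransparency.types false
set_option linter.style.haveILetI false

universe u

open CategoryTheory CategoryTheory.Limits AlgebraicGeometry

namespace Groth.Agent.RDPChain13

theorem one_lt_dim {R : Type u} [CommRing R] [IsLocalRing R] [IsNoetherianRing R] [IsDomain R] [IsIntegrallyClosed R]
    (hx : ¬ IsRegularLocalRing R) : ¬ ringKrullDim R ≤ 1 := fun h =>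
  hx (CAlgH3.isRegularLocalRing_of_normal_dim_le_one h)

theorem not_two_of_not_regular {R : Type u} [CommRing R] [IsLocalRing R] [IsNoetherianRing R]
    (hdim : ringKrullDim R = 2) (hx : ¬ IsRegularLocalRing R) (p q : R) :
    IsLocalRing.maximalIdeal R ≠ Ideal.span {p, q} := fun h => by
  refine hx (IsRegularLocalRing.of_spanFinrank_maximalIdeal_le R ?_)
  rw [h, hdim]
  exact_mod_cast (Submodule.spanFinrank_span_le_ncard_of_finite (R := R) (Set.toFinite ({p, q} : Set R))).trans
    ((Set.ncard_insert_le p {q}).trans (by simp))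

theorem good_of_stalk {A : Type u} [CommRing A] [IsLocalRing A] [IsDomain A] [IsNoetherianRing A] [IsIntegrallyClosed A]
    (hA : Good A) {C L : Type u} [CommRing C] [Algebra A C] [Algebra.FiniteType A C] [CommRing L] [IsLocalRing L]
    [Algebra C L] [Algebra A L] [IsScalarTower A C L] (M : Submonoid C) [IsLocalization M L] [IsDomain L]
    [IsLocalHom (algebraMap A L)] (hinj : Function.Injective (algebraMap A L))
    (hfrac : ∀ u : L, ∃ p p' : A, p' ≠ 0 ∧ algebraMap A L p' * u = algebraMap A L p)
    {O : Type u} [CommRing O] [IsLocalRing O] [IsNoetherianRing O] (ε : O ≃+* L) [IsDomain O] [IsIntegrallyClosed O]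
    (hD : IsDomain (Curv2.cpl O)) (hI : IsIntegrallyClosed (Curv2.cpl O)) (hdim : ringKrullDim O = 2) : Good L := by
  have hCn : IsNoetherianRing C := Algebra.FiniteType.isNoetherianRing A C
  have hLno : IsNoetherianRing L := IsLocalization.isNoetherianRing M L inferInstance
  have hLn : IsIntegrallyClosed L := IsIntegrallyClosed.of_equiv ε
  have hdimL : ringKrullDim L = 2 := (ringKrullDim_eq_of_ringEquiv ε).symm.trans hdim
  have : Algebra.EssFiniteType C L := Algebra.EssFiniteType.of_isLocalization _ M
  have : Algebra.EssFiniteType A L := Algebra.EssFiniteType.comp A C L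
  have hNL : CAlg.IsNagata L := CAlgH.isNagata_of_ringEquiv
    (IsLocalization.algEquiv M (Localization M) L).toRingEquiv
    (S4710.result C (CAlgH.isNagata_of_finiteType hA.nagata C) M)
  have : IsLocalHom (ε : O →+* L) := ⟨fun r hr => by simpa using hr.map ε.symm⟩
  obtain ⟨ec⟩ := S7302.nonempty_cpl_equiv (ε : O →+* L) fun n _ h => by
    have hmx : IsLocalRing.maximalIdeal L ^ n = (IsLocalRing.maximalIdeal O ^ n).map (ε : _ →+* L) := by
      rw [Ideal.map_pow, ← IsLocalRing.map_ringEquiv_maximalIdeal ε]
      rfl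
    refine ⟨(injective_iff_map_eq_zero _).2 fun v hv => ?_, fun v => ?_⟩
    · obtain ⟨v, rfl⟩ := Ideal.Quotient.mk_surjective v
      rw [Ideal.quotientMap_mk, Ideal.Quotient.eq_zero_iff_mem, hmx,
        Ideal.mem_map_iff_of_surjective (ε : O →+* L) ε.surjective] at hv
      obtain ⟨w, hw, hwv⟩ := hv
      rw [Ideal.Quotient.eq_zero_iff_mem, ← ε.injective hwv]
      exact hw
    · obtain ⟨v, rfl⟩ := Ideal.Quotient.mk_surjective v
      exact ⟨Ideal.Quotient.mk _ (ε.symm v), by rw [Ideal.quotientMap_mk]; simp⟩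
  exact ⟨inferInstance, hLno, hLn, hNL, hdimL, S1649.result A L hA.nagata hA.dim hA.rat hinj hfrac hdimL,
    ec.symm.toMulEquiv.isDomain _, IsIntegrallyClosed.of_equiv ec⟩

/-- A singular point gives the next ring of the chain. -/
theorem exists_child {A : Type u} [CommRing A] [IsLocalRing A] [IsDomain A] [IsNoetherianRing A] [IsIntegrallyClosed A]
    (hA : Good A) {X : Scheme.{u}} (b : X ⟶ Spec (CommRingCat.of A))
    (hb : BlowUp.IsBlowUp b (Curv2.idealSheaf A (IsLocalRing.maximalIdeal A))) {x : X}
    (hx : ¬ IsRegularLocalRing (X.presheaf.stalk x)) :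
    ∃ (L : Type u) (_ : CommRing L) (_ : IsLocalRing L) (φ : A →+* L),
      Good L ∧ ¬ IsRegularLocalRing L ∧ Child φ ∧ Nonempty (X.presheaf.stalk x ≃+* L) := by
  have := hA.cpl_dom; have := hA.cpl_normal
  obtain ⟨_, _, hXn, hη, hbij⟩ := exists_data hA b hb
  have : IsLocallyNoetherian X := LocallyOfFiniteType.isLocallyNoetherian b
  have hxc := isClosed_of_singular hA b hb hx
  have hbx : b.base x = IsLocalRing.closedPoint A := by
    have h1 : IsClosed ({b.base x} : Set (Spec (CommRingCat.of A))) := by
      rw [← Set.image_singleton]; exact b.isClosedMap _ hxc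
    exact PrimeSpectrum.ext (IsLocalRing.eq_maximalIdeal ((PrimeSpectrum.isClosed_singleton_iff_isMaximal _).1 h1))
  let m := IsLocalRing.maximalIdeal A
  obtain ⟨a, ha, V, e, hxV, he⟩ := SDiv28.blowUp_affine_cover A m b hb x
  let C := ↥(BlowUp.affineAlgebra A m a)
  let y : Spec (CommRingCat.of C) := e.hom ⟨x, hxV⟩
  let g : Spec (CommRingCat.of C) ⟶ X := e.inv ≫ V.ι
  have hgy : g y = x := by
    show V.ι (e.inv (e.hom ⟨x, hxV⟩)) = x
    rw [← Scheme.Hom.comp_apply e.hom e.inv, e.hom_inv_id]
    rfl
  have hgb : g ≫ b = Spec.map (CommRingCat.ofHom (algebraMap A C)) := by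
    rw [Category.assoc, ← he, Iso.inv_hom_id_assoc]
  have : y.asIdeal.IsMaximal := (PrimeSpectrum.isClosed_singleton_iff_isMaximal y).1 (by
    have h1 : IsClosed (g ⁻¹' {x}) := hxc.preimage g.continuous
    rwa [show g ⁻¹' {x} = {y} from Set.ext fun t =>
      ⟨fun h => g.isOpenEmbedding.injective (h.trans hgy.symm), fun h => by rw [Set.mem_singleton_iff.1 h]; exact hgy⟩] at h1)
  have hcomap : y.asIdeal.comap (algebraMap A C) = m := congrArg PrimeSpectrum.asIdeal
    (show (Spec.map (CommRingCat.ofHom (algebraMap A C))) y = IsLocalRing.closedPoint A by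
      rw [← hgb, Scheme.Hom.comp_apply, hgy]; exact hbx)
  have hCft : Algebra.FiniteType A C := RingHom.finiteType_algebraMap.1
    ((HasRingHomProperty.Spec_iff (P := @LocallyOfFiniteType) (φ := CommRingCat.ofHom (algebraMap A C))).1
      (by rw [← hgb]; infer_instance))
  have ha0 : a ≠ 0 := fun h => by
    subst h
    have : Subsingleton (Localization.Away (0 : A)) := IsLocalization.subsingleton (R := A) (M := Submonoid.powers 0)
      (Submonoid.mem_powers 0)
    have : Subsingleton C := Function.Injective.subsingleton Subtype.val_injective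
    exact y.2.ne_top ((Ideal.eq_top_iff_one _).2 (Subsingleton.elim (0 : C) 1 ▸ zero_mem _))
  have : IsDomain (Localization.Away a) :=
    IsLocalization.isDomain_localization (powers_le_nonZeroDivisors_of_noZeroDivisors ha0)
  have hinjC : Function.Injective (algebraMap A C) := fun p q h =>
    IsLocalization.injective (Localization.Away a) (powers_le_nonZeroDivisors_of_noZeroDivisors ha0) (congrArg Subtype.val h)
  let L := Localization.AtPrime y.asIdeal
  let ε : X.presheaf.stalk x ≃+* L :=
    (X.presheaf.stalkCongr (.of_eq hgy.symm)).commRingCatIsoToRingEquiv.trans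
      ((asIso (g.stalkMap y)) ≪≫ Spec.stalkIso _ y).commRingCatIsoToRingEquiv
  obtain ⟨_, _⟩ := hXn x
  have hdimO : ringKrullDim (X.presheaf.stalk x) = 2 := by
    have h1 := one_lt_dim hx
    have h2 := (Resolve13.Modification.ringKrullDim_stalk_le b hη hbij x).trans
      (Resolve13.ringKrullDim_stalk_spec_le hA.dim.le _)
    refine le_antisymm h2 ?_
    generalize ringKrullDim (X.presheaf.stalk x) = w at h1
    match w with
    | ⊥ => exact absurd bot_le h1
    | (j : ℕ∞) =>
      have h3 : ¬ j ≤ (1 : ℕ∞) := fun h => h1 (WithBot.coe_le_coe.2 h)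
      exact WithBot.coe_le_coe.2 (Order.add_one_le_of_lt (not_le.1 h3))
  have : IsDomain L := IsLocalization.isDomain_localization y.asIdeal.primeCompl_le_nonZeroDivisors
  have : IsNoetherianRing C := Algebra.FiniteType.isNoetherianRing A C
  have hnreg : ¬ IsRegularLocalRing L := fun h => by
    have := h
    exact hx (IsRegularLocalRing.of_ringEquiv (R := L) ε.symm)
  obtain ⟨hch, hfrac⟩ := child_of_chart (A := A) (C := C) (L := L) y.asIdeal (maximalIdeal_ne_bot hA.dim) hinjC ha
    (fun z hz => ⟨⟨_, ProjLib.frac_mem_affineAlgebra hz⟩,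
      Subtype.ext (IsLocalization.mk'_spec' _ z ⟨a, Submonoid.mem_powers a⟩).symm⟩)
    (chart_gen ha) hcomap (not_two_of_not_regular ((ringKrullDim_eq_of_ringEquiv ε).symm.trans hdimO) hnreg)
  have : IsLocalHom (algebraMap A L) := ⟨fun r hr => by
    by_contra h
    exact hch.le (Ideal.mem_map_of_mem _ h) hr⟩
  obtain ⟨hD, hI⟩ := S7302.result A hA.nagata hA.dim hA.rat X b hb x hxc
  exact ⟨L, inferInstance, inferInstance, algebraMap A L,
    good_of_stalk (C := C) hA y.asIdeal.primeCompl hch.inj hfrac ε hD hI hdimO, hnreg, hch, ⟨ε⟩⟩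

end Groth.Agent.RDPChain13
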