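import Groth.Agent.RDPChain13.DescendResolution
import Groth.Agent.FSchLib.IdealSheaf
import Groth.Agent.CAlgH3.Serre
import Groth.Agent.S2654

/-! Desingularisation in codimension two by one blow-up. -/

set_option autoImplicit false
set_option backward.isDefEq.respectTransparency.types false
set_option linter.style.haveILetI false

universe u

open CategoryTheory CategoryTheory.Limits AlgebraicGeometry TopologicalSpace IsLocalRing

namespace Groth.Agent.RDPChain13

variable {Y : Scheme.{u}}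

/-- An ideal of a local ring cosupported at the closed point extends to an ideal supported in the closure of the point. -/
theorem exists_ideal_extend [AlgebraicGeometry.IsNoetherian Y] (y : Y) (I0 : Ideal (Y.presheaf.stalk y))
    (hI : Disjoint ((Curv2.idealSheaf (Y.presheaf.stalk y) I0).support : Set (Spec (Y.presheaf.stalk y)))
      (FEt.puncturedSpec (Y.presheaf.stalk y) : Set (Spec (Y.presheaf.stalk y)))) :
    ∃ J : Y.IdealSheafData, (J.support : Set Y) ⊆ closure {y} ∧
      J.comap (Y.fromSpecStalk y) = Curv2.idealSheaf (Y.presheaf.stalk y) I0 := by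
  obtain ⟨U, hU, hyU, -⟩ := exists_isAffineOpen_mem_and_subset (x := y) (U := (⊤ : Y.Opens)) trivial
  let γ : Γ(Y, U) →+* Y.presheaf.stalk y := (Y.presheaf.germ U y hyU).hom
  have hφ : Y.fromSpecStalk y = Spec.map (CommRingCat.ofHom γ) ≫ hU.fromSpec := by
    rw [← hU.fromSpecStalk_eq_fromSpecStalk hyU]; rfl
  let p := hU.primeIdealOf ⟨y, hyU⟩
  letI := Y.presheaf.algebra_section_stalk (⟨y, hyU⟩ : U)
  haveI := hU.isLocalization_stalk ⟨y, hyU⟩
  let K0 : Ideal Γ(Y, U) := I0.comap γ
  have hK0map : K0.map γ = I0 := IsLocalization.map_comap p.asIdeal.primeCompl _ _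
  refine ⟨(Curv2.idealSheaf Γ(Y, U) K0).map hU.fromSpec, ?_, ?_⟩
  · haveI : QuasiCompact hU.fromSpec := by
      haveI := hU.isOpenImmersion_fromSpec
      exact inferInstance
    rw [Scheme.IdealSheafData.support_map, Closeds.coe_closure, CAlgH3.BlowUpCd.support_idealSheaf]
    refine closure_minimal ?_ isClosed_closure
    rintro _ ⟨q, hq, rfl⟩
    have hle : p.asIdeal ≤ q.asIdeal := by
      have hrad : maximalIdeal (Y.presheaf.stalk y) ≤ I0.radical := by
        rw [Ideal.radical_eq_sInf]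
        refine le_sInf fun Q hQ => ?_
        by_contra hne
        haveI := hQ.2
        refine Set.disjoint_left.1 hI
          (show (⟨Q, hQ.2⟩ : PrimeSpectrum (Y.presheaf.stalk y)) ∈ _ from ?_) ?_
        · rw [CAlgH3.BlowUpCd.support_idealSheaf]; exact hQ.1
        · intro h
          exact hne (le_of_eq (congrArg PrimeSpectrum.asIdeal (Set.mem_singleton_iff.1 h)).symm)
      intro a ha
      refine q.isPrime.radical_le_iff.2 (show K0 ≤ q.asIdeal from hq) ?_
      have h1 : γ a ∈ I0.radical := hrad ((IsLocalRing.mem_maximalIdeal _).2 fun hu =>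
        (IsLocalization.AtPrime.isUnit_to_map_iff (Y.presheaf.stalk y) p.asIdeal a).1 hu ha)
      obtain ⟨n, hn⟩ := h1
      exact ⟨n, show γ (a ^ n) ∈ I0 by rwa [map_pow]⟩
    have hsp : p ⤳ q := (PrimeSpectrum.le_iff_specializes p q).1 hle
    have := hsp.map hU.fromSpec.continuous
    rw [hU.fromSpec_primeIdealOf] at this
    exact specializes_iff_mem_closure.1 this
  · rw [hφ, Scheme.IdealSheafData.comap_comp, Resolve13.RatModif.comap_map_of_isOpenImmersion]
    have := Resolve13.RatExt.idealSheaf_comap_comp γ (𝟙 _) K0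
    rw [Category.id_comp, hK0map, Scheme.IdealSheafData.comap_id] at this
    exact this

theorem comap_finset_prod {X : Scheme.{u}} {ι : Type*} (s : Finset ι) (J : ι → Y.IdealSheafData) (f : X ⟶ Y) :
    (∏ i ∈ s, J i).comap f = ∏ i ∈ s, (J i).comap f := by
  classical
  induction s using Finset.induction_on with
  | empty => simp
  | insert a s ha ih => rw [Finset.prod_insert ha, Finset.prod_insert ha, FSchLib.comap_mul, ih]

theorem support_finset_prod_subset {ι : Type*} (s : Finset ι) (J : ι → Y.IdealSheafData) {T : Set Y}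
    (h : ∀ i ∈ s, ((J i).support : Set Y) ⊆ T) : ((∏ i ∈ s, J i).support : Set Y) ⊆ T := by
  classical
  induction s using Finset.induction_on with
  | empty => simp
  | insert a s ha ih =>
    rw [Finset.prod_insert ha, Scheme.IdealSheafData.support_mul]
    exact Set.union_subset (h a (Finset.mem_insert_self a s)) (ih fun i hi => h i (Finset.mem_insert_of_mem hi))

/-- The singular locus of a scheme with J-2 affine coordinate rings is closed. -/
theorem isClosed_singular (hJ : ∀ y : Y, ∃ V : Y.Opens, IsAffineOpen V ∧ y ∈ V ∧ EGA4.IsJ2 Γ(Y, V)) :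
    IsClosed {y : Y | ¬ IsRegularLocalRing (Y.presheaf.stalk y)} := by
  refine isOpen_compl_iff.1 (isOpen_iff_forall_mem_open.2 fun y hy => ?_)
  obtain ⟨V, hV, hyV, hJ⟩ := hJ y
  have hloc : ∀ q : PrimeSpectrum Γ(Y, V),
      q ∈ EGA4.regLocus _ ↔ IsRegularLocalRing (Y.presheaf.stalk (hV.fromSpec q)) := fun q => by
    have hmem : hV.fromSpec q ∈ V := by
      have := Set.mem_range_self (f := hV.fromSpec) q
      rwa [hV.range_fromSpec] at this
    letI := Y.presheaf.algebra_section_stalk (⟨_, hmem⟩ : V)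
    haveI : IsLocalization q.asIdeal.primeCompl (Y.presheaf.stalk (hV.fromSpec q)) :=
      hV.isLocalization_stalk' q hmem
    let e := (IsLocalization.algEquiv q.asIdeal.primeCompl (Y.presheaf.stalk (hV.fromSpec q))
      (Localization.AtPrime q.asIdeal)).toRingEquiv
    refine ⟨fun h => ?_, fun h => ?_⟩
    · haveI : IsRegularLocalRing (Localization.AtPrime q.asIdeal) := h
      exact IsRegularLocalRing.of_ringEquiv e.symm
    · exact IsRegularLocalRing.of_ringEquiv e
  refine ⟨hV.fromSpec '' EGA4.regLocus _, ?_,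
    hV.fromSpec.isOpenEmbedding.isOpenMap _ (hJ Γ(Y, V) inferInstance),
    ⟨hV.primeIdealOf ⟨y, hyV⟩, (hloc _).2 ((hV.fromSpec_primeIdealOf ⟨y, hyV⟩).symm ▸ not_not.1 hy),
      hV.fromSpec_primeIdealOf ⟨y, hyV⟩⟩⟩
  rintro _ ⟨q, hq, rfl⟩
  exact not_not.2 ((hloc q).1 hq)

/-- Points of dimension two in a set of points of dimension at least two are maximal for generisation. -/
theorem eq_of_specializes_of_dim_two [IsLocallyNoetherian Y] {y z : Y} (h : z ⤳ y)
    (hy : ringKrullDim (Y.presheaf.stalk y) ≤ 2) (hz : ¬ ringKrullDim (Y.presheaf.stalk z) ≤ 1) : z = y := by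
  by_contra hne
  obtain ⟨W, hW, hyW, -⟩ := exists_isAffineOpen_mem_and_subset (x := y) (U := (⊤ : Y.Opens)) trivial
  have hzW : z ∈ W := h.mem_open W.2 hyW
  haveI : IsNoetherianRing Γ(Y, W) := IsLocallyNoetherian.component_noetherian ⟨W, hW⟩
  have hlt : (hW.primeIdealOf ⟨z, hzW⟩).asIdeal < (hW.primeIdealOf ⟨y, hyW⟩).asIdeal := by
    refine lt_of_le_of_ne ?_ fun e => hne ?_
    · show hW.primeIdealOf ⟨z, hzW⟩ ≤ hW.primeIdealOf ⟨y, hyW⟩
      rw [PrimeSpectrum.le_iff_specializes]
      refine hW.fromSpec.isOpenEmbedding.isInducing.specializes_iff.1 ?_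
      rw [hW.fromSpec_primeIdealOf, hW.fromSpec_primeIdealOf]
      exact h
    · have := congrArg (fun p => hW.fromSpec p)
        (PrimeSpectrum.ext e : hW.primeIdealOf ⟨z, hzW⟩ = hW.primeIdealOf ⟨y, hyW⟩)
      simpa only [hW.fromSpec_primeIdealOf] using this
  have h1 := Ideal.height_add_one_le_of_lt_of_isPrime hlt
  have hst : ∀ (w : Y) (hw : w ∈ W), ringKrullDim (Y.presheaf.stalk w) =
      ((hW.primeIdealOf ⟨w, hw⟩).asIdeal.height : WithBot ℕ∞) := fun w hw => by
    have := hW.isLocalization_stalk ⟨w, hw⟩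
    let := Y.presheaf.algebra_section_stalk (⟨w, hw⟩ : W)
    exact IsLocalization.AtPrime.ringKrullDim_eq_height _ (Y.presheaf.stalk (⟨w, hw⟩ : W).1)
  rw [hst y hyW] at hy
  rw [hst z hzW] at hz
  refine hz ?_
  have h2 : (hW.primeIdealOf ⟨z, hzW⟩).asIdeal.height + 1 ≤ 1 + 1 :=
    h1.trans ((WithBot.coe_le_coe.1 hy).trans (by decide))
  exact WithBot.coe_le_coe.2 ((WithTop.add_le_add_iff_right (by decide)).1 h2)

set_option maxHeartbeats 1000000 in
/-- One blow-up resolves a normal quasi-excellent scheme over the points of dimension at most two. -/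
theorem exists_center_regular_over_codim_two [AlgebraicGeometry.IsNoetherian Y]
    (hnor : ∀ x : Y, IsDomain (Y.presheaf.stalk x) ∧ IsIntegrallyClosed (Y.presheaf.stalk x))
    (hqe : ∀ y : Y, ∃ V : Y.Opens, IsAffineOpen V ∧ y ∈ V ∧ EGA4.IsQuasiExcellent Γ(Y, V)) :
    ∃ 𝓘 : Y.IdealSheafData,
      (𝓘.support : Set Y) ⊆ closure {x : Y | ¬ IsRegularLocalRing (Y.presheaf.stalk x) ∧
        ringKrullDim (Y.presheaf.stalk x) = 2} ∧
      (∀ U : Y.Opens, (∀ x : Y, x ∈ U → IsRegularLocalRing (Y.presheaf.stalk x)) → U ≤ 𝓘.support.compl) ∧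
      ∀ (X' : Scheme.{u}) (b : X' ⟶ Y), BlowUp.IsBlowUp b 𝓘 →
        ∀ x' : X', ringKrullDim (Y.presheaf.stalk (b.base x')) ≤ 2 →
          IsRegularLocalRing (X'.presheaf.stalk x') := by
  classical
  have hSing := isClosed_singular fun y => (hqe y).imp fun V ⟨h1, h2, h3⟩ => ⟨h1, h2, h3.2.2⟩
  let S : Set Y := {x : Y | ¬ IsRegularLocalRing (Y.presheaf.stalk x) ∧ ringKrullDim (Y.presheaf.stalk x) = 2}
  have hgt : ∀ y : Y, ¬ IsRegularLocalRing (Y.presheaf.stalk y) → ¬ ringKrullDim (Y.presheaf.stalk y) ≤ 1 :=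
    fun y hy h => hy (by
      haveI := (hnor y).1; haveI := (hnor y).2
      exact CAlgH3.isRegularLocalRing_of_normal_dim_le_one h)
  have hSfin : S.Finite := by
    haveI : NoetherianSpace Y := inferInstance
    haveI : NoetherianSpace ↥({y : Y | ¬ IsRegularLocalRing (Y.presheaf.stalk y)} : Set Y) := inferInstance
    refine (NoetherianSpace.exists_finite_set_isClosed_irreducible hSing).elim fun T hT => ?_
    obtain ⟨hTf, hTc, hTi, hTu⟩ := hT
    haveI := hTf.to_subtype
    refine (Set.finite_iUnion fun t : T => Set.finite_singleton (hTi t.1 t.2).genericPoint).subset fun y hy => ?_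
    have hymem : y ∈ ⋃₀ T := hTu ▸ hy.1
    obtain ⟨t, ht, hyt⟩ := hymem
    refine Set.mem_iUnion.2 ⟨⟨t, ht⟩, Set.mem_singleton_iff.2 ?_⟩
    have hg := (hTi t ht).isGenericPoint_genericPoint_closure
    rw [(hTc t ht).closure_eq] at hg
    have hgT : (hTi t ht).genericPoint ∈ {y : Y | ¬ IsRegularLocalRing (Y.presheaf.stalk y)} :=
      hTu ▸ ⟨t, ht, hg.mem⟩
    exact (eq_of_specializes_of_dim_two (hg.specializes hyt) hy.2.le (hgt _ hgT)).symm
  have hloc : ∀ y : Y, ∃ J : Y.IdealSheafData, (J.support : Set Y) ⊆ closure {y} ∧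
      (y ∈ S → ∃ (X : Scheme.{u}) (b : X ⟶ Spec (Y.presheaf.stalk y)),
        BlowUp.IsBlowUp b (J.comap (Y.fromSpecStalk y)) ∧ ∀ x : X, IsRegularLocalRing (X.presheaf.stalk x)) := by
    intro y
    by_cases hy : y ∈ S
    · haveI := (hnor y).1
      haveI := (hnor y).2
      haveI : IsNoetherianRing (Y.presheaf.stalk y) := inferInstance
      obtain ⟨V, hV, hyV, hVqe⟩ := hqe y
      letI := Y.presheaf.algebra_section_stalk (⟨y, hyV⟩ : V)
      haveI := hV.isLocalization_stalk ⟨y, hyV⟩
      have hG' : CAlg.IsGRing (Y.presheaf.stalk y) :=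
        CAlgH.isGRing_localization (hV.primeIdealOf ⟨y, hyV⟩).asIdeal.primeCompl _ hVqe.2.1
      have hc : IsDomain (Curv2.cpl (Y.presheaf.stalk y)) ∧ IsIntegrallyClosed (Curv2.cpl (Y.presheaf.stalk y)) :=
        CommAlg6.NormalTensor.isDomain_of_local
        (CAlgH.ExcellentNormal.isNormalRing_adicCompletion _ hG'
          (CAlgH.ExcellentNormal.isNormalRing_of_isIntegrallyClosed _) _)
      haveI : IsDomain (Curv2.cpl (Y.presheaf.stalk y)) := hc.1
      haveI : IsIntegrallyClosed (Curv2.cpl (Y.presheaf.stalk y)) := hc.2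
      obtain ⟨I, X, b, hI, hb, hreg⟩ := exists_regular_admissible_of_cpl (Y.presheaf.stalk y) hy.2
      obtain ⟨I0, rfl⟩ := Resolve13.RatExt.exists_eq_idealSheaf I
      obtain ⟨J, hJ, hJc⟩ := exists_ideal_extend y I0 hI.2
      exact ⟨J, hJ, fun _ => ⟨X, b, by rw [hJc]; exact hb, hreg⟩⟩
    · exact ⟨⊤, by simp, fun h => absurd h hy⟩
  choose J hJsupp hJbl using hloc
  have hsupp : ((∏ y ∈ hSfin.toFinset, J y).support : Set Y) ⊆ closure S :=
    support_finset_prod_subset _ _ fun i hi =>
      (hJsupp i).trans (closure_mono (Set.singleton_subset_iff.2 (hSfin.mem_toFinset.1 hi)))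
  have hSsing : closure S ⊆ {y : Y | ¬ IsRegularLocalRing (Y.presheaf.stalk y)} :=
    closure_minimal (fun y hy => hy.1) hSing
  refine ⟨∏ y ∈ hSfin.toFinset, J y, hsupp, fun U hU z hz hz' => hSsing (hsupp hz') (hU z hz),
    fun X' b hb x' hdim => ?_⟩
  by_cases hxS : b x' ∈ S
  · obtain ⟨X, c, hc, hreg⟩ := hJbl _ hxS
    have hcomap : (∏ y ∈ hSfin.toFinset, J y).comap (Y.fromSpecStalk (b x')) =
        (J (b x')).comap (Y.fromSpecStalk (b x')) := by
      rw [comap_finset_prod, Finset.prod_eq_single_of_mem _ (hSfin.mem_toFinset.2 hxS) fun i hi hne => ?_]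
      rw [Scheme.IdealSheafData.one_eq_top, ← Scheme.IdealSheafData.support_eq_bot_iff,
        Scheme.IdealSheafData.support_comap]
      refine Closeds.ext (Set.eq_empty_of_forall_notMem fun w hw => ?_)
      have h1 : Y.fromSpecStalk (b x') w ⤳ b x' := by
        have := Set.mem_range_self (f := Y.fromSpecStalk (b x')) w
        rwa [Scheme.range_fromSpecStalk] at this
      have h2 : i ⤳ b x' := (specializes_iff_mem_closure.2 (hJsupp i hw)).trans h1
      exact hne (eq_of_specializes_of_dim_two h2 hdim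
        (hgt i (hSfin.mem_toFinset.1 hi).1))
    haveI : Flat (Y.fromSpecStalk (b x')) := Props12.flat_fromSpecStalk _
    have hblow := SDiv28.isBlowUp_flat_baseChange hb (Y.fromSpecStalk (b x'))
    rw [hcomap] at hblow
    obtain ⟨e1, -⟩ := BlowUpLib.exists_iso_of_isBlowUp hc hblow
    obtain ⟨t, ht⟩ : x' ∈ Set.range (pullback.fst b (Y.fromSpecStalk (b x'))) := by
      rw [Scheme.Pullback.range_fst]
      show b x' ∈ Set.range (Y.fromSpecStalk (b x'))
      rw [Scheme.range_fromSpecStalk]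
      exact specializes_rfl
    let e2 : pullback b (Y.fromSpecStalk (b x')) ≅ X := pullbackSymmetry _ _ ≪≫ e1.symm
    haveI := hreg (e2.hom t)
    haveI : IsRegularLocalRing ((pullback b (Y.fromSpecStalk (b x'))).presheaf.stalk t) :=
      IsRegularLocalRing.of_ringEquiv (asIso (e2.hom.stalkMap t)).commRingCatIsoToRingEquiv
    haveI := Props12.isIso_stalkMap_fst b (b x') t
    rw [← ht]
    exact IsRegularLocalRing.of_ringEquiv
      (asIso ((pullback.fst b (Y.fromSpecStalk (b x'))).stalkMap t)).commRingCatIsoToRingEquiv.symm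
  · have hreg : IsRegularLocalRing (Y.presheaf.stalk (b x')) := by
      by_contra hns
      refine hxS ⟨hns, le_antisymm hdim ?_⟩
      obtain ⟨d, hd'⟩ := CAlgH3.exists_nat_eq_of_le_spanFinrank
        (ringKrullDim_le_spanFinrank_maximalIdeal (R := Y.presheaf.stalk (b x')))
      have h1 := hgt _ hns
      rw [hd'] at h1 ⊢
      exact_mod_cast (Nat.lt_iff_add_one_le.1 (lt_of_not_ge fun h => h1 (by exact_mod_cast h)))
    have hnot : b x' ∉ (∏ y ∈ hSfin.toFinset, J y).support := fun h => hSsing (hsupp h) hreg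
    haveI := SDiv28.isIso_off_center hb
    haveI := hreg
    let W : Y.Opens := (∏ y ∈ hSfin.toFinset, J y).support.compl
    have hxW : x' ∈ b ⁻¹ᵁ W := hnot
    haveI : IsIso (b.stalkMap x') := by
      have : IsIso ((b ∣_ W).stalkMap ⟨x', hxW⟩) := ((isIso_iff_isIso_stalkMap (b ∣_ W)).mp ‹IsIso (b ∣_ W)›).2 _
      exact ((MorphismProperty.isomorphisms CommRingCat.{u}).arrow_mk_iso_iff (morphismRestrictStalkMap b W ⟨x', hxW⟩)).1 this
    exact IsRegularLocalRing.of_ringEquiv (asIso (b.stalkMap x')).commRingCatIsoToRingEquiv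

end Groth.Agent.RDPChain13
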