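import Groth.Agent.RDPChain13.CodimTwoReduced
import Groth.Agent.DimLib.Formula
import Groth.Agent.AmpleLib.Compose
import Groth.Agent.S4415
import Groth.Agent.S9706

/-! Quasi-projective desingularisation in codimension two. -/

set_option autoImplicit false
set_option backward.isDefEq.respectTransparency.types false
set_option linter.style.haveILetI false

universe u

open CategoryTheory CategoryTheory.Limits AlgebraicGeometry TopologicalSpace

namespace Groth.Agent.RDPChain13

/-- Heights do not grow along finite type algebras that are algebraic on every component. -/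
theorem height_le_of_algebraic_components {A B : Type u} [CommRing A] [CommRing B] [Algebra A B]
    [IsNoetherianRing A] [Algebra.FiniteType A B] (p : Ideal A) [p.IsPrime] (q : Ideal B) [q.IsPrime]
    (hpq : q.comap (algebraMap A B) = p)
    (h : ∀ q0 ∈ minimalPrimes B, ∀ s : B, ∃ a b : A, algebraMap A B b ∉ q0 ∧
      s * algebraMap A B b - algebraMap A B a ∈ q0) : q.height ≤ p.height := by
  rw [show q.height = Order.height (⟨q, inferInstance⟩ : PrimeSpectrum B) from
    PrimeSpectrum.height_eq_orderHeight ⟨q, inferInstance⟩]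
  refine Order.height_le fun l hl => ?_
  obtain ⟨q0, hq0, hq0l⟩ := Ideal.exists_minimalPrimes_le (I := ⊥) (J := l.head.asIdeal) bot_le
  haveI : q0.IsPrime := hq0.1.1
  let p0 := q0.comap (algebraMap A B)
  have hlq : l.head.asIdeal ≤ q := le_trans (show l.head.asIdeal ≤ l.last.asIdeal from l.monotone (Fin.zero_le _)) (le_of_eq (congrArg PrimeSpectrum.asIdeal hl))
  have hq0q : q0 ≤ q := hq0l.trans hlq
  haveI : q0.LiesOver p0 := ⟨rfl⟩
  haveI : FaithfulSMul (A ⧸ p0) (B ⧸ q0) := (faithfulSMul_iff_algebraMap_injective _ _).2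
    Ideal.algebraMap_quotient_injective
  haveI : Algebra.FiniteType (A ⧸ p0) (B ⧸ q0) := Algebra.FiniteType.of_restrictScalars_finiteType A _ _
  haveI : Algebra.IsAlgebraic (A ⧸ p0) (B ⧸ q0) := by
    refine ⟨fun t => ?_⟩
    obtain ⟨s, rfl⟩ := Ideal.Quotient.mk_surjective t
    obtain ⟨a, b, hb, hab⟩ := h q0 hq0 s
    let a' : A ⧸ p0 := Ideal.Quotient.mk p0 a
    let b' : A ⧸ p0 := Ideal.Quotient.mk p0 b
    refine ⟨Polynomial.C b' * Polynomial.X - Polynomial.C a', fun hp => hb ?_, ?_⟩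
    · have : b' = 0 := by
        simpa [Polynomial.coeff_C, Polynomial.coeff_C_mul] using congrArg (Polynomial.coeff · 1) hp
      have hbp : b ∈ p0 := Ideal.Quotient.eq_zero_iff_mem.1 this
      exact hbp
    · simp only [map_sub, map_mul, Polynomial.aeval_C, Polynomial.aeval_X]
      show Ideal.Quotient.mk q0 (algebraMap A B b) * Ideal.Quotient.mk q0 s - Ideal.Quotient.mk q0 (algebraMap A B a) = 0
      rw [← map_mul, ← map_sub, mul_comm, Ideal.Quotient.eq_zero_iff_mem]
      exact hab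
  let q' : Ideal (B ⧸ q0) := q.map (Ideal.Quotient.mk q0)
  haveI hq' : q'.IsPrime := Ideal.map_isPrime_of_surjective Ideal.Quotient.mk_surjective (by rwa [Ideal.mk_ker])
  let p' : Ideal (A ⧸ p0) := q'.comap (algebraMap (A ⧸ p0) (B ⧸ q0))
  haveI : q'.LiesOver p' := ⟨rfl⟩
  have hq'c : q'.comap (Ideal.Quotient.mk q0) = q := by
    rw [Ideal.comap_map_of_surjective _ Ideal.Quotient.mk_surjective, ← RingHom.ker_eq_comap_bot, Ideal.mk_ker]
    exact sup_eq_left.2 hq0q
  -- the chain lifts to the quotient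
  have hkey : (l.length : ℕ∞) ≤ q'.height := by
    rw [show q'.height = Order.height (⟨q', hq'⟩ : PrimeSpectrum (B ⧸ q0)) from
      PrimeSpectrum.height_eq_orderHeight ⟨q', hq'⟩]
    have hle : ∀ i, q0 ≤ (l i).asIdeal := fun i => hq0l.trans (l.monotone (Fin.zero_le i))
    have hcm : ∀ i, ((l i).asIdeal.map (Ideal.Quotient.mk q0)).comap (Ideal.Quotient.mk q0) = (l i).asIdeal := fun i => by
      rw [Ideal.comap_map_of_surjective _ Ideal.Quotient.mk_surjective, ← RingHom.ker_eq_comap_bot, Ideal.mk_ker]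
      exact sup_eq_left.2 (hle i)
    let l' : LTSeries (PrimeSpectrum (B ⧸ q0)) := LTSeries.mk l.length
      (fun i => ⟨(l i).asIdeal.map (Ideal.Quotient.mk q0),
        Ideal.map_isPrime_of_surjective Ideal.Quotient.mk_surjective (by rw [Ideal.mk_ker]; exact hle i)⟩)
      fun i j hij => lt_of_le_of_ne (Ideal.map_mono (l.monotone hij.le)) fun e => (l.strictMono hij).ne (PrimeSpectrum.ext (by
        rw [← hcm i, ← hcm j]
        exact congrArg (fun x : PrimeSpectrum (B ⧸ q0) => x.asIdeal.comap (Ideal.Quotient.mk q0)) e))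
    have hlast : l'.last ≤ ⟨q', hq'⟩ :=
      Ideal.map_mono (le_of_eq (congrArg PrimeSpectrum.asIdeal hl))
    exact Order.length_le_height hlast
  refine hkey.trans ((DimLib.height_le_of_isAlgebraic p' q').trans ?_)
  haveI : p'.IsPrime := Ideal.comap_isPrime _ _
  rw [show p'.height = Order.height (⟨p', inferInstance⟩ : PrimeSpectrum (A ⧸ p0)) from
    PrimeSpectrum.height_eq_orderHeight ⟨p', inferInstance⟩,
    show p.height = Order.height (⟨p, inferInstance⟩ : PrimeSpectrum A) from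
      PrimeSpectrum.height_eq_orderHeight ⟨p, inferInstance⟩]
  have hc : PrimeSpectrum.comap (Ideal.Quotient.mk p0) ⟨p', inferInstance⟩ = ⟨p, inferInstance⟩ := by
    refine PrimeSpectrum.ext ?_
    show p'.comap (Ideal.Quotient.mk p0) = p
    rw [← hpq, ← hq'c]
    rfl
  rw [← hc]
  refine Order.height_le_height_apply_of_strictMono (PrimeSpectrum.comap (Ideal.Quotient.mk p0))
    (fun x y hxy => lt_of_le_of_ne (Ideal.comap_mono hxy.le : (x.asIdeal.comap (Ideal.Quotient.mk p0)) ≤ y.asIdeal.comap (Ideal.Quotient.mk p0))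
    fun e => hxy.ne (PrimeSpectrum.comap_injective_of_surjective (Ideal.Quotient.mk p0)
      Ideal.Quotient.mk_surjective e)) _

/-- Local dimensions do not grow along morphisms of finite type that are local isomorphisms at the maximal points. -/
theorem ringKrullDim_le_of_iso_at_genericPoints {X Y : Scheme.{u}} [IsLocallyNoetherian Y] (f : X ⟶ Y)
    [LocallyOfFiniteType f] (h : ∀ ζ ∈ genericPoints X, Function.Surjective (f.stalkMap ζ).hom) (x : X) :
    ringKrullDim (X.presheaf.stalk x) ≤ ringKrullDim (Y.presheaf.stalk (f x)) := by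
  obtain ⟨U, hU, hyU, -⟩ := exists_isAffineOpen_mem_and_subset (x := f x) (U := (⊤ : Y.Opens)) trivial
  obtain ⟨W, hW, hxW, hWU⟩ := exists_isAffineOpen_mem_and_subset (x := x) (U := f ⁻¹ᵁ U) hyU
  let φ := f.appLE U W hWU
  letI := φ.hom.toAlgebra
  haveI : Algebra.FiniteType Γ(Y, U) Γ(X, W) := f.finiteType_appLE hU hW hWU
  haveI : IsNoetherianRing Γ(Y, U) := IsLocallyNoetherian.component_noetherian ⟨U, hU⟩
  letI := X.presheaf.algebra_section_stalk (⟨x, hxW⟩ : W)
  haveI := hW.isLocalization_stalk ⟨x, hxW⟩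
  letI := Y.presheaf.algebra_section_stalk (⟨f x, hyU⟩ : U)
  haveI := hU.isLocalization_stalk ⟨f x, hyU⟩
  rw [IsLocalization.AtPrime.ringKrullDim_eq_height (hW.primeIdealOf ⟨x, hxW⟩).asIdeal (X.presheaf.stalk x),
    IsLocalization.AtPrime.ringKrullDim_eq_height (hU.primeIdealOf ⟨f x, hyU⟩).asIdeal (Y.presheaf.stalk (f x))]
  refine WithBot.coe_le_coe.2 (height_le_of_algebraic_components _ _
    (congrArg PrimeSpectrum.asIdeal (IsAffineOpen.comap_primeIdealOf_appLE (f := f) U hU W hW hWU hxW)) ?_)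
  intro q0 hq0 s
  haveI : q0.IsPrime := hq0.1.1
  let Q : PrimeSpectrum Γ(X, W) := ⟨q0, hq0.1.1⟩
  let ζ := hW.fromSpec Q
  have hζW : ζ ∈ W := by
    have := Set.mem_range_self (f := hW.fromSpec) Q
    rwa [hW.range_fromSpec] at this
  have hζ : ζ ∈ genericPoints X := mem_genericPoints_iff.2 fun z hz => by
    obtain ⟨R, rfl⟩ : z ∈ Set.range hW.fromSpec := hz.mem_open hW.fromSpec.isOpenEmbedding.isOpen_range ⟨Q, rfl⟩
    have hle := (PrimeSpectrum.le_iff_specializes R Q).2
      (hW.fromSpec.isOpenEmbedding.isInducing.specializes_iff.1 hz)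
    exact congrArg _ (PrimeSpectrum.ext (le_antisymm hle (hq0.2 ⟨R.2, bot_le⟩ hle)))
  have hfζ : f ζ ∈ U := hWU hζW
  letI := Y.presheaf.algebra_section_stalk (⟨f ζ, hfζ⟩ : U)
  haveI := hU.isLocalization_stalk ⟨f ζ, hfζ⟩
  obtain ⟨c, hc⟩ := h ζ hζ (X.presheaf.germ W ζ hζW s)
  obtain ⟨⟨a, b⟩, hab⟩ := IsLocalization.surj (hU.primeIdealOf ⟨f ζ, hfζ⟩).asIdeal.primeCompl c
  have hg : ∀ r : Γ(Y, U), (f.stalkMap ζ).hom (Y.presheaf.germ U (f ζ) hfζ r) = X.presheaf.germ W ζ hζW (φ r) := fun r => by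
    rw [Scheme.Hom.germ_stalkMap_apply]
    simp only [φ, Scheme.Hom.appLE, CommRingCat.comp_apply]
    rw [TopCat.Presheaf.germ_res_apply]
  have hbu : IsUnit (X.presheaf.germ W ζ hζW (φ b.1)) := hg b.1 ▸
    (IsLocalization.map_units (Y.presheaf.stalk (f ζ)) b).map (f.stalkMap ζ).hom
  letI := X.presheaf.algebra_section_stalk (⟨ζ, hζW⟩ : W)
  haveI : IsLocalization q0.primeCompl (X.presheaf.stalk ζ) := hW.isLocalization_stalk' Q hζW
  refine ⟨a, b.1, fun hb => (IsLocalization.AtPrime.isUnit_to_map_iff (X.presheaf.stalk ζ) q0 _).1 hbu hb, ?_⟩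
  by_contra hne
  have hu := (IsLocalization.AtPrime.isUnit_to_map_iff (X.presheaf.stalk ζ) q0 _).2 hne
  refine not_isUnit_zero (M₀ := X.presheaf.stalk ζ) ?_
  suffices h0 : algebraMap Γ(X, W) (X.presheaf.stalk ζ) (s * algebraMap Γ(Y, U) Γ(X, W) b.1 - algebraMap Γ(Y, U) Γ(X, W) a) = 0 from h0 ▸ hu
  have h2 := congrArg (f.stalkMap ζ).hom hab
  rw [map_mul, hc] at h2
  erw [hg, hg] at h2
  rw [map_sub, map_mul]
  exact sub_eq_zero.2 h2

set_option maxHeartbeats 1000000 in
theorem exists_quasiProjective_regular_over_codim_two {X S : Scheme.{u}}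
    (g : X ⟶ S) [AlgebraicGeometry.IsNoetherian S] [S.IsSeparated] [AlgebraicGeometry.IsNoetherian X] [X.IsSeparated]
    [AlgebraicGeometry.IsReduced X] [LocallyOfFiniteType g]
    (hqe : ∀ U : X.affineOpens, EGA4.IsQuasiExcellent Γ(X, U)) :
    ∃ (X' : Scheme.{u}) (f : X' ⟶ X), AlgebraicGeometry.IsReduced X' ∧ RelProj.IsProjective f ∧
      RadPt.IsBirational f ∧
      (∃ (P : Scheme.{u}) (j : X' ⟶ P) (q : P ⟶ S), IsOpenImmersion j ∧ RelProj.IsProjective q ∧ j ≫ q = f ≫ g) ∧
      ∀ x : X', ringKrullDim (X.presheaf.stalk (f.base x)) ≤ 2 →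
        IsRegularLocalRing (X'.presheaf.stalk x) := by
  haveI : IsSeparated (g ≫ terminal.from S) := by
    rw [show g ≫ terminal.from S = terminal.from X from terminal.hom_ext _ _]; infer_instance
  haveI : IsSeparated g := IsSeparated.of_comp g (terminal.from S)
  obtain ⟨X₁, π, hqp, hproj, hsurj, ⟨U, hUd, hUiso⟩, hred, -, -⟩ := S4415.result g (Or.inl inferInstance)
  haveI := hred inferInstance
  haveI := RelVALib.isProper_of_isProjective hproj
  haveI : IsLocallyNoetherian X₁ := LocallyOfFiniteType.isLocallyNoetherian π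
  haveI : CompactSpace X₁ := QuasiCompact.compactSpace_of_compactSpace π
  haveI : AlgebraicGeometry.IsNoetherian X₁ := {}
  obtain ⟨X', h, hX'red, hh, hhbir, -, hreg⟩ := exists_regular_over_codim_two_reduced (X := X₁)
    (S7359.nagata_of_lft π fun V => S2654.result _ (hqe V)) fun q => exists_qe_chart (q ≫ π) hqe
  haveI := hX'red
  haveI := RelVALib.isProper_of_isProjective hh
  haveI := hUiso
  have hgenU : ∀ ζ ∈ genericPoints X₁, ζ ∈ π ⁻¹ᵁ U := fun ζ hζ => by
    -- a maximal point lies in every dense open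
    obtain ⟨O, hO, hζO, hOsub⟩ : ∃ O : Set X₁, IsOpen O ∧ ζ ∈ O ∧ ∀ w ∈ O, ζ ⤳ w := by
      have hfin : {η ∈ genericPoints X₁ | η ≠ ζ}.Finite :=
        (genericPoints.finite NoetherianSpace.finite_irreducibleComponents).subset fun η h => h.1
      refine ⟨(⋃ η ∈ {η ∈ genericPoints X₁ | η ≠ ζ}, closure {η})ᶜ,
        (hfin.isClosed_biUnion fun η _ => isClosed_closure).isOpen_compl, ?_, ?_⟩
      · simp only [Set.mem_compl_iff, Set.mem_iUnion, not_exists]
        intro η hη hmem
        exact hη.2 (mem_genericPoints_iff.1 hζ η (specializes_iff_mem_closure.2 hmem))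
      · intro w hw
        obtain ⟨ξ, hξ⟩ := QuasiSober.sober (isIrreducible_irreducibleComponent (x := w)) isClosed_irreducibleComponent
        have hξg : ξ ∈ genericPoints X₁ := by
          show closure {ξ} ∈ irreducibleComponents X₁
          rw [hξ.def]; exact irreducibleComponent_mem_irreducibleComponents w
        by_contra hne
        refine hw (Set.mem_biUnion (x := ξ) ⟨hξg, fun e => hne (e ▸ hξ.specializes mem_irreducibleComponent)⟩ ?_)
        exact specializes_iff_mem_closure.1 (hξ.specializes mem_irreducibleComponent)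
    obtain ⟨w, hwO, hwU⟩ := hUd.inter_open_nonempty O hO ⟨ζ, hζO⟩
    exact (hOsub w hwO).mem_open (π ⁻¹ᵁ U).2 hwU
  have hst : ∀ ζ ∈ π ⁻¹ᵁ U, IsIso (π.stalkMap ζ) := fun ζ hζ => by
    have : IsIso ((π ∣_ U).stalkMap ⟨ζ, hζ⟩) := ((isIso_iff_isIso_stalkMap (π ∣_ U)).mp ‹IsIso (π ∣_ U)›).2 _
    exact ((MorphismProperty.isomorphisms CommRingCat.{u}).arrow_mk_iso_iff (morphismRestrictStalkMap π U ⟨ζ, hζ⟩)).1 this
  have hUhomeo := (π ∣_ U).isOpenEmbedding
  have hinj : ∀ a b : X₁, a ∈ π ⁻¹ᵁ U → b ∈ π ⁻¹ᵁ U → π a = π b → a = b := fun a b ha hb hab => by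
    have := hUhomeo.injective (a₁ := ⟨a, ha⟩) (a₂ := ⟨b, hb⟩) (by
      refine Subtype.ext ?_
      rw [← Scheme.Opens.ι_apply, ← Scheme.Opens.ι_apply, ← Scheme.Hom.comp_apply, ← Scheme.Hom.comp_apply,
        morphismRestrict_ι]
      exact hab)
    exact congrArg Subtype.val this
  have hlift : ∀ z : X, z ∈ U → ∃ a : X₁, a ∈ π ⁻¹ᵁ U ∧ π a = z := fun z hz => by
    obtain ⟨a, ha⟩ := (π ∣_ U).homeomorph.surjective ⟨z, hz⟩
    refine ⟨a.1, a.2, ?_⟩
    have := congrArg Subtype.val ha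
    exact (morphismRestrict_base_coe π U a).symm.trans this
  have hbir : RadPt.IsBirational π := by
    have hXU : ∀ y ∈ genericPoints X, y ∈ U := fun y hy => by
      obtain ⟨a, rfl⟩ := hsurj.1 y
      obtain ⟨ξ, hξ⟩ := QuasiSober.sober (isIrreducible_irreducibleComponent (x := a)) isClosed_irreducibleComponent
      have hξg : ξ ∈ genericPoints X₁ := by
        show closure {ξ} ∈ irreducibleComponents X₁
        rw [hξ.def]; exact irreducibleComponent_mem_irreducibleComponents a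
      have he := mem_genericPoints_iff.1 hy _ ((hξ.specializes mem_irreducibleComponent).map π.continuous)
      exact he ▸ hgenU ξ hξg
    refine ⟨⟨fun ζ hζ => mem_genericPoints_iff.2 fun z hz => ?_, fun a ha b hb => hinj a b (hgenU a ha) (hgenU b hb),
      fun y hy => ?_⟩, fun y hy => ⟨fun a b ha hb => hinj a b (show π a ∈ U from ha ▸ hXU y hy)
        (show π b ∈ U from hb ▸ hXU y hy) (ha.trans hb.symm), fun a ha => ?_⟩⟩
    · obtain ⟨a, ha, rfl⟩ := hlift z (hz.mem_open U.2 (hgenU ζ hζ))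
      have : (⟨a, ha⟩ : (π ⁻¹ᵁ U : X₁.Opens)) ⤳ (⟨ζ, hgenU ζ hζ⟩ : (π ⁻¹ᵁ U : X₁.Opens)) := by
        refine hUhomeo.isInducing.specializes_iff.1 ?_
        refine U.ι.isOpenEmbedding.isInducing.specializes_iff.1 ?_
        rw [← Scheme.Hom.comp_apply, ← Scheme.Hom.comp_apply, morphismRestrict_ι]
        exact hz
      exact congrArg π (mem_genericPoints_iff.1 hζ a (this.map continuous_subtype_val))
    · obtain ⟨a, ha, rfl⟩ := hlift y (hXU y hy)
      refine ⟨a, mem_genericPoints_iff.2 fun z hz => ?_, rfl⟩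
      exact hinj z a (hz.mem_open (π ⁻¹ᵁ U).2 ha) ha (mem_genericPoints_iff.1 hy _ (hz.map π.continuous))
    · have hi := hst a (show π a ∈ U from ha ▸ hXU y hy)
      refine ⟨(π.residueFieldMap a).hom.injective, fun z => ?_⟩
      obtain ⟨w, rfl⟩ := X₁.residue_surjective a z
      obtain ⟨v, rfl⟩ := (ConcreteCategory.bijective_of_isIso (π.stalkMap a)).2 w
      exact ⟨X.residue (π a) v, congr($(Scheme.residue_residueFieldMap π a).hom v)⟩
  obtain ⟨-, hqc, K, hK⟩ := hqp
  haveI := hqc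
  obtain ⟨-, -, L, hL⟩ := RelVALib.isQuasiProjective_of_isProjective hh
  obtain ⟨n, -, hn⟩ := AmpleLib.eventually_isRelAmple_comp h (π ≫ g) hL hK
  obtain ⟨P, j, q, hj, hq, hjq⟩ := S9706.result ((h ≫ π) ≫ g)
    (by rw [Category.assoc]; exact ⟨inferInstance, inferInstance, _, hn n le_rfl⟩)
  refine ⟨X', h ≫ π, hX'red, FlatMorAdm.isProjective_comp h π hh hproj, isBirational_comp hhbir hbir,
    ⟨P, j, q, hj, hq, hjq⟩, fun x hx => hreg x (le_trans ?_ hx)⟩
  exact ringKrullDim_le_of_iso_at_genericPoints π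
    (fun ζ hζ => haveI := hst ζ (hgenU ζ hζ); (ConcreteCategory.bijective_of_isIso (π.stalkMap ζ)).2) (h x)

end Groth.Agent.RDPChain13
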