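import Groth.Agent.CAlgSmall.NormalFactor
import Groth.Agent.Resolve13.NormPtExtend
import Groth.Agent.BMLib.NormBirat
import Groth.Agent.Props12.KerReduced
import Groth.Agent.SGA1Quot.GeomTransitive
import Groth.Agent.FlatMor12.Birational
import Groth.Agent.H8Top.SchemeComponents
import Groth.Agent.CommAlg6.ExcellentBasic
import Groth.Prelude.Def_EGA4Misc

/-! Normalization of a reduced Noetherian Nagata scheme with several components. -/

set_option autoImplicit false
set_option backward.isDefEq.respectTransparency.types false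
set_option linter.style.haveILetI false

universe u

open CategoryTheory CategoryTheory.Limits AlgebraicGeometry TopologicalSpace

namespace Groth.Agent.RDPChain13

/-- A finite type algebra over a quasi-excellent ring is quasi-excellent. -/
theorem isQuasiExcellent_of_finiteType (A B : Type u) [CommRing A] [CommRing B] [Algebra A B]
    [Algebra.FiniteType A B] (h : EGA4.IsQuasiExcellent A) : EGA4.IsQuasiExcellent B := by
  obtain ⟨hN, hG, hJ⟩ := h
  haveI := hN
  refine ⟨Algebra.FiniteType.isNoetherianRing A B, CAlgH.isGRing_of_finiteType A hG B, fun S _ _ hS => ?_⟩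
  haveI := hS
  letI : Algebra A S := ((algebraMap B S).comp (algebraMap A B)).toAlgebra
  haveI : IsScalarTower A B S := .of_algebraMap_eq fun _ => rfl
  exact hJ S (Algebra.FiniteType.trans (S := B) inferInstance inferInstance)

theorem exists_qe_chart {Y S : Scheme.{u}} (q : Y ⟶ S) [LocallyOfFiniteType q]
    (hqe : ∀ U : S.affineOpens, EGA4.IsQuasiExcellent Γ(S, U)) (y : Y) :
    ∃ V : Y.Opens, IsAffineOpen V ∧ y ∈ V ∧ EGA4.IsQuasiExcellent Γ(Y, V) := by
  obtain ⟨U, hU, hqU, -⟩ := exists_isAffineOpen_mem_and_subset (x := q y) (U := (⊤ : S.Opens)) trivial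
  obtain ⟨V, hV, hyV, hVU⟩ := exists_isAffineOpen_mem_and_subset (x := y) (U := q ⁻¹ᵁ U) hqU
  let φ := (q.appLE U V hVU).hom
  letI := φ.toAlgebra
  haveI : Algebra.FiniteType Γ(S, U) Γ(Y, V) := q.finiteType_appLE hU hV hVU
  exact ⟨V, hV, hyV, isQuasiExcellent_of_finiteType Γ(S, U) Γ(Y, V) (hqe ⟨U, hU⟩)⟩

/-- Generic points are the points without proper generisations. -/
theorem mem_genericPoints_iff {X : Scheme.{u}} {y : X} :
    y ∈ genericPoints X ↔ ∀ z : X, z ⤳ y → z = y := by
  constructor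
  · intro hy z hz
    have hy' : closure ({y} : Set X) ∈ irreducibleComponents X := hy
    have h1 : closure ({y} : Set X) ⊆ closure {z} :=
      closure_minimal (Set.singleton_subset_iff.2 (specializes_iff_mem_closure.1 hz)) isClosed_closure
    have h2 := hy'.2 isIrreducible_singleton.closure h1
    exact hz.antisymm (specializes_iff_mem_closure.2 (h2 (subset_closure rfl))) |>.eq
  · intro h
    obtain ⟨ξ, hξ⟩ := QuasiSober.sober (isIrreducible_irreducibleComponent (x := y)) isClosed_irreducibleComponent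
    have hξy := h ξ (hξ.specializes mem_irreducibleComponent)
    subst hξy
    show closure ({ξ} : Set X) ∈ irreducibleComponents X
    rw [hξ.def]
    exact irreducibleComponent_mem_irreducibleComponents ξ

/-- The normalization is an isomorphism over every normal open. -/
theorem isIso_normalizationι_over_normal (X : Scheme.{u}) [IsIntegral X]
    [QuasiCompact (X.fromSpecStalk (genericPoint X))] [QuasiSeparated (X.fromSpecStalk (genericPoint X))]
    (V : X.Opens) (hV : ∀ x ∈ V, IsDomain (X.presheaf.stalk x) ∧ IsIntegrallyClosed (X.presheaf.stalk x)) :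
    IsIso (Curv2.normalizationι X ∣_ V) := by
  let ι := Curv2.normalizationι X
  have hNn : Pi1.IsNormalScheme (Curv2.normalization X) :=
    NormalizationLib.isNormal (RingHom.id X.functionField) (X.fromSpecStalk (genericPoint X))
      (by rw [show CommRingCat.ofHom (RingHom.id X.functionField) = 𝟙 _ from rfl, Spec.map_id, Category.id_comp])
  haveI : IsIntegral (Curv2.normalization X) :=
    inferInstanceAs (IsIntegral (X.fromSpecStalk (genericPoint X)).normalization)
  have hgenN : ι (genericPoint (Curv2.normalization X)) = genericPoint X :=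
    NormalizationLib.fromNormalization_genericPoint (RingHom.id X.functionField) (X.fromSpecStalk (genericPoint X))
      (by rw [show CommRingCat.ofHom (RingHom.id X.functionField) = 𝟙 _ from rfl, Spec.map_id, Category.id_comp])
  by_cases hne : (V : Set X).Nonempty
  · have hη : genericPoint X ∈ V := (genericPoint_spec X).mem_open_set_iff V.2 |>.2 (by simpa using hne)
    have hg : CAlgSmall.NormalFactor.Good V.ι := fun z => by
      refine ⟨?_, ⟨genericPoint X, hη⟩, ?_, rfl⟩
      · let e := (asIso (V.ι.stalkMap z)).commRingCatIsoToRingEquiv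
        obtain ⟨hd, hi⟩ := hV z.1 z.2
        haveI : IsDomain (X.presheaf.stalk (V.ι z)) := hd
        haveI : IsIntegrallyClosed (X.presheaf.stalk (V.ι z)) := hi
        exact ⟨e.symm.toMulEquiv.isDomain _, IsIntegrallyClosed.of_equiv e⟩
      · exact V.ι.isOpenEmbedding.isInducing.specializes_iff.1 (genericPoint_specializes _)
    obtain ⟨h, hh, -⟩ := CAlgSmall.NormalFactor.existsUnique_fac hg
    have hhW : ∀ z, h z ∈ ι ⁻¹ᵁ V := fun z => by
      show ι (h z) ∈ V
      have : (h ≫ ι) z = V.ι z := by rw [hh]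
      exact this.symm ▸ z.2
    let h' : (V : Scheme.{u}) ⟶ (ι ⁻¹ᵁ V : (Curv2.normalization X).Opens) :=
      IsOpenImmersion.lift (ι ⁻¹ᵁ V).ι h (by
        rintro _ ⟨z, rfl⟩
        rw [Scheme.Opens.range_ι]
        exact hhW z)
    have hh' : h' ≫ (ι ⁻¹ᵁ V).ι = h := IsOpenImmersion.lift_fac _ _ _
    refine ⟨h', ?_, ?_⟩
    · rw [← cancel_mono (ι ⁻¹ᵁ V).ι, Category.assoc, hh', Category.id_comp]
      have hgW : CAlgSmall.NormalFactor.Good ((ι ⁻¹ᵁ V).ι ≫ ι) :=
        CAlgSmall.NormalFactor.Good.comp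
          (fun z => ⟨hNn z, genericPoint _, genericPoint_specializes z, hgenN⟩) _
      refine CAlgSmall.NormalFactor.local_unique hgW _ _ ?_ rfl
      rw [Category.assoc, hh, morphismRestrict_ι]
    · rw [← cancel_mono V.ι, Category.assoc, morphismRestrict_ι, Category.id_comp, ← Category.assoc, hh', hh]
  · have hV' : V = ⊥ := Opens.ext (Set.not_nonempty_iff_eq_empty.1 hne)
    subst hV'
    haveI : IsEmpty ((⊥ : X.Opens) : Scheme.{u}) := ⟨fun z => z.2⟩
    exact ⟨⟨isInitialOfIsEmpty.to _, by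
      haveI : IsEmpty ((ι ⁻¹ᵁ (⊥ : X.Opens) : (Curv2.normalization X).Opens) : Scheme.{u}) := ⟨fun z => z.2⟩
      exact isInitialOfIsEmpty.hom_ext _ _, isInitialOfIsEmpty.hom_ext _ _⟩⟩

set_option maxHeartbeats 1000000 in
/-- The normalization of a reduced Noetherian Nagata scheme. -/
theorem exists_reduced_normalization (X : Scheme.{u}) [AlgebraicGeometry.IsNoetherian X] [IsReduced X]
    (hN : ∀ U : X.affineOpens, CAlg.IsNagata Γ(X, U.1)) :
    ∃ (N : Scheme.{u}) (ν : N ⟶ X), IsFinite ν ∧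
      (∀ y : N, IsDomain (N.presheaf.stalk y) ∧ IsIntegrallyClosed (N.presheaf.stalk y)) ∧
      RadPt.IsBirational ν ∧
      ∀ U : X.Opens, (∀ x ∈ U, IsDomain (X.presheaf.stalk x) ∧ IsIntegrallyClosed (X.presheaf.stalk x)) →
        IsIso (ν ∣_ U) := by
  classical
  let J := ↥(irreducibleComponents X)
  haveI : Finite J := NoetherianSpace.finite_irreducibleComponents.to_subtype
  let C : J → Closeds X := fun Z => ⟨Z.1, isClosed_of_mem_irreducibleComponents _ Z.2⟩
  let P : J → Scheme.{u} := fun Z => (Scheme.IdealSheafData.vanishingIdeal (C Z)).subscheme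
  let i : ∀ Z, P Z ⟶ X := fun Z => (Scheme.IdealSheafData.vanishingIdeal (C Z)).subschemeι
  have hrange : ∀ Z, Set.range (i Z) = Z.1 := fun Z => by
    rw [Scheme.IdealSheafData.range_subschemeι]; rfl
  haveI hred : ∀ Z, IsReduced (P Z) := fun Z => Props12.isReduced_subscheme_vanishingIdeal _
  haveI hint : ∀ Z, IsIntegral (P Z) := fun Z => by
    haveI : IrreducibleSpace (P Z) := by
      have h1 : IsIrreducible (i Z '' Set.univ) := by rw [Set.image_univ, hrange]; exact Z.2.1
      obtain ⟨x, hx⟩ := h1.nonempty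
      obtain ⟨p, -, -⟩ := hx
      haveI : Nonempty (P Z) := ⟨p⟩
      haveI : PreirreducibleSpace (P Z) := ⟨fun u v hu hv ⟨a, _, ha⟩ ⟨b, _, hb⟩ => by
        obtain ⟨u', hu', rfl⟩ := (i Z).isEmbedding.isInducing.isOpen_iff.1 hu
        obtain ⟨v', hv', rfl⟩ := (i Z).isEmbedding.isInducing.isOpen_iff.1 hv
        obtain ⟨_, ⟨c, -, rfl⟩, h⟩ := h1.2 u' v' hu' hv' ⟨_, ⟨a, trivial, rfl⟩, ha⟩ ⟨_, ⟨b, trivial, rfl⟩, hb⟩
        exact ⟨c, trivial, h⟩⟩
      exact ⟨inferInstance⟩
    exact isIntegral_of_irreducibleSpace_of_isReduced _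
  haveI hqc : ∀ Z, QuasiCompact ((P Z).fromSpecStalk (genericPoint (P Z))) := fun Z => by
    haveI : IsLocallyNoetherian (P Z) := LocallyOfFiniteType.isLocallyNoetherian (i Z)
    haveI : CompactSpace (P Z) := QuasiCompact.compactSpace_of_compactSpace (i Z)
    haveI : AlgebraicGeometry.IsNoetherian (P Z) := {}
    infer_instance
  haveI hqs : ∀ Z, QuasiSeparated ((P Z).fromSpecStalk (genericPoint (P Z))) := fun Z => by
    haveI : IsLocallyNoetherian (P Z) := LocallyOfFiniteType.isLocallyNoetherian (i Z)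
    infer_instance
  haveI hfin : ∀ Z, IsFinite (Curv2.normalizationι (P Z)) := fun Z =>
    Resolve13.NormPt.isFinite_normalizationι (S7359.nagata_of_lft (i Z) hN)
  haveI hNi : ∀ Z, IsIntegral (Curv2.normalization (P Z)) := fun Z =>
    inferInstanceAs (IsIntegral ((P Z).fromSpecStalk (genericPoint (P Z))).normalization)
  have hNn : ∀ Z, Pi1.IsNormalScheme (Curv2.normalization (P Z)) := fun Z =>
    NormalizationLib.isNormal (RingHom.id (P Z).functionField) ((P Z).fromSpecStalk (genericPoint (P Z)))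
      (by rw [show CommRingCat.ofHom (RingHom.id (P Z).functionField) = 𝟙 _ from rfl, Spec.map_id, Category.id_comp])
  let W : J → Scheme.{u} := fun Z => Curv2.normalization (P Z)
  let k : ∀ Z, W Z ⟶ X := fun Z => Curv2.normalizationι (P Z) ≫ i Z
  let ν : (∐ W) ⟶ X := Sigma.desc k
  have hν : ∀ Z, Sigma.ι W Z ≫ ν = k Z := fun Z => Sigma.ι_desc _ _
  have hνp : ∀ Z p, ν (Sigma.ι W Z p) = k Z p := fun Z p => by
    show (Sigma.ι W Z ≫ ν) p = _
    rw [hν]
  have hkmem : ∀ Z p, k Z p ∈ Z.1 := fun Z p => hrange Z ▸ ⟨Curv2.normalizationι (P Z) p, rfl⟩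
  have hpt : ∀ y : ↥(∐ W), ∃ Z p, Sigma.ι W Z p = y := fun y => (sigmaOpenCover W).exists_eq y
  refine ⟨∐ W, ν, SGA1Quot.GeomTrans.isFinite_sigmaDesc k fun Z => inferInstance, fun y => ?_, ?_, ?_⟩
  · obtain ⟨Z, p, rfl⟩ := hpt y
    let e := (asIso ((Sigma.ι W Z).stalkMap p)).commRingCatIsoToRingEquiv
    have hd := (hNn Z p).1
    have hi := (hNn Z p).2
    exact ⟨e.toMulEquiv.isDomain _, IsIntegrallyClosed.of_equiv e.symm⟩
  · -- birational
    have hξ : ∀ Z, i Z (genericPoint (P Z)) = (genericPoints.ofComponent Z).1 := fun Z => by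
      have h1 := (genericPoint_spec (P Z)).image (i Z).continuous
      rw [Set.image_univ, hrange,
        (isClosed_of_mem_irreducibleComponents _ Z.2).closure_eq] at h1
      exact h1.eq (genericPoints.isGenericPoint_ofComponent Z)
    have hNgen : ∀ Z, Curv2.normalizationι (P Z) (genericPoint (W Z)) = genericPoint (P Z) := fun Z =>
      NormalizationLib.fromNormalization_genericPoint (RingHom.id (P Z).functionField)
        ((P Z).fromSpecStalk (genericPoint (P Z)))
        (by rw [show CommRingCat.ofHom (RingHom.id (P Z).functionField) = 𝟙 _ from rfl, Spec.map_id, Category.id_comp])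
    have hkgen : ∀ Z, k Z (genericPoint (W Z)) = (genericPoints.ofComponent Z).1 := fun Z => by
      show i Z (Curv2.normalizationι (P Z) (genericPoint (W Z))) = _
      rw [hNgen]; exact hξ Z
    have hgen : ∀ y : ↥(∐ W), y ∈ genericPoints ↥(∐ W) ↔ ∃ Z, Sigma.ι W Z (genericPoint (W Z)) = y := fun y => by
      rw [mem_genericPoints_iff]
      constructor
      · intro h
        obtain ⟨Z, p, rfl⟩ := hpt y
        exact ⟨Z, h _ ((genericPoint_specializes p).map (Sigma.ι W Z).continuous)⟩
      · rintro ⟨Z, rfl⟩ z hz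
        obtain ⟨q, rfl⟩ : z ∈ Set.range (Sigma.ι W Z) :=
          hz.mem_open (Sigma.ι W Z).isOpenEmbedding.isOpen_range ⟨_, rfl⟩
        have := (Sigma.ι W Z).isOpenEmbedding.isInducing.specializes_iff.1 hz
        exact congrArg _ (this.antisymm (genericPoint_specializes q)).eq
    have hfib : ∀ Z (y : ↥(∐ W)), ν y = (genericPoints.ofComponent Z).1 →
        y = Sigma.ι W Z (genericPoint (W Z)) ∧ Function.Bijective (ν.residueFieldMap y).hom := by
      intro Z y hy
      obtain ⟨Z', p, rfl⟩ := hpt y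
      rw [hνp] at hy
      have hZ : Z' = Z := by
        refine Subtype.ext ((Z.2.2 Z'.2.1 ?_).antisymm ?_)
        · rw [← (genericPoints.isGenericPoint_ofComponent Z).def]
          exact closure_minimal (Set.singleton_subset_iff.2 (hy ▸ hkmem Z' p))
            (isClosed_of_mem_irreducibleComponents _ Z'.2)
        · rw [← (genericPoints.isGenericPoint_ofComponent Z).def]
          exact closure_minimal (Set.singleton_subset_iff.2 (hy ▸ hkmem Z' p))
            (isClosed_of_mem_irreducibleComponents _ Z'.2)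
      subst hZ
      have hp : Curv2.normalizationι (P Z') p = genericPoint (P Z') :=
        (i Z').isEmbedding.injective (hy.trans (hξ Z').symm)
      obtain ⟨U, hUd, hUiso⟩ := BMLib.exists_isIso_normalization (X := P Z')
      haveI := hUiso
      have hηU : genericPoint (P Z') ∈ U :=
        (genericPoint_spec (P Z')).mem_open_set_iff U.2 |>.2 (by simpa using hUd.nonempty)
      let O := Curv2.normalizationι (P Z') ⁻¹ᵁ U
      have hpO : p ∈ O := by
        show Curv2.normalizationι (P Z') p ∈ U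
        rw [hp]; exact hηU
      have hgO : genericPoint (W Z') ∈ O := show _ ∈ U from (hNgen Z').symm ▸ hηU
      let q : (O : Scheme.{u}) ⟶ (∐ W) := O.ι ≫ Sigma.ι W Z'
      have hq : q ≫ ν = (Curv2.normalizationι (P Z') ∣_ U) ≫ U.ι ≫ i Z' := by
        simp only [q, Category.assoc, hν, k]
        rw [morphismRestrict_ι_assoc]
      haveI : IsPreimmersion (q ≫ ν) := by rw [hq]; infer_instance
      have hinj : (⟨p, hpO⟩ : (O : Scheme.{u})) = ⟨genericPoint (W Z'), hgO⟩ := by
        apply (q ≫ ν).isEmbedding.injective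
        show ν (Sigma.ι W Z' p) = ν (Sigma.ι W Z' (genericPoint (W Z')))
        rw [hνp, hνp, hy, hkgen]
      refine ⟨congrArg _ (congrArg Subtype.val hinj), ?_⟩
      have h1 := FlatMor12.bijective_residueFieldMap_of_preimmersion (q ≫ ν) ⟨p, hpO⟩
      rw [Scheme.residueFieldMap_comp] at h1
      simp only [CommRingCat.hom_comp, RingHom.coe_comp] at h1
      have h2 := FlatMor12.bijective_residueFieldMap_of_preimmersion q ⟨p, hpO⟩
      exact (Function.Bijective.of_comp_iff' h2 _).1 h1
    have hofC : ∀ x ∈ genericPoints X, ∃ Z, (genericPoints.ofComponent Z).1 = x := fun x hx =>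
      ⟨genericPoints.component ⟨x, hx⟩, congrArg Subtype.val (genericPoints.ofComponent_component _)⟩
    refine ⟨⟨fun y hy => ?_, fun y hy y' hy' he => ?_, fun x hx => ?_⟩, fun x hx => ⟨fun y y' hy hy' => ?_, fun y hy => ?_⟩⟩
    · obtain ⟨Z, rfl⟩ := (hgen y).1 hy
      rw [hνp, hkgen]
      exact (genericPoints.ofComponent Z).2
    · obtain ⟨Z, rfl⟩ := (hgen y).1 hy
      exact ((hfib Z y' (by rw [← he, hνp, hkgen])).1).symm
    · obtain ⟨Z, rfl⟩ := hofC x hx
      exact ⟨_, (hgen _).2 ⟨Z, rfl⟩, by rw [hνp, hkgen]⟩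
    · obtain ⟨Z, rfl⟩ := hofC x hx
      exact (hfib Z y hy).1.trans (hfib Z y' hy').1.symm
    · obtain ⟨Z, rfl⟩ := hofC x hx
      exact (hfib Z y hy).2
  · -- isomorphism over normal opens
    intro U hU
    have hloc : ∀ x : (U : Scheme.{u}), ∃ V : X.Opens, x.1 ∈ V ∧ V ≤ U ∧ IsIso (ν ∣_ V) := by
      intro x
      have hx := (hU x.1 x.2).1
      have huniq := (H8Top.nilradical_stalk_isPrime_iff x.1).1
        (by rw [nilradical_eq_zero]; exact Ideal.bot_prime)
      obtain ⟨Z, hxZ⟩ : ∃ Z : J, x.1 ∈ Z.1 :=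
        ⟨⟨_, irreducibleComponent_mem_irreducibleComponents x.1⟩, mem_irreducibleComponent⟩
      let B : Set X := ⋃ Z' : {Z' : J // Z' ≠ Z}, Z'.1.1
      have hB : IsClosed B := isClosed_iUnion_of_finite fun Z' => isClosed_of_mem_irreducibleComponents _ Z'.1.2
      let V : X.Opens := U ⊓ ⟨Bᶜ, hB.isOpen_compl⟩
      have hxB : x.1 ∉ B := fun h => by
        obtain ⟨Z', hZ'⟩ := Set.mem_iUnion.1 h
        exact Z'.2 (Subtype.ext (huniq _ Z'.1.2 _ Z.2 hZ' hxZ))
      have hVZ : ∀ z ∈ V, ∀ Z' : J, z ∈ Z'.1 → Z' = Z := fun z hz Z' hz' => by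
        by_contra hne
        exact hz.2 (Set.mem_iUnion.2 ⟨⟨Z', hne⟩, hz'⟩)
      refine ⟨V, ⟨x.2, hxB⟩, inf_le_left, ?_⟩
      haveI : IsIso (i Z ∣_ V) := by
        haveI : IsClosedImmersion (i Z ∣_ V) :=
          MorphismProperty.of_isPullback (isPullback_morphismRestrict (i Z) V).flip inferInstance
        haveI : Surjective (i Z ∣_ V) := ⟨fun z => by
          obtain ⟨Z'', hz''⟩ : ∃ Z'' : J, z.1 ∈ Z''.1 :=
            ⟨⟨_, irreducibleComponent_mem_irreducibleComponents z.1⟩, mem_irreducibleComponent⟩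
          rw [hVZ _ z.2 Z'' hz'', ← hrange Z] at hz''
          obtain ⟨w, hw⟩ := hz''
          refine ⟨⟨w, show i Z w ∈ V from hw ▸ z.2⟩, Subtype.ext ?_⟩
          rw [← Scheme.Opens.ι_apply, ← Scheme.Hom.comp_apply, morphismRestrict_ι]
          exact hw⟩
        haveI : IsReduced (V : Scheme.{u}) := isReduced_of_isOpenImmersion V.ι
        exact isIso_of_isClosedImmersion_of_surjective _
      haveI : IsIso (Curv2.normalizationι (P Z) ∣_ (i Z ⁻¹ᵁ V)) := by
        refine isIso_normalizationι_over_normal (P Z) _ fun w hw => ?_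
        haveI : IsIso ((i Z).stalkMap w) := by
          have : IsIso ((i Z ∣_ V).stalkMap ⟨w, hw⟩) :=
            ((isIso_iff_isIso_stalkMap (i Z ∣_ V)).mp ‹IsIso (i Z ∣_ V)›).2 _
          exact ((MorphismProperty.isomorphisms CommRingCat.{u}).arrow_mk_iso_iff
            (morphismRestrictStalkMap (i Z) V ⟨w, hw⟩)).1 this
        let e := (asIso ((i Z).stalkMap w)).commRingCatIsoToRingEquiv
        obtain ⟨hd, hi⟩ := hU (i Z w) hw.1
        exact ⟨e.symm.toMulEquiv.isDomain _, IsIntegrallyClosed.of_equiv e⟩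
      haveI : IsIso ((Sigma.ι W Z ≫ ν) ∣_ V) := by
        rw [hν]
        show IsIso ((Curv2.normalizationι (P Z) ≫ i Z) ∣_ V)
        rw [morphismRestrict_comp]
        exact IsIso.comp_isIso' ‹IsIso (Curv2.normalizationι (P Z) ∣_ (i Z ⁻¹ᵁ V))› ‹IsIso (i Z ∣_ V)›
      haveI : Surjective (Sigma.ι W Z ∣_ (ν ⁻¹ᵁ V)) := ⟨fun y => by
        obtain ⟨Z', p, hp⟩ := hpt y.1
        have hV' : k Z' p ∈ V := by rw [← hνp, hp]; exact y.2
        obtain rfl := hVZ _ hV' Z' (hkmem Z' p)
        refine ⟨⟨p, show ν (Sigma.ι W Z' p) ∈ V from hp ▸ y.2⟩, Subtype.ext ?_⟩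
        rw [← Scheme.Opens.ι_apply, ← Scheme.Hom.comp_apply, morphismRestrict_ι]
        exact hp⟩
      haveI : IsIso (Sigma.ι W Z ∣_ (ν ⁻¹ᵁ V)) := (isIso_iff_isOpenImmersion_and_surjective _).2 ⟨inferInstance, inferInstance⟩
      have hc : (Sigma.ι W Z ≫ ν) ∣_ V = (Sigma.ι W Z ∣_ (ν ⁻¹ᵁ V)) ≫ (ν ∣_ V) := morphismRestrict_comp _ _ _
      have h3 : IsIso ((Sigma.ι W Z ≫ ν) ∣_ V) := ‹_›
      have : IsIso ((Sigma.ι W Z ∣_ (ν ⁻¹ᵁ V)) ≫ (ν ∣_ V)) := hc ▸ h3
      exact IsIso.of_isIso_comp_left (Sigma.ι W Z ∣_ (ν ⁻¹ᵁ V)) _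
    choose V hxV hVU hViso using hloc
    refine (IsZariskiLocalAtTarget.iff_of_iSup_eq_top (P := MorphismProperty.isomorphisms Scheme.{u})
      (fun x => U.ι ⁻¹ᵁ V x) ?_).2 fun x => ?_
    · exact top_unique fun z _ => Opens.mem_iSup.2 ⟨z, hxV z⟩
    · show IsIso (ν ∣_ U ∣_ (U.ι ⁻¹ᵁ V x))
      haveI := hViso x
      refine ((MorphismProperty.isomorphisms Scheme.{u}).arrow_mk_iso_iff (morphismRestrictRestrict ν U _)).2 ?_
      show IsIso (ν ∣_ (U.ι ''ᵁ (U.ι ⁻¹ᵁ V x)))
      rw [Scheme.Hom.image_preimage_eq_opensRange_inf, Scheme.Opens.opensRange_ι, inf_eq_right.2 (hVU x)]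
      infer_instance

end Groth.Agent.RDPChain13
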