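import Groth.Agent.RDPChain13.CodimTwo
import Groth.Agent.RDPChain13.ReducedNormalization
import Groth.Agent.SDiv28.WeakDense
import Groth.Agent.S2654
import Groth.Agent.CommAlg6.HeightOneHull

/-! Desingularisation in codimension two of reduced quasi-excellent schemes. -/

set_option autoImplicit false
set_option backward.isDefEq.respectTransparency.types false
set_option linter.style.haveILetI false

universe u

open CategoryTheory CategoryTheory.Limits AlgebraicGeometry TopologicalSpace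

namespace Groth.Agent.RDPChain13

/-- Isomorphisms over an open do not change the residue fields or the fibres. -/
theorem isBirational_comp {X Y Z : Scheme.{u}} {f : X ⟶ Y} {g : Y ⟶ Z}
    (hf : RadPt.IsBirational f) (hg : RadPt.IsBirational g) : RadPt.IsBirational (f ≫ g) := by
  refine ⟨hg.1.comp hf.1, fun z hz => ⟨fun x x' hx hx' => ?_, fun x hx => ?_⟩⟩
  · obtain ⟨y, hy, hyz⟩ := hg.1.surjOn hz
    have h1 := (hg.2 z hz).1 (f x) y hx hyz
    have h2 := (hg.2 z hz).1 (f x') y hx' hyz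
    exact (hf.2 y hy).1 x x' h1 h2
  · obtain ⟨y, hy, hyz⟩ := hg.1.surjOn hz
    have h1 : f x = y := (hg.2 z hz).1 (f x) y hx hyz
    rw [Scheme.residueFieldMap_comp]
    simp only [CommRingCat.hom_comp, RingHom.coe_comp]
    exact ((hf.2 y hy).2 x h1).comp ((hg.2 z hz).2 (f x) hx)

/-- A finite morphism does not lower the dimension of the local rings of the target. -/
theorem ringKrullDim_le_of_isFinite {X Y : Scheme.{u}} (f : X ⟶ Y) [IsFinite f] (x : X) :
    ringKrullDim (X.presheaf.stalk x) ≤ ringKrullDim (Y.presheaf.stalk (f x)) := by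
  obtain ⟨U, hU, hxU, -⟩ := exists_isAffineOpen_mem_and_subset (x := f x) (U := (⊤ : Y.Opens)) trivial
  have hW := hU.preimage f
  letI := (f.app U).hom.toAlgebra
  haveI : Module.Finite Γ(Y, U) Γ(X, f ⁻¹ᵁ U) := f.finite_app U hU
  letI := X.presheaf.algebra_section_stalk (⟨x, hxU⟩ : (f ⁻¹ᵁ U : X.Opens))
  haveI := hW.isLocalization_stalk ⟨x, hxU⟩
  letI := Y.presheaf.algebra_section_stalk (⟨f x, hxU⟩ : U)
  haveI := hU.isLocalization_stalk ⟨f x, hxU⟩
  rw [IsLocalization.AtPrime.ringKrullDim_eq_height (hW.primeIdealOf ⟨x, hxU⟩).asIdeal (X.presheaf.stalk x),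
    IsLocalization.AtPrime.ringKrullDim_eq_height (hU.primeIdealOf ⟨f x, hxU⟩).asIdeal (Y.presheaf.stalk (f x))]
  refine WithBot.coe_le_coe.2 ?_
  refine le_trans ?_ (le_of_eq (congrArg Ideal.height (a₁ := (hW.primeIdealOf ⟨x, hxU⟩).asIdeal.comap (algebraMap Γ(Y, U) Γ(X, f ⁻¹ᵁ U))) ?_))
  · rw [show (hW.primeIdealOf ⟨x, hxU⟩).asIdeal.height = Order.height (hW.primeIdealOf ⟨x, hxU⟩) from
      PrimeSpectrum.height_eq_orderHeight _]
    refine le_trans ?_ (PrimeSpectrum.height_eq_orderHeight ⟨(hW.primeIdealOf ⟨x, hxU⟩).asIdeal.comap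
      (algebraMap Γ(Y, U) Γ(X, f ⁻¹ᵁ U)), inferInstance⟩).ge
    exact Order.height_le_height_apply_of_strictMono _ DimLib.strictMono_comap_of_isIntegral _
  have := IsAffineOpen.comap_primeIdealOf_appLE (f := f) U hU (f ⁻¹ᵁ U) hW le_rfl hxU
  show Ideal.comap (f.app U).hom _ = _
  rw [← f.appLE_eq_app]
  exact congrArg PrimeSpectrum.asIdeal this

/-- A blow-up in a centre without maximal points is birational. -/
theorem isBirational_blowUp {X X' : Scheme.{u}} {b : X' ⟶ X} {I : X.IdealSheafData}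
    (hb : BlowUp.IsBlowUp b I) (hI : ∀ x ∈ genericPoints X, x ∉ I.support) : RadPt.IsBirational b := by
  have hbij := SDiv28.maximalPoints_bijOn hb
  haveI := SDiv28.isIso_off_center hb
  let V : X.Opens := I.support.compl
  have hres : ∀ x' : X', b x' ∈ V → Function.Bijective (b.residueFieldMap x').hom := fun x' hx' => by
    have hst : IsIso (b.stalkMap x') := by
      have : IsIso ((b ∣_ V).stalkMap ⟨x', hx'⟩) := ((isIso_iff_isIso_stalkMap (b ∣_ V)).mp ‹IsIso (b ∣_ V)›).2 _
      exact ((MorphismProperty.isomorphisms CommRingCat.{u}).arrow_mk_iso_iff (morphismRestrictStalkMap b V ⟨x', hx'⟩)).1 this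
    refine ⟨(b.residueFieldMap x').hom.injective, fun z => ?_⟩
    obtain ⟨w, rfl⟩ := X'.residue_surjective x' z
    obtain ⟨v, rfl⟩ := (ConcreteCategory.bijective_of_isIso (b.stalkMap x')).2 w
    exact ⟨X.residue (b x') v, congr($(Scheme.residue_residueFieldMap b x').hom v)⟩
  refine ⟨?_, fun x hx => ⟨fun y y' hy hy' => ?_, fun y hy => hres y (hy.symm ▸ hI x hx)⟩⟩
  · rw [show genericPoints ↥X' = {x' : ↥X' | ∀ y : ↥X', y ⤳ x' → y = x'} from Set.ext fun _ => mem_genericPoints_iff,
      show genericPoints ↥X = {x : ↥X | (∀ y : ↥X, y ⤳ x → y = x) ∧ x ∉ I.support} from Set.ext fun x =>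
        ⟨fun h => ⟨mem_genericPoints_iff.1 h, hI x h⟩, fun h => mem_genericPoints_iff.2 h.1⟩]
    exact hbij
  · have hyV : b y ∈ V := hy.symm ▸ hI x hx
    have hy'V : b y' ∈ V := hy'.symm ▸ hI x hx
    have := (b ∣_ V).isOpenEmbedding.injective (a₁ := ⟨y, hyV⟩) (a₂ := ⟨y', hy'V⟩) (by
      refine Subtype.ext ?_
      rw [← Scheme.Opens.ι_apply, ← Scheme.Opens.ι_apply, ← Scheme.Hom.comp_apply, ← Scheme.Hom.comp_apply,
        morphismRestrict_ι]
      exact hy.trans hy'.symm)
    exact congrArg Subtype.val this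

set_option maxHeartbeats 1000000 in
/-- Desingularisation over the points of dimension at most two. -/
theorem exists_regular_over_codim_two_reduced {X : Scheme.{u}} [AlgebraicGeometry.IsNoetherian X]
    [AlgebraicGeometry.IsReduced X] (hN : ∀ U : X.affineOpens, CAlg.IsNagata Γ(X, U.1))
    (hchart : ∀ {Y : Scheme.{u}} (q : Y ⟶ X) [LocallyOfFiniteType q] (y : Y),
      ∃ V : Y.Opens, IsAffineOpen V ∧ y ∈ V ∧ EGA4.IsQuasiExcellent Γ(Y, V)) :
    ∃ (X' : Scheme.{u}) (f : X' ⟶ X), AlgebraicGeometry.IsReduced X' ∧ RelProj.IsProjective f ∧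
      RadPt.IsBirational f ∧
      (∀ U : X.Opens, (∀ x : X, x ∈ U → IsRegularLocalRing (X.presheaf.stalk x)) → IsIso (f ∣_ U)) ∧
      ∀ x : X', ringKrullDim (X.presheaf.stalk (f.base x)) ≤ 2 →
        IsRegularLocalRing (X'.presheaf.stalk x) := by
  obtain ⟨N, ν, hνfin, hNn, hνbir, hνiso⟩ := exists_reduced_normalization X hN
  haveI := hνfin
  haveI : IsLocallyNoetherian N := LocallyOfFiniteType.isLocallyNoetherian ν
  haveI : CompactSpace N := QuasiCompact.compactSpace_of_compactSpace ν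
  haveI : AlgebraicGeometry.IsNoetherian N := {}
  haveI : AlgebraicGeometry.IsReduced N := by
    haveI : ∀ x : N, _root_.IsReduced (N.presheaf.stalk x) := fun x => by
      haveI := (hNn x).1
      infer_instance
    exact isReduced_of_isReduced_stalk N
  obtain ⟨I, hIsupp, hIU, hreg⟩ := exists_center_regular_over_codim_two hNn (hchart ν)
  obtain ⟨X', b, hb⟩ := BlowUpLib.exists_isBlowUp I
  have hIft := isFiniteTypeIdeal_of_noetherian I
  have hgenreg : ∀ x ∈ genericPoints N, x ∉ I.support := fun x hx hxI => by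
    have hclosed := isClosed_singular (Y := N) fun y => (hchart ν y).imp
      fun V ⟨h1, h2, h3⟩ => ⟨h1, h2, h3.2.2⟩
    have : ¬ IsRegularLocalRing (N.presheaf.stalk x) :=
      closure_minimal (fun y (hy : _ ∧ _) => hy.1) hclosed (hIsupp hxI)
    apply this
    haveI := (hNn x).1
    haveI := (hNn x).2
    refine CAlgH3.isRegularLocalRing_of_normal_dim_le_one ?_
    have h0 : ringKrullDim (N.presheaf.stalk x) ≤ 0 := by
      obtain ⟨W, hW, hxW, -⟩ := exists_isAffineOpen_mem_and_subset (x := x) (U := (⊤ : N.Opens)) trivial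
      letI := N.presheaf.algebra_section_stalk (⟨x, hxW⟩ : W)
      haveI := hW.isLocalization_stalk ⟨x, hxW⟩
      rw [IsLocalization.AtPrime.ringKrullDim_eq_height (hW.primeIdealOf ⟨x, hxW⟩).asIdeal (N.presheaf.stalk x)]
      refine le_of_eq (WithBot.coe_eq_zero.2 (Ideal.height_eq_zero_iff.2
        ⟨⟨(hW.primeIdealOf ⟨x, hxW⟩).2, bot_le⟩, fun q hq hle => ?_⟩))
      let qq : Spec Γ(N, W) := ⟨q, hq.1⟩
      have hP : hW.fromSpec (hW.primeIdealOf ⟨x, hxW⟩) = x := hW.fromSpec_primeIdealOf ⟨x, hxW⟩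
      have hs : hW.fromSpec qq ⤳ x := by
        have := ((PrimeSpectrum.le_iff_specializes qq _).1 hle).map hW.fromSpec.continuous
        rwa [hP] at this
      have := hW.fromSpec.isOpenEmbedding.injective
        ((mem_genericPoints_iff.1 hx _ hs).trans hP.symm)
      exact (congrArg PrimeSpectrum.asIdeal this).ge
    exact h0.trans zero_le_one
  refine ⟨X', b ≫ ν, SDiv28.isReduced_of_isBlowUp hb,
    FlatMorAdm.isProjective_comp b ν (FlatMorAdm.isProjective_blowUp hIft hb) (RelVALib.isProjective_of_isFinite ν),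
    isBirational_comp (isBirational_blowUp hb hgenreg) hνbir, fun U hU => ?_, fun x hx => ?_⟩
  · have hUn : ∀ x ∈ U, IsDomain (X.presheaf.stalk x) ∧ IsIntegrallyClosed (X.presheaf.stalk x) := fun x hx => by
      haveI := hU x hx
      exact ⟨CAlgH3.isDomain_of_isRegularLocalRing _, CAlgH3.isIntegrallyClosed_of_regular _⟩
    haveI := hνiso U hUn
    have hNU : ∀ y ∈ ν ⁻¹ᵁ U, IsRegularLocalRing (N.presheaf.stalk y) := fun y hy => by
      haveI : IsIso (ν.stalkMap y) := by
        have : IsIso ((ν ∣_ U).stalkMap ⟨y, hy⟩) := ((isIso_iff_isIso_stalkMap (ν ∣_ U)).mp ‹IsIso (ν ∣_ U)›).2 _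
        exact ((MorphismProperty.isomorphisms CommRingCat.{u}).arrow_mk_iso_iff (morphismRestrictStalkMap ν U ⟨y, hy⟩)).1 this
      haveI := hU (ν y) hy
      exact IsRegularLocalRing.of_ringEquiv (asIso (ν.stalkMap y)).commRingCatIsoToRingEquiv
    haveI := SDiv28.isIso_off_center hb
    have h1 : IsIso (b ∣_ (ν ⁻¹ᵁ U)) := isIso_restrict_of_le b (hIU _ hNU)
    rw [morphismRestrict_comp]
    exact IsIso.comp_isIso' h1 ‹IsIso (ν ∣_ U)›
  · refine hreg X' b hb x (le_trans ?_ hx)
    exact ringKrullDim_le_of_isFinite ν (b x)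

end Groth.Agent.RDPChain13
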