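import Groth.Agent.RDPChain13.GenericSeparable
import Groth.Agent.S7328
import Groth.Agent.S1648
import Groth.Agent.CAlgH.NagataComplete
import Groth.Agent.CAlgH.PowerSeriesComplete

/-! Reduction to rational singularities for complete normal local domains of dimension two. -/

set_option autoImplicit false
set_option backward.isDefEq.respectTransparency.types false
set_option linter.style.haveILetI false

universe u

open CategoryTheory CategoryTheory.Limits AlgebraicGeometry IsLocalRing

namespace Groth.Agent.RDPChain13

/-- The lengths of `H¹` of normal modifications are bounded. -/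
def RedRational (A : Type u) [CommRing A] : Prop :=
  ∃ N : ℕ, ∀ (X : Scheme.{u}) [X.Over (Spec (CommRingCat.of A))], IsProper (X ↘ Spec (CommRingCat.of A)) →
    IsIntegral X → Pi1.IsNormalScheme X →
    (∃ U : (Spec (CommRingCat.of A)).Opens, (U : Set (Spec (CommRingCat.of A))).Nonempty ∧ IsIso ((X ↘ Spec (CommRingCat.of A)) ∣_ U)) →
    Module.length A (Coh.HH X (Coh.structureModule X) 1) ≤ (N : ℕ∞)

set_option maxHeartbeats 1000000 in
theorem redRational_of_finite_separable {P A : Type u} [CommRing P] [IsRegularLocalRing P] [IsDomain P]
    [IsAdicComplete (maximalIdeal P) P] [CommRing A] [IsDomain A]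
    [IsLocalRing A] [IsNoetherianRing A] [IsAdicComplete (maximalIdeal A) A] [IsIntegrallyClosed A]
    (hdim : ringKrullDim A = 2) (f : P →+* A) (hfin : f.Finite) (hinj : Function.Injective f)
    [Algebra (FractionRing P) (FractionRing A)]
    (hcompat : ∀ q : P, algebraMap (FractionRing P) (FractionRing A) (algebraMap P (FractionRing P) q) =
      algebraMap A (FractionRing A) (f q))
    [Algebra.IsSeparable (FractionRing P) (FractionRing A)] : RedRational A := by
  haveI : IsIntegrallyClosed P := CAlgH3.isIntegrallyClosed_of_regular P
  letI := f.toAlgebra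
  haveI : Module.Finite P A := hfin
  haveI : Algebra.IsIntegral P A := Algebra.IsIntegral.of_finite P A
  haveI : IsLocalHom (algebraMap P A) := RingHom.IsIntegral.isLocalHom (algebraMap_isIntegral_iff.mpr inferInstance) hinj
  have hdP : ringKrullDim P = 2 := by rw [DimLib.ringKrullDim_eq_of_isIntegral (R := P) (S := A) hinj, hdim]
  have hNP : CAlg.IsNagata P := CAlgH.isNagata_of_complete_local P
  refine S7328.result P A hNP (CAlgH.isNagata_of_complete_local A) hdP hdim hinj hcompat
    ⟨0, fun X _ hprop hint hnorm hU => ?_⟩
  haveI := S1648.result P hNP hdP X (X ↘ Spec (CommRingCat.of P)) hprop hint hnorm hU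
  rw [Module.length_eq_zero]
  exact le_rfl

set_option maxHeartbeats 1000000 in
/-- Complete normal local domains of dimension two admit reduction to rational singularities. -/
theorem redRational_complete (A : Type u) [CommRing A] [IsDomain A] [IsLocalRing A] [IsNoetherianRing A]
    [IsAdicComplete (maximalIdeal A) A] [IsIntegrallyClosed A] (hdim : ringKrullDim A = 2) : RedRational A := by
  classical
  obtain ⟨Λ, _, n, f, hreg, hΛ, hinj, hfin, hres⟩ := CAlgH.exists_finite_injective_mvPowerSeries A
  haveI := hreg
  haveI : IsDomain Λ := CAlgH3.isDomain_of_isRegularLocalRing Λ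
  haveI : IsRegularLocalRing (MvPowerSeries (Fin n) Λ) := (CAlgH.isRegularLocalRing_mvPowerSeries Λ n).1
  haveI : IsDomain (MvPowerSeries (Fin n) Λ) := CAlgH.isDomain_mvPowerSeries_fin n Λ
  obtain ⟨p, hpA⟩ := CharP.exists A
  rcases CharP.char_is_prime_or_zero A p with hp | rfl
  · haveI := Fact.mk hp
    obtain ⟨hf⟩ : Nonempty (IsField Λ) := by
      refine hΛ.elim (fun h => ⟨h⟩) fun hC => ?_
      obtain ⟨_, _, -, q, hq, hm⟩ := hC
      exfalso
      have hinjC : Function.Injective (f.comp MvPowerSeries.C) := hinj.comp fun a b e => by
        simpa using congrArg MvPowerSeries.constantCoeff e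
      haveI : CharP Λ p := (RingHom.charP_iff _ hinjC p).2 hpA
      have hmem : (p : Λ) = 0 := CharP.cast_eq_zero Λ p
      by_cases hpq : q = p
      · subst hpq
        exact IsDiscreteValuationRing.not_a_field Λ (by rw [hm, hmem, Ideal.span_singleton_zero])
      · have hu : IsUnit (q : Λ) := by
          have hco : Nat.Coprime q p := (Nat.coprime_primes hq hp).2 hpq
          exact (CharP.isUnit_natCast_iff hp).2 fun hd => hpq ((Nat.prime_dvd_prime_iff_eq hp hq).1 hd).symm
        exact (maximalIdeal.isMaximal Λ).ne_top (hm ▸ Ideal.span_singleton_eq_top.2 hu)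
    letI : Field Λ := hf.toField
    haveI : CharP Λ p := (RingHom.charP_iff (f.comp MvPowerSeries.C) (f.comp MvPowerSeries.C).injective p).2 hpA
    obtain rfl : n = 2 := by
      letI := f.toAlgebra
      haveI : Module.Finite (MvPowerSeries (Fin n) Λ) A := hfin
      have h0 : ringKrullDim (MvPowerSeries (Fin n) Λ) = 2 := by
        rw [DimLib.ringKrullDim_eq_of_isIntegral (R := MvPowerSeries (Fin n) Λ) (S := A) hinj, hdim]
      have h1 := (CAlgH.isRegularLocalRing_mvPowerSeries Λ n).2
      have h2 := CAlgH.AdicSmooth.le_ringKrullDim_mvPowerSeries Λ n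
      rw [ringKrullDim_eq_zero_of_isField (Field.toIsField Λ), zero_add] at h1
      have h3 := le_antisymm h1 h2
      rw [h0] at h3
      exact_mod_cast h3.symm
    obtain ⟨g, hg, hsep⟩ := GenSep.exists_param_separable_field (L := FractionRing A) p
      (FractionRing (MvPowerSeries (Fin 2) Λ)) hdim (g₀ := f) ⟨hfin, hinj, hres⟩
    letI : Algebra (FractionRing (MvPowerSeries (Fin 2) Λ)) (FractionRing A) :=
      (GenSep.lift (FractionRing (MvPowerSeries (Fin 2) Λ)) hg).toAlgebra
    haveI : IsAdicComplete (maximalIdeal (MvPowerSeries (Fin 2) Λ)) (MvPowerSeries (Fin 2) Λ) :=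
      CAlgH.isAdicComplete_maximalIdeal_mvPowerSeries
    haveI : Algebra.IsSeparable (FractionRing (MvPowerSeries (Fin 2) Λ)) (FractionRing A) := hsep
    exact redRational_of_finite_separable hdim g hg.finite hg.inj (GenSep.lift_algebraMap _ hg)
  · haveI : CharZero A := CharP.charP_to_charZero A
    let P := MvPowerSeries (Fin n) Λ
    haveI : IsAdicComplete (maximalIdeal Λ) Λ := by
      rcases hΛ with h | h
      · rw [(IsLocalRing.isField_iff_maximalIdeal_eq).1 h]; infer_instance
      · obtain ⟨_, _, hc, -⟩ := h
        exact hc
    haveI : IsAdicComplete (maximalIdeal P) P := CAlgH.isAdicComplete_maximalIdeal_mvPowerSeries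
    let φ : FractionRing P →+* FractionRing A :=
      IsFractionRing.lift (g := (algebraMap A (FractionRing A)).comp f) ((IsFractionRing.injective A _).comp hinj)
    letI : Algebra (FractionRing P) (FractionRing A) := φ.toAlgebra
    have hc : ∀ q : P, algebraMap (FractionRing P) (FractionRing A) (algebraMap P (FractionRing P) q) =
        algebraMap A (FractionRing A) (f q) := fun q => IsFractionRing.lift_algebraMap _ q
    haveI : CharZero P := ⟨fun a b e => Nat.cast_injective (R := A) (by simpa using congrArg f e)⟩
    haveI : CharZero (FractionRing P) := (RingHom.charZero_iff (IsFractionRing.injective P (FractionRing P))).1 inferInstance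
    haveI : FiniteDimensional (FractionRing P) (FractionRing A) := by
      letI := f.toAlgebra
      haveI : IsScalarTower P (FractionRing P) (FractionRing A) := IsScalarTower.of_algebraMap_eq fun q => by
        rw [hc, IsScalarTower.algebraMap_apply P A (FractionRing A)]; rfl
      haveI : Module.Finite P A := hfin
      haveI : FaithfulSMul P A := (faithfulSMul_iff_algebraMap_injective _ _).mpr hinj
      haveI : Algebra.IsAlgebraic P A := Algebra.IsIntegral.isAlgebraic
      exact Module.Finite.of_isLocalizedModule (nonZeroDivisors P) (IsScalarTower.toAlgHom P A (FractionRing A)).toLinearMap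
    haveI : Algebra.IsSeparable (FractionRing P) (FractionRing A) := Algebra.IsAlgebraic.isSeparable_of_perfectField
    exact redRational_of_finite_separable hdim f hfin hinj hc

end Groth.Agent.RDPChain13
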