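import Mathlib

/-! Singular points of exceptional conics of double points: the local algebra over the residue field. -/

set_option autoImplicit false

universe u

open IsLocalRing Polynomial

namespace Groth.Agent.RDPChain13

/-- The ternary quadratic form with these coefficients is a multiple of a square. -/
def Sq3 {κ : Type u} [CommRing κ] (xx xy xz yy yz zz : κ) : Prop :=
  ∃ e p r s : κ, xx = e * p ^ 2 ∧ xy = 2 * e * p * r ∧ xz = 2 * e * p * s ∧
    yy = e * r ^ 2 ∧ yz = 2 * e * r * s ∧ zz = e * s ^ 2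

/-- The binary quadratic form with these coefficients is a multiple of a square. -/
def Sq2 {κ : Type u} [CommRing κ] (a b c : κ) : Prop :=
  ∃ e r s : κ, a = e * r ^ 2 ∧ b = 2 * e * r * s ∧ c = e * s ^ 2

variable {κ B : Type u} [Field κ] [CommRing B] [IsLocalRing B] [Algebra κ B] {t z : B}

/-- `B` is a localisation of `κ[t, z]` at a closed point. -/
structure IsPoint (t z : B) : Prop where
  gen : ∀ u : B, ∃ f g : MvPolynomial (Fin 2) κ,
    IsUnit (MvPolynomial.aeval ![t, z] g) ∧ u * MvPolynomial.aeval ![t, z] g = MvPolynomial.aeval ![t, z] f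
  alg_t : IsIntegral κ (residue B t)
  alg_z : IsIntegral κ (residue B z)
  not_principal : ∀ w : B, maximalIdeal B ≠ Ideal.span {w}

theorem residue_aeval (t : B) (f : κ[X]) : residue B (aeval t f) = aeval (residue B t) f :=
  (aeval_algHom_apply (IsScalarTower.toAlgHom κ B (ResidueField B)) t f).symm

theorem aeval_mem_iff (t : B) (f : κ[X]) :
    aeval t f ∈ maximalIdeal B ↔ minpoly κ (residue B t) ∣ f := by
  rw [← residue_eq_zero_iff, residue_aeval, minpoly.dvd_iff]

omit [IsLocalRing B] in
theorem mv_aeval_mem (t z : B) (h : κ[X]) (f : MvPolynomial (Fin 2) κ) :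
    ∃ k : κ[X], MvPolynomial.aeval ![t, z] f - aeval t k ∈ Ideal.span {z - aeval t h} := by
  induction f using MvPolynomial.induction_on with
  | C c => exact ⟨C c, by simp⟩
  | add p q hp hq =>
    obtain ⟨k, hk⟩ := hp
    obtain ⟨l, hl⟩ := hq
    exact ⟨k + l, by rw [map_add, map_add, add_sub_add_comm]; exact add_mem hk hl⟩
  | mul_X p i hp =>
    obtain ⟨k, hk⟩ := hp
    fin_cases i
    · refine ⟨k * X, ?_⟩
      simp only [map_mul, MvPolynomial.aeval_X, aeval_X]
      simpa [sub_mul] using Ideal.mul_mem_right t _ hk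
    · refine ⟨k * h, ?_⟩
      simp only [map_mul, MvPolynomial.aeval_X]
      have := add_mem (Ideal.mul_mem_right z _ hk)
        (Ideal.mul_mem_left _ (aeval t k) (Ideal.mem_span_singleton_self (z - aeval t h)))
      convert this using 1
      simp
      ring

/-- The maximal ideal at a point on the graph of a polynomial. -/
theorem IsPoint.maximalIdeal_eq (P : IsPoint (κ := κ) t z) (h : κ[X]) (hz : z - aeval t h ∈ maximalIdeal B) :
    maximalIdeal B = Ideal.span {aeval t (minpoly κ (residue B t)), z - aeval t h} := by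
  refine le_antisymm (fun u hu => ?_) (Ideal.span_le.2 (Set.insert_subset ((aeval_mem_iff t _).2 dvd_rfl) (by simpa using hz)))
  obtain ⟨f, g, hg, e⟩ := P.gen u
  obtain ⟨k, hk⟩ := mv_aeval_mem t z h f
  have hkm : aeval t k ∈ maximalIdeal B := by
    have h1 : MvPolynomial.aeval ![t, z] f ∈ maximalIdeal B := e ▸ Ideal.mul_mem_right _ _ hu
    simpa using sub_mem h1 ((Ideal.span_le.2 (by simpa using hz) : Ideal.span {z - aeval t h} ≤ maximalIdeal B) hk)
  obtain ⟨l, rfl⟩ := (aeval_mem_iff t _).1 hkm
  refine (Ideal.mul_unit_mem_iff_mem _ hg).1 (e ▸ ?_)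
  rw [← sub_add_cancel (MvPolynomial.aeval ![t, z] f) (aeval t (minpoly κ (residue B t) * l))]
  refine add_mem (Ideal.span_mono (by simp) hk) ?_
  rw [map_mul]
  exact Ideal.mul_mem_right _ _ (Ideal.subset_span (by simp))

variable [IsNoetherianRing B]

theorem coeff_mem_of_not_principal (hnp : ∀ w : B, maximalIdeal B ≠ Ideal.span {w}) {v w a b : B}
    (hm : maximalIdeal B = Ideal.span {v, w}) (h : a * v + b * w ∈ maximalIdeal B ^ 2) :
    a ∈ maximalIdeal B ∧ b ∈ maximalIdeal B := by
  have key : ∀ {v w a b : B}, maximalIdeal B = Ideal.span {v, w} → a * v + b * w ∈ maximalIdeal B ^ 2 →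
      a ∈ maximalIdeal B := by
    intro v w a b hm h
    by_contra ha
    have hau : IsUnit a := not_not.1 ha
    refine hnp w (le_antisymm ?_ (hm ▸ Ideal.span_mono (by simp)))
    refine Submodule.le_of_le_smul_of_le_jacobson_bot (IsNoetherian.noetherian _) (maximalIdeal_le_jacobson ⊥) ?_
    rw [smul_eq_mul, ← pow_two]
    refine hm.le.trans (Ideal.span_le.2 (Set.insert_subset ?_ ?_))
    · refine (Ideal.unit_mul_mem_iff_mem _ hau).1 ?_
      rw [show a * v = -(b * w) + (a * v + b * w) by ring]
      exact Submodule.add_mem_sup (neg_mem (Ideal.mul_mem_left _ _ (Ideal.mem_span_singleton_self w))) h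
    · exact Set.singleton_subset_iff.2 (Ideal.mem_sup_left (Ideal.mem_span_singleton_self w))
  exact ⟨key hm h, key (v := w) (w := v) (by rwa [Set.pair_comm]) (by rwa [add_comm])⟩

/-- A singular point of a conic which is not a double line is rational: monic case. -/
theorem rational_of_monic (P : IsPoint (κ := κ) t z) {xx xy xz yy yz zz : κ} (hzz : zz ≠ 0)
    (hQ : algebraMap κ B xx + algebraMap κ B xy * t + algebraMap κ B xz * z + algebraMap κ B yy * t ^ 2 +
      algebraMap κ B yz * t * z + algebraMap κ B zz * z ^ 2 = 0) :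
    Sq3 xx xy xz yy yz zz ∨
      ∃ a b : κ, t - algebraMap κ B a ∈ maximalIdeal B ∧ z - algebraMap κ B b ∈ maximalIdeal B := by
  classical
  let π := minpoly κ (residue B t)
  have hπm : π.Monic := minpoly.monic P.alg_t
  by_cases hh : ∃ k : κ[X], z - aeval t k ∈ maximalIdeal B
  swap
  · exfalso
    -- the fibre is quadratic over `κ(t)`
    refine P.not_principal (aeval t π) (le_antisymm (fun u hu => ?_)
      (Ideal.span_le.2 (by simpa using (aeval_mem_iff t π).2 dvd_rfl)))
    obtain ⟨f, g, hg, e⟩ := P.gen u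
    have hlin : ∀ f : MvPolynomial (Fin 2) κ, ∃ k l : κ[X], MvPolynomial.aeval ![t, z] f = aeval t k + aeval t l * z := by
      intro f
      induction f using MvPolynomial.induction_on with
      | C c => exact ⟨C c, 0, by simp⟩
      | add p q hp hq =>
        obtain ⟨k, l, hk⟩ := hp
        obtain ⟨k', l', hk'⟩ := hq
        exact ⟨k + k', l + l', by rw [map_add, hk, hk', map_add, map_add]; ring⟩
      | mul_X p i hp =>
        obtain ⟨k, l, hk⟩ := hp
        fin_cases i
        · exact ⟨k * X, l * X, by simp [hk]; ring⟩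
        · refine ⟨-(C zz⁻¹) * l * (C xx + C xy * X + C yy * X ^ 2), k - C zz⁻¹ * l * (C xz + C yz * X), ?_⟩
          have hu : algebraMap κ B zz⁻¹ * algebraMap κ B zz = 1 := by rw [← map_mul, inv_mul_cancel₀ hzz, map_one]
          simp [hk]
          linear_combination (algebraMap κ B zz⁻¹ * aeval t l) * hQ - (aeval t l * z ^ 2) * hu
    obtain ⟨k, l, hkl⟩ := hlin f
    have h1 : aeval t k + aeval t l * z ∈ maximalIdeal B := hkl ▸ e ▸ Ideal.mul_mem_right _ _ hu
    have hl : aeval t l ∈ maximalIdeal B := by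
      by_contra hl
      have hcop : IsCoprime π l := ((minpoly.irreducible P.alg_t).coprime_iff_not_dvd).2
        fun hd => hl ((aeval_mem_iff t l).2 hd)
      obtain ⟨p, q, hpq⟩ := hcop
      refine hh ⟨-(q * k), ?_⟩
      have h2 : aeval t (p * π) ∈ maximalIdeal B := (aeval_mem_iff t _).2 (dvd_mul_left π p)
      have h3 := congrArg (aeval t) hpq
      simp only [map_add, map_mul, map_one] at h3 h2
      have h4 := add_mem (Ideal.mul_mem_left _ (aeval t q) h1) (Ideal.mul_mem_right z _ h2)
      convert h4 using 1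
      simp only [map_neg, map_mul]
      linear_combination -z * h3
    have hk : aeval t k ∈ maximalIdeal B := by simpa using sub_mem h1 (Ideal.mul_mem_right z _ hl)
    obtain ⟨k, rfl⟩ := (aeval_mem_iff t _).1 hk
    obtain ⟨l, rfl⟩ := (aeval_mem_iff t _).1 hl
    refine (Ideal.mul_unit_mem_iff_mem _ hg).1 (e ▸ hkl ▸ ?_)
    rw [map_mul, map_mul, mul_assoc, ← mul_add]
    exact Ideal.mul_mem_right _ _ (Ideal.mem_span_singleton_self _)
  obtain ⟨k, hk⟩ := hh
  let h := k %ₘ π
  have hhz : z - aeval t h ∈ maximalIdeal B := by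
    have h1 : aeval t (π * (k /ₘ π)) ∈ maximalIdeal B := (aeval_mem_iff t _).2 (dvd_mul_right _ _)
    convert add_mem hk h1 using 1
    rw [show aeval t k = aeval t h + aeval t (π * (k /ₘ π)) by rw [← map_add, modByMonic_add_div]]
    ring
  have hhdeg : h.degree < π.degree := degree_modByMonic_lt k hπm
  rcases Nat.lt_or_ge π.natDegree 2 with hd | hd
  · refine Or.inr ⟨-π.coeff 0, h.coeff 0, ?_, ?_⟩
    · have h1 : π = X + C (π.coeff 0) := by
        have hd1 : π.natDegree = 1 := le_antisymm (by omega) (minpoly.natDegree_pos P.alg_t)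
        conv_lhs => rw [eq_X_add_C_of_natDegree_le_one hd1.le]
        have := hπm.coeff_natDegree
        rw [hd1] at this
        simp [this]
      have := (aeval_mem_iff t π).2 dvd_rfl
      rw [h1] at this
      simpa using this
    · have hd1 : π.natDegree = 1 := le_antisymm (by omega) (minpoly.natDegree_pos P.alg_t)
      have h1 : h = C (h.coeff 0) := eq_C_of_degree_le_zero (by
        rw [degree_eq_natDegree hπm.ne_zero, hd1] at hhdeg
        exact Order.lt_succ_iff.1 hhdeg)
      rw [h1] at hhz
      simpa using hhz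
  refine Or.inl ?_
  have hπd : π.degree = (π.natDegree : WithBot ℕ) := degree_eq_natDegree hπm.ne_zero
  have hhd : h.natDegree < π.natDegree := by
    rcases eq_or_ne h 0 with h0 | h0
    · rw [h0]; simp; omega
    · exact natDegree_lt_natDegree h0 hhdeg
  let Q1 : κ[X] := C xz + C yz * X + C (2 * zz) * h
  let Q0 : κ[X] := C xx + C xy * X + C yy * X ^ 2 + (C xz + C yz * X) * h + C zz * h ^ 2
  have e0 : aeval t Q0 + aeval t Q1 * (z - aeval t h) + algebraMap κ B zz * (z - aeval t h) ^ 2 = 0 := by
    simp [Q0, Q1, map_ofNat]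
    linear_combination hQ
  have hm := P.maximalIdeal_eq h hhz
  have hQ0 : π ∣ Q0 := (aeval_mem_iff t Q0).1 (by
    rw [show aeval t Q0 = -(aeval t Q1 + algebraMap κ B zz * (z - aeval t h)) * (z - aeval t h) by
      linear_combination e0]
    exact Ideal.mul_mem_left _ _ hhz)
  obtain ⟨s, hs⟩ := hQ0
  obtain ⟨hs1, hQ1⟩ := coeff_mem_of_not_principal P.not_principal hm
    (show aeval t s * aeval t π + aeval t Q1 * (z - aeval t h) ∈ maximalIdeal B ^ 2 by
      rw [show aeval t s * aeval t π + aeval t Q1 * (z - aeval t h) = -(algebraMap κ B zz) * (z - aeval t h) ^ 2 by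
        rw [mul_comm, ← map_mul, ← hs]; linear_combination e0]
      exact Ideal.mul_mem_left _ _ (Ideal.pow_mem_pow hhz 2))
  have hQ10 : Q1 = 0 := eq_zero_of_dvd_of_natDegree_lt ((aeval_mem_iff t _).1 hQ1) (by
    refine lt_of_le_of_lt ?_ (show max 1 h.natDegree < π.natDegree by omega)
    simp only [Q1]
    refine (natDegree_add_le _ _).trans (max_le ?_ ?_)
    · refine le_trans ?_ (le_max_left _ _)
      compute_degree
    · exact (natDegree_C_mul_le _ _).trans (le_max_right _ _))
  let A0 : κ[X] := C xx + C xy * X + C yy * X ^ 2 - C zz * h ^ 2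
  have hA0 : π ^ 2 ∣ A0 := by
    have e : A0 = Q0 := by linear_combination (norm := (simp only [A0, Q0, Q1, map_mul, map_ofNat]; ring)) (-h) * hQ10
    rw [e, hs, pow_two]
    exact mul_dvd_mul_left π ((aeval_mem_iff t _).1 hs1)
  have hA00 : A0 = 0 := eq_zero_of_dvd_of_natDegree_lt hA0 (by
    rw [natDegree_pow]
    refine lt_of_le_of_lt ?_ (show max 2 (2 * h.natDegree) < 2 * π.natDegree by omega)
    simp only [A0]
    refine (natDegree_sub_le _ _).trans (max_le (le_trans ?_ (le_max_left _ _)) (le_trans ?_ (le_max_right _ _)))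
    · compute_degree
    · exact (natDegree_C_mul_le _ _).trans natDegree_pow_le)
  have hdeg1 : h.natDegree ≤ 1 := by
    have e : C zz * h ^ 2 = C xx + C xy * X + C yy * X ^ 2 := (sub_eq_zero.1 hA00).symm
    have := congrArg natDegree e
    rw [natDegree_C_mul hzz, natDegree_pow] at this
    have h2 : (C xx + C xy * X + C yy * X ^ 2).natDegree ≤ 2 := by compute_degree
    omega
  have hl := eq_X_add_C_of_natDegree_le_one hdeg1
  set r := h.coeff 1
  set p := h.coeff 0
  have eA : A0 = C (xx - zz * p ^ 2) + C (xy - 2 * zz * p * r) * X + C (yy - zz * r ^ 2) * X ^ 2 := by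
    simp only [A0, hl, map_sub, map_mul, map_pow, map_ofNat]
    ring
  have eQ : Q1 = C (xz + 2 * zz * p) + C (yz + 2 * zz * r) * X := by
    simp only [Q1, hl, map_add, map_mul, map_ofNat]
    ring
  rw [eA] at hA00
  rw [eQ] at hQ10
  have c0 := congrArg (fun f => f.coeff 0) hA00
  have c1 := congrArg (fun f => f.coeff 1) hA00
  have c2 := congrArg (fun f => f.coeff 2) hA00
  have d0 := congrArg (fun f => f.coeff 0) hQ10
  have d1 := congrArg (fun f => f.coeff 1) hQ10
  simp only [coeff_add, coeff_C_mul, coeff_X_pow, coeff_X, coeff_C, coeff_zero] at c0 c1 c2 d0 d1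
  norm_num at c0 c1 c2 d0 d1
  exact ⟨zz, -p, -r, 1, by linear_combination c0, by linear_combination c1, by linear_combination d0,
    by linear_combination c2, by linear_combination d1, by ring⟩

omit [IsNoetherianRing B] in
/-- Linear changes of the affine coordinates. -/
theorem IsPoint.change (P : IsPoint (κ := κ) t z) {t' z' : B} (pt pz : MvPolynomial (Fin 2) κ)
    (ht : MvPolynomial.aeval ![t', z'] pt = t) (hz : MvPolynomial.aeval ![t', z'] pz = z)
    (ht' : IsIntegral κ (residue B t')) (hz' : IsIntegral κ (residue B z')) : IsPoint (κ := κ) t' z' := by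
  refine ⟨fun u => ?_, ht', hz', P.not_principal⟩
  obtain ⟨f, g, hg, e⟩ := P.gen u
  have key : ∀ f, MvPolynomial.aeval ![t', z'] (MvPolynomial.bind₁ ![pt, pz] f) = MvPolynomial.aeval ![t, z] f := fun f => by
    rw [MvPolynomial.aeval_bind₁]
    congr 1
    congr 1
    funext i
    fin_cases i <;> simp [ht, hz]
  exact ⟨MvPolynomial.bind₁ ![pt, pz] f, MvPolynomial.bind₁ ![pt, pz] g, (key g).symm ▸ hg, by rw [key g, key f]; exact e⟩

/-- A singular point of a conic which is not a double line is rational. -/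
theorem rational_of_not_sq3 (P : IsPoint (κ := κ) t z) {xx xy xz yy yz zz : κ}
    (hns : ¬ Sq3 xx xy xz yy yz zz)
    (hQ : algebraMap κ B xx + algebraMap κ B xy * t + algebraMap κ B xz * z + algebraMap κ B yy * t ^ 2 +
      algebraMap κ B yz * t * z + algebraMap κ B zz * z ^ 2 = 0) :
    ∃ a b : κ, t - algebraMap κ B a ∈ maximalIdeal B ∧ z - algebraMap κ B b ∈ maximalIdeal B := by
  by_cases h6 : zz ≠ 0
  · exact (rational_of_monic P h6 hQ).resolve_left hns
  by_cases h4 : yy ≠ 0
  · have P' : IsPoint (κ := κ) z t := P.change (MvPolynomial.X 1) (MvPolynomial.X 0) (by simp) (by simp) P.alg_z P.alg_t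
    rcases rational_of_monic P' h4 (xx := xx) (xy := xz) (xz := xy) (yy := zz) (yz := yz) (by linear_combination hQ)
      with ⟨e, p, r, s, a1, a2, a3, a4, a5, a6⟩ | ⟨a, b, ha, hb⟩
    · exact absurd ⟨e, p, s, r, a1, a3, a2, a6, by rw [a5]; ring, a4⟩ hns
    · exact ⟨b, a, hb, ha⟩
  rw [not_not] at h6 h4
  subst h6 h4
  by_cases h5 : yz ≠ 0
  · have P' : IsPoint (κ := κ) (t - z) z := P.change (MvPolynomial.X 0 + MvPolynomial.X 1) (MvPolynomial.X 1)
      (by simp) (by simp) (by rw [map_sub]; exact P.alg_t.sub P.alg_z) P.alg_z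
    rcases rational_of_monic P' h5 (xx := xx) (xy := xy) (xz := xz + xy) (yy := 0) (yz := yz)
      (by simp only [map_add, map_zero] at hQ ⊢; linear_combination hQ) with ⟨e, p, r, s, -, -, -, a4, a5, -⟩ | ⟨a, b, ha, hb⟩
    · exfalso
      rcases mul_eq_zero.1 a4.symm with h | h
      · exact h5 (by rw [a5, h]; ring)
      · exact h5 (by rw [a5, (pow_eq_zero_iff two_ne_zero).1 h]; ring)
    · refine ⟨a + b, b, ?_, hb⟩
      convert add_mem ha hb using 1
      rw [map_add]
      ring
  rw [not_not] at h5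
  subst h5
  simp only [map_zero, zero_mul, add_zero] at hQ
  have key : ∀ {t z : B} {c0 c1 c2 : κ}, IsPoint (κ := κ) t z → c2 ≠ 0 →
      algebraMap κ B c0 + algebraMap κ B c1 * t + algebraMap κ B c2 * z = 0 → False := by
    intro t z c0 c1 c2 P hc h
    let l : κ[X] := -(C c2⁻¹) * (C c0 + C c1 * X)
    have hz0 : z - aeval t l = 0 := by
      have hu : algebraMap κ B c2⁻¹ * algebraMap κ B c2 = 1 := by rw [← map_mul, inv_mul_cancel₀ hc, map_one]
      simp [l]
      linear_combination algebraMap κ B c2⁻¹ * h - z * hu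
    have hm := P.maximalIdeal_eq l (by rw [hz0]; exact zero_mem _)
    rw [hz0, Set.pair_comm, Ideal.span_insert_zero] at hm
    exact P.not_principal _ hm
  exfalso
  by_cases h3 : xz ≠ 0
  · exact key P h3 (c0 := xx) (c1 := xy) (by linear_combination hQ)
  by_cases h2 : xy ≠ 0
  · exact key (P.change (t' := z) (z' := t) (MvPolynomial.X 1) (MvPolynomial.X 0) (by simp) (by simp) P.alg_z P.alg_t) h2
      (c0 := xx) (c1 := xz) (by linear_combination hQ)
  rw [not_not] at h3 h2
  subst h3 h2
  exact hns ⟨xx, 1, 0, 0, by ring, by ring, by ring, by ring, by ring, by ring⟩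

end Groth.Agent.RDPChain13
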