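import Groth.Agent.RDPChain13.ResolveSurface
import Groth.Agent.RDPChain13.CompleteReduction
import Groth.Agent.S7330
import Groth.Agent.CommAlg6.ExcellentBasic

/-! Resolution of complete normal two dimensional local domains. -/

set_option autoImplicit false
set_option backward.isDefEq.respectTransparency.types false
set_option linter.style.haveILetI false

universe u

open CategoryTheory CategoryTheory.Limits AlgebraicGeometry IsLocalRing

namespace Groth.Agent.RDPChain13

/-- Reduction to rational singularities gives a resolution. -/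
theorem exists_resolution_of_redRational {Q A : Type u} [CommRing Q] [IsRegularRing Q] [CommRing A] [IsDomain A]
    [IsLocalRing A] [IsNoetherianRing A] [IsIntegrallyClosed A] (π : Q →+* A) (hπ : Function.Surjective π)
    (hexc : EGA4.IsExcellent A) (hdim : ringKrullDim A = 2) (hA : RedRational A) :
    ∃ (X : Scheme.{u}) (f : X ⟶ Spec (CommRingCat.of A)), IsProper f ∧ IsIntegral X ∧
      (∀ x : X, IsRegularLocalRing (X.presheaf.stalk x)) ∧
      ∃ U : (Spec (CommRingCat.of A)).Opens, (U : Set (Spec (CommRingCat.of A))).Nonempty ∧ IsIso (f ∣_ U) := by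
  have hN : CAlg.IsNagata A := S2654.result A ⟨hexc.1, hexc.2.2.1, hexc.2.2.2⟩
  obtain ⟨X, f, hf, hXi, hXn, ⟨U, hUne, hU⟩, -, hrat⟩ := S7330.result A hN hdim hA
  haveI := hXi
  haveI := hf
  haveI : IsLocallyNoetherian X := LocallyOfFiniteType.isLocallyNoetherian f
  haveI : CompactSpace X := QuasiCompact.compactSpace_of_compactSpace f
  haveI : AlgebraicGeometry.IsNoetherian X := {}
  haveI := hU
  obtain ⟨hfη, hfb⟩ := Coherent.birational_of_isIso_morphismRestrict f U hUne
  have hd : ∀ x : X, ringKrullDim (X.presheaf.stalk x) ≤ 2 := fun x =>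
    (Resolve13.Modification.ringKrullDim_stalk_le f hfη hfb x).trans (Resolve13.ringKrullDim_stalk_spec_le hdim.le _)
  obtain ⟨X', h, hX'i, hproj, ⟨V, hVne, hV⟩, hreg⟩ := exists_resolution_of_rational π hπ hexc X hXn f hd hrat
  haveI := hX'i
  haveI := hV
  haveI := RelVALib.isProper_of_isProjective hproj
  exact ⟨X', h ≫ f, inferInstance, hX'i, hreg, Resolve13.RatExt.exists_isIso_comp f h U hUne V hVne⟩

/-- Complete normal local domains of dimension two have resolutions. -/
theorem exists_resolution_complete (A : Type u) [CommRing A] [IsDomain A] [IsLocalRing A] [IsNoetherianRing A]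
    [IsAdicComplete (maximalIdeal A) A] [IsIntegrallyClosed A] (hdim : ringKrullDim A = 2) :
    ∃ (X : Scheme.{u}) (f : X ⟶ Spec (CommRingCat.of A)), IsProper f ∧ IsIntegral X ∧
      (∀ x : X, IsRegularLocalRing (X.presheaf.stalk x)) ∧
      ∃ U : (Spec (CommRingCat.of A)).Opens, (U : Set (Spec (CommRingCat.of A))).Nonempty ∧ IsIso (f ∣_ U) := by
  obtain ⟨Λ, _, φ, hreg, hres, -⟩ := CAlgH.exists_coefficient_ring A
  obtain ⟨n, a, ha⟩ := Submodule.fg_iff_exists_fin_generating_family.mp (IsNoetherian.noetherian (maximalIdeal A))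
  have hI : ∀ i, a i ∈ maximalIdeal A := fun i => ha ▸ Submodule.subset_span ⟨i, rfl⟩
  obtain ⟨f, hfC, hfX⟩ := CAlgH.exists_mvPowerSeries_eval φ (maximalIdeal A) a hI
  haveI := (CAlgH.isRegularLocalRing_mvPowerSeries Λ n).1
  haveI : IsRegularRing (MvPowerSeries (Fin n) Λ) := CAlgH3.isRegularRing_of_isRegularLocalRing
  refine exists_resolution_of_redRational f ?_ (CommAlg6.isExcellent_of_complete_local A) hdim
    (redRational_complete A hdim)
  exact CAlgH.surjective_mvPowerSeries_hom f (maximalIdeal A) (fun i => (hfX i).symm ▸ hI i) (by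
    rw [show (fun i => f (MvPowerSeries.X i)) = a from funext hfX, hfC,
      show Ideal.span (Set.range a) = maximalIdeal A from ha]
    exact hres)

end Groth.Agent.RDPChain13
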