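import Groth.Agent.RDPChain13.AdmissibleResolution
import Groth.Agent.RDPChain13.LocalResolution
import Groth.Agent.S7304
import Groth.Agent.S1597
import Groth.Agent.Resolve13.RatModif
import Groth.Agent.Props12.Stalks
import Groth.Agent.LocCoh.NonVanishing
import Groth.Agent.CAlgH3.BlowUpCd

/-! A normal surface singularity whose completion is a normal domain is resolvable. -/

set_option autoImplicit false
set_option backward.isDefEq.respectTransparency.types false
set_option linter.style.haveILetI false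

universe u

open CategoryTheory CategoryTheory.Limits AlgebraicGeometry TopologicalSpace IsLocalRing

namespace Groth.Agent.RDPChain13

set_option maxHeartbeats 1000000 in
/-- The completion gives an admissible regular blow-up. -/
theorem exists_regular_admissible_of_cpl (A : Type u) [CommRing A] [IsLocalRing A] [IsNoetherianRing A]
    (hdim : ringKrullDim A = 2) [IsDomain (Curv2.cpl A)] [IsIntegrallyClosed (Curv2.cpl A)] :
    ∃ (I : (Spec (CommRingCat.of A)).IdealSheafData) (X : Scheme.{u}) (b : X ⟶ Spec (CommRingCat.of A)),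
      BlowUp.IsAdmissibleFor (FEt.puncturedSpec A) I ∧ BlowUp.IsBlowUp b I ∧
      ∀ x : X, IsRegularLocalRing (X.presheaf.stalk x) := by
  haveI : IsNoetherianRing (Curv2.cpl A) := Matlis6.isNoetherianRing_adicCompletion _
  haveI : IsAdicComplete (maximalIdeal (Curv2.cpl A)) (Curv2.cpl A) := inferInstance
  have hd : ringKrullDim (Curv2.cpl A) = 2 := (LocCoh.ringKrullDim_adicCompletion A).trans hdim
  obtain ⟨Z, g, hg, hZ, hreg, hbir⟩ := exists_resolution_complete (Curv2.cpl A) hd
  haveI := hg
  haveI := hZ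
  obtain ⟨J, Y, c, hJ, hc, hY⟩ := exists_regular_admissible hd g hbir hreg
  obtain ⟨I, X, b, hI, hb, e, -⟩ := S7304.result A Y c J hJ hc
  haveI : IsProper b := BlowUpLib.isProper_of_isBlowUp hb hI.1
  refine ⟨I, X, b, hI, hb, (S1597.result A X b).2 fun y => ?_⟩
  haveI := hY (e.inv y)
  exact IsRegularLocalRing.of_ringEquiv (asIso (e.inv.stalkMap y)).commRingCatIsoToRingEquiv

set_option maxHeartbeats 1000000 in
/-- A normal surface singularity with normal completion is resolvable. -/
theorem resolvable_of_cpl (A : Type u) [CommRing A] [IsLocalRing A] [IsNoetherianRing A]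
    (hdim : ringKrullDim A = 2) [IsDomain (Curv2.cpl A)] [IsIntegrallyClosed (Curv2.cpl A)] : Resolvable A := by
  intro Y _ _ y hy ⟨e⟩
  obtain ⟨I, X, b, hI, hb, hreg⟩ := exists_regular_admissible_of_cpl A hdim
  obtain ⟨I0, rfl⟩ := Resolve13.RatExt.exists_eq_idealSheaf I
  obtain ⟨U, hU, hyU, -⟩ := exists_isAffineOpen_mem_and_subset (x := y) (U := (⊤ : Y.Opens)) trivial
  haveI : QuasiCompact hU.fromSpec := inferInstance
  let e' : Y.presheaf.stalk y →+* A := e
  let γ : Γ(Y, U) →+* A := e'.comp (Y.presheaf.germ U y hyU).hom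
  let φ : Spec (CommRingCat.of A) ⟶ Y :=
    Spec.map (CommRingCat.ofHom e') ≫ Y.fromSpecStalk y
  have hφ : φ = Spec.map (CommRingCat.ofHom γ) ≫ hU.fromSpec := by
    simp only [φ, γ]
    rw [← hU.fromSpecStalk_eq_fromSpecStalk hyU, CommRingCat.ofHom_comp, Spec.map_comp, Category.assoc]
    rfl
  let p := hU.primeIdealOf ⟨y, hyU⟩
  letI := Y.presheaf.algebra_section_stalk (⟨y, hyU⟩ : U)
  haveI := hU.isLocalization_stalk ⟨y, hyU⟩
  let K0 : Ideal Γ(Y, U) := I0.comap γ
  have hK0map : K0.map γ = I0 := by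
    show (Ideal.comap _ I0).map _ = I0
    rw [← Ideal.comap_comap, ← Ideal.map_map, show ((I0.comap e').comap (Y.presheaf.germ U y hyU).hom).map
      (Y.presheaf.germ U y hyU).hom = I0.comap e' from
      IsLocalization.map_comap p.asIdeal.primeCompl _ _]
    exact Ideal.map_comap_of_surjective _ e.surjective I0
  let J : Y.IdealSheafData := (Curv2.idealSheaf Γ(Y, U) K0).map hU.fromSpec
  -- the centre is supported at `y`
  have hpmax : p.asIdeal.IsMaximal := by
    refine (PrimeSpectrum.isClosed_singleton_iff_isMaximal p).1 ?_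
    have : ({p} : Set (PrimeSpectrum Γ(Y, U))) = hU.fromSpec ⁻¹' {y} := Set.ext fun q => by
      simp only [Set.mem_singleton_iff]
      exact ⟨fun h => h ▸ hU.fromSpec_primeIdealOf _,
        fun h => hU.fromSpec.isOpenEmbedding.injective (h.trans (hU.fromSpec_primeIdealOf ⟨y, hyU⟩).symm)⟩
    rw [this]
    exact hy.preimage hU.fromSpec.continuous
  have hsupp : (J.support : Set Y) ⊆ {y} := by
    show (((Curv2.idealSheaf Γ(Y, U) K0).map hU.fromSpec).support : Set Y) ⊆ _
    rw [Scheme.IdealSheafData.support_map, Closeds.coe_closure, CAlgH3.BlowUpCd.support_idealSheaf]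
    refine closure_minimal ?_ hy
    rintro _ ⟨q, hq, rfl⟩
    refine Set.mem_singleton_iff.2 ?_
    have hqp : q = p := by
      refine PrimeSpectrum.ext (hpmax.eq_of_le q.isPrime.ne_top ?_).symm
      -- a power of `p` lies in `K0`
      have hrad : maximalIdeal A ≤ I0.radical := by
        rw [Ideal.radical_eq_sInf]
        refine le_sInf fun Q hQ => ?_
        by_contra hne
        haveI := hQ.2
        refine Set.disjoint_left.1 hI.2 (show (⟨Q, hQ.2⟩ : PrimeSpectrum A) ∈ _ from ?_) ?_
        · rw [CAlgH3.BlowUpCd.support_idealSheaf]; exact hQ.1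
        · intro h
          exact hne (le_of_eq (congrArg PrimeSpectrum.asIdeal (Set.mem_singleton_iff.1 h)).symm)
      intro a ha
      refine q.isPrime.radical_le_iff.2 (show K0 ≤ q.asIdeal from hq) ?_
      have h1 : γ a ∈ I0.radical := hrad ((IsLocalRing.mem_maximalIdeal _).2 fun hu => by
        have h2 : IsUnit ((Y.presheaf.germ U y hyU).hom a) := (isUnit_map_iff e _).1 hu
        exact (IsLocalization.AtPrime.isUnit_to_map_iff (Y.presheaf.stalk y) p.asIdeal a).1 h2 ha)
      obtain ⟨n, hn⟩ := h1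
      exact ⟨n, show γ (a ^ n) ∈ I0 by rwa [map_pow]⟩
    rw [hqp]
    exact hU.fromSpec_primeIdealOf _
  have hJφ : J.comap φ = Curv2.idealSheaf A I0 := by
    rw [hφ, Scheme.IdealSheafData.comap_comp]
    show ((((Curv2.idealSheaf Γ(Y, U) K0).map hU.fromSpec)).comap hU.fromSpec).comap _ = _
    rw [Resolve13.RatModif.comap_map_of_isOpenImmersion]
    have := Resolve13.RatExt.idealSheaf_comap_comp γ (𝟙 _) K0
    rw [Category.id_comp, hK0map, Scheme.IdealSheafData.comap_id] at this
    exact this
  obtain ⟨Y', h, hh⟩ := BlowUpLib.exists_isBlowUp J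
  have hJft := isFiniteTypeIdeal_of_noetherian J
  let V : Y.Opens := ⟨({y} : Set Y)ᶜ, hy.isOpen_compl⟩
  have hVle : V ≤ J.support.compl := fun z hz hz' => hz (hsupp hz')
  have hy0 : y ≠ genericPoint Y := fun h0 => by
    have h1 : ringKrullDim (Y.presheaf.stalk y) = 2 := (ringKrullDim_eq_of_ringEquiv e).trans hdim
    rw [h0, ringKrullDim_eq_zero_of_isField (Field.toIsField Y.functionField)] at h1
    exact absurd h1 (by decide)
  haveI := SDiv28.isIso_off_center hh
  haveI := Resolve13.isIntegral_blowUp hh (hVle (show genericPoint Y ∈ V from fun h' => hy0 h'.symm))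
  refine ⟨Y', h, inferInstance,
    FlatMorAdm.isProjective_blowUp hJft hh, isIso_restrict_of_le h hVle, fun w hw => ?_⟩
  have hwy : h w = y := not_not.1 hw
  haveI : IsIso (CommRingCat.ofHom e') :=
    inferInstanceAs (IsIso e.toCommRingCatIso.hom)
  haveI : Flat (Y.fromSpecStalk y) := Props12.flat_fromSpecStalk y
  have hblow := SDiv28.isBlowUp_flat_baseChange hh φ
  rw [hJφ] at hblow
  obtain ⟨e1, -⟩ := BlowUpLib.exists_iso_of_isBlowUp hb hblow
  obtain ⟨t, ht⟩ := Resolve13.LocalBase.mem_range_fst h y (z := w) (hwy ▸ specializes_rfl)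
  haveI : IsRegularLocalRing ((pullback h (Y.fromSpecStalk y)).presheaf.stalk t) := by
    let ε : Spec (CommRingCat.of A) ⟶ Spec (Y.presheaf.stalk y) := Spec.map (CommRingCat.ofHom e')
    haveI : IsIso ε := by
      haveI : IsIso (CommRingCat.ofHom e') := inferInstanceAs (IsIso e.toCommRingCatIso.hom)
      exact inferInstanceAs (IsIso (Spec.map (CommRingCat.ofHom e')))
    have eq1 : h ≫ 𝟙 Y = 𝟙 Y' ≫ h := by rw [Category.comp_id, Category.id_comp]
    have eq2 : φ ≫ 𝟙 Y = ε ≫ Y.fromSpecStalk y := Category.comp_id φ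
    let μ := pullback.map h φ h (Y.fromSpecStalk y) (𝟙 _) ε (𝟙 _) eq1 eq2
    haveI : IsIso μ := pullback.map_isIso h φ h (Y.fromSpecStalk y) (𝟙 _) ε (𝟙 _) eq1 eq2
    let e2 : pullback h (Y.fromSpecStalk y) ≅ X :=
      (asIso μ).symm ≪≫ pullbackSymmetry h φ ≪≫ e1.symm
    haveI := hreg (e2.hom t)
    exact IsRegularLocalRing.of_ringEquiv (asIso (e2.hom.stalkMap t)).commRingCatIsoToRingEquiv
  haveI := Props12.isIso_stalkMap_fst h y t
  rw [← ht]
  exact IsRegularLocalRing.of_ringEquiv
    (asIso ((pullback.fst h (Y.fromSpecStalk y)).stalkMap t)).commRingCatIsoToRingEquiv.symm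

end Groth.Agent.RDPChain13
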