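import Groth.Agent.S7329

/-! A complete local domain of dimension two and characteristic `p` is finite and generically separable
over a power series ring. -/

set_option autoImplicit false
set_option backward.isDefEq.respectTransparency.types false
set_option linter.style.haveILetI false

universe u

open IsLocalRing Polynomial

namespace Groth.Agent.RDPChain13.GenSep

theorem derivation_eval₂ {R F N : Type u} [CommRing R] [CommRing F] [AddCommGroup N] [Module F N] {S : Type u}
    [CommRing S] [Algebra S F] [Module S N] (D : Derivation S F N) (h : R →+* F) (E : R →+ R) (z : N)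
    (hh : ∀ r, D (h r) = h (E r) • z) (q : R[X]) (a : F) :
    D (q.eval₂ h a) = (q.derivative.eval₂ h a) • D a + (q.sum fun n c => h (E c) * a ^ n) • z := by
  induction q using Polynomial.induction_on' with
  | add q r hq hr =>
    rw [eval₂_add, map_add, hq, hr, derivative_add, eval₂_add, add_smul,
      sum_add_index _ _ _ (fun n => by simp) (fun n b c => by simp [add_mul]), add_smul]
    abel
  | monomial n c =>
    rw [eval₂_monomial, Derivation.leibniz, hh, Derivation.leibniz_pow, derivative_monomial, eval₂_monomial,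
      sum_monomial_index _ _ (by simp), ← Nat.cast_smul_eq_nsmul F, smul_smul, smul_smul, smul_smul, map_mul,
      map_natCast, mul_comm (a ^ n), add_comm]

/-- A derivation killing a field kills the elements separable over it. -/
theorem derivation_eq_zero_of_separable {K F N : Type u} [Field K] [Field F] [AddCommGroup N] [Module F N]
    {S : Type u} [CommRing S] [Algebra S F] [Module S N] (D : Derivation S F N) (φ : K →+* F) (hφ : ∀ c, D (φ c) = 0)
    {r : K[X]} {x : F} (hr : r.eval₂ φ x = 0) (hr' : r.derivative.eval₂ φ x ≠ 0) : D x = 0 := by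
  have h := derivation_eval₂ D φ 0 0 (fun c => by rw [hφ, smul_zero]) r x
  rw [hr, map_zero, smul_zero, add_zero] at h
  exact (smul_eq_zero.1 h.symm).resolve_left hr'

variable {k : Type u} [Field k] {A : Type u} [CommRing A] [IsDomain A] [IsLocalRing A]

local notation "P" => MvPowerSeries (Fin 2) k

/-- A finite injective parametrisation. -/
structure Param (g : P →+* A) : Prop where
  finite : g.Finite
  inj : Function.Injective g
  res : Function.Surjective ((residue A).comp g)

theorem Param.mem {g : P →+* A} (hg : Param g) {z : P} (hz : MvPowerSeries.constantCoeff z = 0) :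
    g z ∈ maximalIdeal A := by
  letI := g.toAlgebra
  haveI : Module.Finite P A := hg.finite
  haveI : IsLocalHom (algebraMap P A) :=
    RingHom.IsIntegral.isLocalHom (algebraMap_isIntegral_iff.mpr (Algebra.IsIntegral.of_finite P A)) hg.inj
  refine (IsLocalRing.mem_maximalIdeal _).2 fun hu => ?_
  have h := MvPowerSeries.isUnit_constantCoeff _ (isUnit_of_map_unit (algebraMap P A) z hu)
  rw [hz] at h
  exact not_isUnit_zero h

theorem Param.resC {g : P →+* A} (hg : Param g) : Function.Surjective ((residue A).comp (g.comp MvPowerSeries.C)) := by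
  intro t
  obtain ⟨u, rfl⟩ := hg.res t
  refine ⟨MvPowerSeries.constantCoeff u, ?_⟩
  show residue A (g (MvPowerSeries.C _)) = residue A (g u)
  rw [← sub_eq_zero, ← map_sub, ← map_sub, residue_eq_zero_iff]
  exact hg.mem (by simp)

variable [IsNoetherianRing A] [IsAdicComplete (maximalIdeal A) A]

/-- Replacing `X i` by `x θ + x ^ n`. -/
theorem exists_param (hdim : ringKrullDim A = 2) {h : P →+* A} (hh : Param h) {i j : Fin 2} (hji : j ≠ i) (θ : A) :
    ∃ (f : P →+* A) (n : ℕ), Param f ∧ (∀ c, f (MvPowerSeries.C c) = h (MvPowerSeries.C c)) ∧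
      f (MvPowerSeries.X i) = h (MvPowerSeries.X i) * θ + h (MvPowerSeries.X i) ^ n ∧
      f (MvPowerSeries.X j) = h (MvPowerSeries.X j) := by
  classical
  have hij : ∀ l, l = i ∨ l = j := fun l => by fin_cases l <;> fin_cases i <;> fin_cases j <;> simp_all
  haveI : IsDomain P := CAlgH.isDomain_mvPowerSeries_fin 2 k
  let x := h (MvPowerSeries.X i)
  let y := h (MvPowerSeries.X j)
  have hx : x ∈ maximalIdeal A := hh.mem (MvPowerSeries.constantCoeff_X i)
  have hy : y ∈ maximalIdeal A := hh.mem (MvPowerSeries.constantCoeff_X j)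
  have hy0 : y ≠ 0 := fun h0 => (CAlgH.Tjurina.prime_X k 2 j).ne_zero (hh.inj (h0.trans (map_zero h).symm))
  have hfin : ((Ideal.span ({y} : Set A)).minimalPrimes).Finite := Ideal.finite_minimalPrimes_of_isNoetherianRing A _
  let bad : Set ℕ := ⋃ Q ∈ (Ideal.span ({y} : Set A)).minimalPrimes, {n : ℕ | x ∉ Q ∧ x * θ + x ^ n ∈ Q}
  have hbad : bad.Finite := hfin.biUnion fun Q hQ => by
    refine Set.Subsingleton.finite fun a ha b hb => ?_
    haveI : Q.IsPrime := hQ.1.1
    obtain ⟨hxQ, ha⟩ := ha
    obtain ⟨-, hb⟩ := hb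
    suffices key : ∀ a b : ℕ, a < b → x * θ + x ^ a ∈ Q → x * θ + x ^ b ∈ Q → False by
      rcases lt_trichotomy a b with h' | h' | h'
      · exact (key a b h' ha hb).elim
      · exact h'
      · exact (key b a h' hb ha).elim
    clear ha hb a b
    intro a b hab ha hb
    obtain ⟨d, rfl⟩ : ∃ d, b = a + (d + 1) := ⟨b - a - 1, by omega⟩
    have h1 : x ^ a * (1 - x ^ (d + 1)) ∈ Q := by
      convert sub_mem ha hb using 1
      rw [pow_add]; ring
    rcases (Ideal.IsPrime.mem_or_mem ‹Q.IsPrime› h1) with h2 | h2
    · exact hxQ (Ideal.IsPrime.mem_of_pow_mem ‹Q.IsPrime› a h2)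
    · refine (Ideal.IsPrime.ne_top ‹Q.IsPrime›) (Ideal.eq_top_of_isUnit_mem _ h2 ?_)
      exact IsLocalRing.isUnit_one_sub_self_of_mem_nonunits _ ((IsLocalRing.mem_maximalIdeal _).1
        (Ideal.pow_mem_of_mem _ hx _ d.succ_pos))
  obtain ⟨n, hn1, hn⟩ := ((Set.Ici_infinite 1).sdiff hbad).nonempty
  let t := x * θ + x ^ n
  have ht : t ∈ maximalIdeal A := add_mem (Ideal.mul_mem_right _ _ hx) (Ideal.pow_mem_of_mem _ hx n hn1)
  let v : Fin 2 → A := fun l => if l = i then t else y
  have hvi : v i = t := if_pos rfl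
  have hvj : v j = y := if_neg hji
  have hvm : ∀ l, v l ∈ maximalIdeal A := fun l => by
    rcases hij l with rfl | rfl
    · rw [hvi]; exact ht
    · rw [hvj]; exact hy
  obtain ⟨f, hfC, hfX⟩ := CAlgH.exists_mvPowerSeries_eval (h.comp MvPowerSeries.C) (maximalIdeal A) v hvm
  let I : Ideal A := Ideal.span (Set.range v)
  have hIrad : maximalIdeal A ≤ I.radical := by
    rw [Ideal.radical_eq_sInf]
    refine le_sInf fun Q ⟨hQ, hQp⟩ => ?_
    haveI := hQp
    have hyQ : y ∈ Q := hQ (Ideal.subset_span ⟨j, hvj⟩)
    have htQ : t ∈ Q := hQ (Ideal.subset_span ⟨i, hvi⟩)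
    obtain ⟨Q0, hQ0, hle⟩ := Ideal.exists_minimalPrimes_le (J := Q) ((Ideal.span_singleton_le_iff_mem _).2 hyQ)
    haveI : Q0.IsPrime := hQ0.1.1
    have hy0Q : y ∈ Q0 := hQ0.1.2 (Ideal.subset_span rfl)
    by_cases hxQ : x ∈ Q0
    · -- `Q` contains the image of the maximal ideal
      letI := h.toAlgebra
      haveI : Module.Finite P A := hh.finite
      haveI : Algebra.IsIntegral P A := Algebra.IsIntegral.of_finite P A
      haveI : (Q.comap (algebraMap P A)).IsMaximal := by
        haveI : (Q.comap (algebraMap P A)).IsPrime := Ideal.comap_isPrime _ _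
        have hle' : maximalIdeal P ≤ Q.comap (algebraMap P A) := by
          intro z hz
          obtain ⟨w, -, hw⟩ := CAlgH.exists_eq_C_add_sum_X_mul z
          have hz0 : MvPowerSeries.constantCoeff z = 0 := by
            by_contra h0
            exact (IsLocalRing.mem_maximalIdeal _).1 hz (MvPowerSeries.isUnit_iff_constantCoeff.2 (Ne.isUnit h0))
          rw [hw, hz0, map_zero, zero_add]
          refine Ideal.sum_mem _ fun l _ => Ideal.mul_mem_right _ _ ?_
          show h (MvPowerSeries.X l) ∈ Q
          rcases hij l with rfl | rfl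
          · exact hle hxQ
          · exact hyQ
        exact (maximalIdeal.isMaximal P).eq_of_le (Ideal.IsPrime.ne_top ‹_›) hle' ▸ maximalIdeal.isMaximal P
      have : Q.IsMaximal := Ideal.isMaximal_of_isIntegral_of_isMaximal_comap Q ‹_›
      exact (IsLocalRing.eq_maximalIdeal this).ge
    · by_contra hQm
      have hlt : Q < maximalIdeal A :=
        lt_of_le_of_ne (le_maximalIdeal (Ideal.IsPrime.ne_top ‹_›)) fun e => hQm e.ge
      have hne : Q0 < Q := lt_of_le_of_ne hle fun e => hn (Set.mem_biUnion hQ0 ⟨hxQ, e ▸ htQ⟩)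
      have h01 : (⊥ : Ideal A) < Q0 := bot_lt_iff_ne_bot.2 fun e => hy0 (by rw [e] at hy0Q; exact hy0Q)
      have e1 := Ideal.height_strict_mono_of_isPrime h01
      have e2 := Ideal.height_strict_mono_of_isPrime hne
      have e3 := Ideal.height_strict_mono_of_isPrime hlt
      have h2 : (maximalIdeal A).height = 2 := by
        rw [← maximalIdeal_height_eq_ringKrullDim] at hdim
        exact WithBot.coe_inj.1 (hdim.trans rfl)
      rw [h2] at e3
      have e4 : Q0.height + 1 ≤ Q.height := Order.add_one_le_of_lt e2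
      have e5 : (1 : ℕ∞) ≤ Q0.height := Order.one_le_iff_pos.2 (lt_of_le_of_lt bot_le e1)
      have : (2 : ℕ∞) ≤ Q.height := le_trans (by rw [show (2 : ℕ∞) = 1 + 1 from rfl]; exact add_le_add e5 le_rfl) e4
      exact absurd e3 (not_lt.2 this)
  have hIne : I ≠ ⊤ := ne_top_of_le_ne_top (maximalIdeal.isMaximal A).ne_top
    (Ideal.span_le.2 (by rintro _ ⟨l, rfl⟩; exact hvm l))
  haveI : Nontrivial (A ⧸ I) := Ideal.Quotient.nontrivial_iff.mpr hIne
  haveI : IsLocalRing (A ⧸ I) := IsLocalRing.of_surjective' _ Ideal.Quotient.mk_surjective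
  haveI : IsArtinianRing (A ⧸ I) := by
    rw [isArtinianRing_iff_isNilpotent_maximalIdeal]
    obtain ⟨N, hN⟩ := Ideal.exists_pow_le_of_le_radical_of_fg hIrad (IsNoetherian.noetherian _)
    refine ⟨N, ?_⟩
    rw [← CAlgH.isAdicComplete_quotient.map_mk_maximalIdeal I]
    rw [← Ideal.map_pow, Ideal.zero_eq_bot]
    exact (Ideal.map_eq_bot_iff_le_ker _).2 (hN.trans Ideal.mk_ker.ge)
  have hffin : f.Finite := by
    refine CAlgH.finite_mvPowerSeries_hom f (maximalIdeal A) (fun l => by rw [hfX]; exact hvm l) ?_
    rw [show (fun l => f (MvPowerSeries.X l)) = v from funext hfX, hfC]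
    refine CAlgH.finite_of_residue_surjective _ fun t' => ?_
    obtain ⟨b, rfl⟩ := residue_surjective t'
    obtain ⟨b, rfl⟩ := Ideal.Quotient.mk_surjective b
    obtain ⟨c, hc⟩ := hh.resC (residue A b)
    refine ⟨c, ?_⟩
    show residue _ (Ideal.Quotient.mk I (h (MvPowerSeries.C c))) = residue _ (Ideal.Quotient.mk I b)
    rw [← sub_eq_zero, ← map_sub, residue_eq_zero_iff, ← map_sub, ← CAlgH.isAdicComplete_quotient.map_mk_maximalIdeal I]
    refine Ideal.mem_map_of_mem _ ?_
    rw [← residue_eq_zero_iff, map_sub, sub_eq_zero]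
    exact hc
  refine ⟨f, n, ⟨hffin, ?_, fun t' => ?_⟩, fun c => RingHom.congr_fun hfC c, (hfX i).trans hvi, (hfX j).trans hvj⟩
  · refine CAlgH.injective_mvPowerSeries_hom f hffin ?_
    rw [ringKrullDim_eq_zero_of_isField (Field.toIsField k), zero_add, hdim]
    rfl
  · obtain ⟨c, hc⟩ := hh.resC t'
    exact ⟨MvPowerSeries.C c, (congrArg (residue A) (RingHom.congr_fun hfC c)).trans hc⟩

variable (p : ℕ) [Fact p.Prime] [CharP k p] [CharP A p]
variable {L : Type u} [Field L] [Algebra A L] [IsFractionRing A L]
variable (K : Type u) [Field K] [Algebra (MvPowerSeries (Fin 2) k) K] [IsFractionRing (MvPowerSeries (Fin 2) k) K]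

/-- The map on fraction fields. -/
noncomputable def lift {g : P →+* A} (hg : Param g) : K →+* L :=
  haveI : IsDomain P := CAlgH.isDomain_mvPowerSeries_fin 2 k
  IsFractionRing.lift (g := (algebraMap A L).comp g) ((IsFractionRing.injective A L).comp hg.inj)

theorem lift_algebraMap {g : P →+* A} (hg : Param g) (z : P) :
    lift (L := L) K hg (algebraMap P K z) = algebraMap A L (g z) := by
  haveI : IsDomain P := CAlgH.isDomain_mvPowerSeries_fin 2 k
  exact IsFractionRing.lift_algebraMap _ z

include p in
set_option maxHeartbeats 1000000 in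
/-- The key step: `θ` and everything separable for `g` become separable for a new parametrisation. -/
theorem exists_step (hdim : ringKrullDim A = 2) {g : P →+* A} (hg : Param g) {θ : A}
    {q : P[X]} (hq : q.Monic) (hqa : q.eval₂ ((algebraMap A L).comp g) (algebraMap A L (θ ^ p)) = 0)
    (hmin : ∀ q' : P[X], q' ≠ 0 → q'.degree < q.degree →
      q'.eval₂ ((algebraMap A L).comp g) (algebraMap A L (θ ^ p)) ≠ 0)
    {n₀ : ℕ} (hn₀ : ∀ H : P, H ^ p ≠ q.coeff n₀)
    (S : Set L) (hgS : ∀ z, algebraMap A L (g z) ∈ S)
    (hS : ∀ x ∈ S, ∃ r : K[X], r.eval₂ (lift K hg) x = 0 ∧ r.derivative.eval₂ (lift K hg) x ≠ 0) :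
    ∃ (f : P →+* A) (hf : Param f), letI := (lift (L := L) K hf).toAlgebra
      ∀ x ∈ insert (algebraMap A L θ) S, IsSeparable K x := by
  classical
  haveI : IsDomain P := CAlgH.isDomain_mvPowerSeries_fin 2 k
  haveI : CharP P p := charP_of_injective_ringHom (f := (MvPowerSeries.C : k →+* P))
    (fun a b e => by simpa using congrArg MvPowerSeries.constantCoeff e) p
  obtain ⟨H, σ, m, i, hm, hmi⟩ := Resolve13.NotPth.exists_exponent p (q.coeff n₀) hn₀
  have hpd : MvPowerSeries.pderiv k i (σ (q.coeff n₀)) ≠ 0 := by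
    intro h
    have h' : MvPowerSeries.pderiv k i (σ (q.coeff n₀ - H ^ p)) = 0 := by
      rw [map_sub, map_sub, h, map_pow, Derivation.leibniz_pow]
      have hp0 : (p : P) = 0 := CharP.cast_eq_zero P p
      simp [nsmul_eq_mul]
    have hm1 : 1 ≤ m i := Nat.one_le_iff_ne_zero.mpr fun h0 => hmi (h0 ▸ dvd_zero p)
    have h1 := congrArg (MvPowerSeries.coeff (m - Finsupp.single i 1)) h'
    rw [MvPowerSeries.coeff_pderiv, map_zero, tsub_add_cancel_of_le (by simpa [Finsupp.single_le_iff] using hm1),
      mul_eq_zero] at h1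
    rcases h1 with h1 | h1
    · exact hm h1
    · refine hmi ((CharP.cast_eq_zero_iff k p _).mp ?_)
      rw [← Nat.cast_add_one] at h1
      rw [← h1]
      congr 1
      simp
      omega
  obtain ⟨j, hji⟩ : ∃ j : Fin 2, j ≠ i := exists_ne i
  have hij : ∀ l, l = i ∨ l = j := fun l => by fin_cases l <;> fin_cases i <;> fin_cases j <;> simp_all
  let h : P →+* A := g.comp (σ.symm : P →+* P)
  have hh : Param h := ⟨hg.finite.comp (RingHom.Finite.of_surjective _ σ.symm.surjective),
    hg.inj.comp σ.symm.injective, hg.res.comp σ.symm.surjective⟩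
  have hgh : ∀ z, g z = h (σ z) := fun z => by simp [h]
  obtain ⟨f, n, hf, hfC, hfi, hfj⟩ := exists_param hdim hh hji θ
  refine ⟨f, hf, ?_⟩
  letI : Algebra K L := (lift K hf).toAlgebra
  let M' : IntermediateField K L := IntermediateField.adjoin K (insert (algebraMap A L θ) S)
  intro x₀ hx₀
  have hsub : ∀ x ∈ insert (algebraMap A L θ) S, x ∈ M' := fun x hx => IntermediateField.subset_adjoin K _ hx
  have hgM : ∀ z, algebraMap A L (h z) ∈ M' := fun z => hsub _ (Set.mem_insert_of_mem _ (hgS _))
  have hfM : ∀ z, algebraMap A L (f z) ∈ M' := fun z => by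
    rw [← lift_algebraMap K hf z]; exact M'.algebraMap_mem _
  -- finite dimensionality
  haveI : FiniteDimensional K L := by
    letI := f.toAlgebra
    letI : Algebra P L := ((algebraMap A L).comp f).toAlgebra
    haveI : IsScalarTower P A L := IsScalarTower.of_algebraMap_eq fun _ => rfl
    haveI : Module.Finite P A := hf.finite
    haveI : IsScalarTower P K L := IsScalarTower.of_algebraMap_eq fun z => (lift_algebraMap K hf z).symm
    haveI : FaithfulSMul P A := (faithfulSMul_iff_algebraMap_injective _ _).mpr hf.inj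
    haveI : Algebra.IsAlgebraic P A := Algebra.IsIntegral.isAlgebraic
    exact Module.Finite.of_isLocalizedModule (nonZeroDivisors P) (IsScalarTower.toAlgHom P A L).toLinearMap
  haveI : CharP L p := charP_of_injective_algebraMap (IsFractionRing.injective A L) p
  haveI : CharP M' p := (M'.val.toRingHom.charP_iff_charP p).2 ‹_›
  haveI : Algebra.EssFiniteType K M' := inferInstance
  suffices Algebra.FormallyUnramified K M' by
    haveI : Algebra.IsSeparable K M' := (Algebra.FormallyUnramified.iff_isSeparable _ _).mp this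
    have h0 : (minpoly K (⟨x₀, hsub x₀ hx₀⟩ : M')).Separable := Algebra.IsSeparable.isSeparable K _
    rw [IntermediateField.minpoly_eq] at h0
    exact h0
  -- the intersection of `A` with `M'`
  let B : Subring A := M'.toSubfield.toSubring.comap (algebraMap A L)
  let ι : B →+* M' := ((algebraMap A L).comp B.subtype).codRestrict M'.toSubfield.toSubring fun b => b.2
  let h' : P →+* B := h.codRestrict B hgM
  let f' : P →+* B := f.codRestrict B hfM
  have hfin : ∀ (e : P →+* A) (he : ∀ z, e z ∈ B), e.Finite → (e.codRestrict B he).Finite := by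
    intro e he hfe
    letI := e.toAlgebra
    letI := (e.codRestrict B he).toAlgebra
    haveI : Module.Finite P A := hfe
    let lm : B →ₗ[P] A := { toFun := fun b => b.1, map_add' := fun _ _ => rfl, map_smul' := fun _ _ => rfl }
    exact Module.Finite.of_injective lm Subtype.val_injective
  let D := KaehlerDifferential.D K M'
  have hfD : ∀ z, D (ι (f' z)) = 0 := fun z => by
    rw [show ι (f' z) = algebraMap K M' (algebraMap P K z) from Subtype.ext (lift_algebraMap K hf z).symm]
    exact Derivation.map_algebraMap _ _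
  have hC : ∀ c, D (ι (h' (MvPowerSeries.C c))) = 0 := fun c => by
    rw [show h' (MvPowerSeries.C c) = f' (MvPowerSeries.C c) from Subtype.ext (hfC c).symm]
    exact hfD _
  have hDy : D (ι (h' (MvPowerSeries.X j))) = 0 := by
    rw [show h' (MvPowerSeries.X j) = f' (MvPowerSeries.X j) from Subtype.ext hfj.symm]
    exact hfD _
  let z₀ := D (ι (h' (MvPowerSeries.X i)))
  have hformula : ∀ z, D (ι (h' z)) = ι (h' (MvPowerSeries.pderiv k i z)) • z₀ := fun z => by
    refine (S7329.derivation_comp_eq ι D f' h' (hfin f hfM hf.finite) (hfin h hgM hh.finite) hfD hC z).trans ?_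
    rw [Finset.sum_eq_single i (fun l _ hl => by
      rw [(hij l).resolve_left hl, hDy, smul_zero]) (fun hi => absurd (Finset.mem_univ i) hi)]
  have hpz : ∀ w : M', D (w ^ p) = 0 := fun w => by
    rw [Derivation.leibniz_pow, ← Nat.cast_smul_eq_nsmul M', CharP.cast_eq_zero, zero_smul]
  let θM : M' := ⟨algebraMap A L θ, hsub _ (Set.mem_insert _ _)⟩
  let ψ : P →+* M' := ι.comp (g.codRestrict B fun z => hsub _ (Set.mem_insert_of_mem _ (hgS z)))
  have hψ : ∀ z, ψ z = ι (h' (σ z)) := fun z => Subtype.ext (congrArg (algebraMap A L) (hgh z))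
  have hψL : ((M'.val : M' →ₐ[K] L) : M' →+* L).comp ψ = (algebraMap A L).comp g := RingHom.ext fun _ => rfl
  let E : P →+ P := AddMonoidHom.mk' (fun z => σ.symm (MvPowerSeries.pderiv k i (σ z))) fun a b => by simp
  have hE : ∀ z, D (ψ z) = ψ (E z) • z₀ := fun z => by
    rw [hψ, hψ, hformula]; simp [E]
  have hz₀ : z₀ = 0 := by
    have hev := derivation_eval₂ D ψ E z₀ hE q (θM ^ p)
    have h0 : q.eval₂ ψ (θM ^ p) = 0 := Subtype.ext (by
      have := Polynomial.hom_eval₂ q ψ ((M'.val : M' →ₐ[K] L) : M' →+* L) (θM ^ p)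
      rw [hψL] at this
      exact this.trans (by simpa [θM] using hqa))
    rw [h0, map_zero, hpz, smul_zero, zero_add] at hev
    refine (smul_eq_zero.1 hev.symm).resolve_left fun h1 => ?_
    let qE : P[X] := q.sum fun l c => monomial l (E c)
    have hcoeff : ∀ l, qE.coeff l = E (q.coeff l) := fun l => by
      simp only [qE, sum_def, finsetSum_coeff, coeff_monomial, Finset.sum_ite_eq']
      split_ifs with hl
      · rfl
      · rw [notMem_support_iff.1 hl, map_zero]
    refine hmin qE (fun h0 => hpd ?_) ?_ ?_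
    · have := hcoeff n₀
      rw [h0, coeff_zero] at this
      simpa [E] using congrArg σ this.symm
    · rw [degree_eq_natDegree hq.ne_zero]
      refine (degree_lt_iff_coeff_zero _ _).2 fun l hl => ?_
      rw [hcoeff]
      rcases hl.eq_or_lt with rfl | hl
      · rw [hq.coeff_natDegree]; simp [E]
      · rw [coeff_eq_zero_of_natDegree_lt hl, map_zero]
    · have e : qE.eval₂ ψ (θM ^ p) = q.sum fun l c => ψ (E c) * (θM ^ p) ^ l := by
        simp only [qE, sum_def, eval₂_finsetSum, eval₂_monomial]
      have := Polynomial.hom_eval₂ qE ψ ((M'.val : M' →ₐ[K] L) : M' →+* L) (θM ^ p)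
      rw [hψL, e, h1, map_zero] at this
      simpa [θM] using this.symm
  have hDψ : ∀ z, D (ψ z) = 0 := fun z => by rw [hE, hz₀, smul_zero]
  have hDh : ∀ z, D (ι (h' z)) = 0 := fun z => by rw [hformula, hz₀, smul_zero]
  let φ : K →+* M' := IsFractionRing.lift (g := ψ) (fun a b e => hg.inj
    (IsFractionRing.injective A L (congrArg Subtype.val e)))
  have hφL : ((M'.val : M' →ₐ[K] L) : M' →+* L).comp φ = lift K hg := IsLocalization.ringHom_ext (nonZeroDivisors P)
    (RingHom.ext fun z => by
      show ((φ (algebraMap P K z) : M') : L) = lift K hg (algebraMap P K z)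
      rw [lift_algebraMap, IsFractionRing.lift_algebraMap]; rfl)
  have hDφ : ∀ c, D (φ c) = 0 := fun c => by
    obtain ⟨a, b, hb, rfl⟩ := IsFractionRing.div_surjective (A := P) c
    rw [map_div₀, IsFractionRing.lift_algebraMap, IsFractionRing.lift_algebraMap, Derivation.leibniz_div, hDψ, hDψ]
    simp
  have hDθ : D θM = 0 := by
    let xM : M' := ι (h' (MvPowerSeries.X i))
    have e : ι (f' (MvPowerSeries.X i)) = xM * θM + xM ^ n := Subtype.ext (by
      show algebraMap A L (f (MvPowerSeries.X i)) = _
      rw [hfi, map_add, map_mul, map_pow]; rfl)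
    have h1 := hfD (MvPowerSeries.X i)
    rw [e, map_add, Derivation.leibniz, Derivation.leibniz_pow, hDh, smul_zero, smul_zero, smul_zero, add_zero, add_zero,
      smul_eq_zero] at h1
    refine h1.resolve_left fun h2 => (CAlgH.Tjurina.prime_X k 2 i).ne_zero (hh.inj ?_)
    rw [map_zero]
    exact IsFractionRing.injective A L ((congrArg Subtype.val h2).trans (map_zero _).symm)
  have hkill : ∀ w : M', D w = 0 := by
    rintro ⟨w, hw⟩
    induction hw using IntermediateField.adjoin_induction with
    | mem x hx =>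
      rcases hx with rfl | hx
      · exact hDθ
      · obtain ⟨r, hr, hr'⟩ := hS x hx
        let xM : M' := ⟨x, hsub x (Set.mem_insert_of_mem _ hx)⟩
        refine derivation_eq_zero_of_separable D φ hDφ (r := r) (x := xM) (Subtype.ext ?_) fun h0 => hr' ?_
        · have := Polynomial.hom_eval₂ r φ ((M'.val : M' →ₐ[K] L) : M' →+* L) xM
          rw [hφL] at this
          exact this.trans (hr.trans (map_zero (((M'.val : M' →ₐ[K] L) : M' →+* L))).symm)
        · have := Polynomial.hom_eval₂ r.derivative φ ((M'.val : M' →ₐ[K] L) : M' →+* L) xM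
          rw [hφL, h0, map_zero] at this
          exact this.symm
    | algebraMap c =>
      rw [show (⟨algebraMap K L c, _⟩ : M') = algebraMap K M' c from Subtype.ext rfl]
      exact Derivation.map_algebraMap D c
    | add a b ha hb h1 h2 =>
      rw [show (⟨a + b, _⟩ : M') = ⟨a, ha⟩ + ⟨b, hb⟩ from Subtype.ext rfl, map_add, h1, h2, add_zero]
    | inv a ha h1 =>
      rw [show (⟨a⁻¹, _⟩ : M') = (⟨a, ha⟩ : M')⁻¹ from Subtype.ext rfl, Derivation.leibniz_inv, h1, smul_zero]
    | mul a b ha hb h1 h2 =>
      rw [show (⟨a * b, _⟩ : M') = ⟨a, ha⟩ * ⟨b, hb⟩ from Subtype.ext rfl, Derivation.leibniz, h1, h2, smul_zero,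
        smul_zero, add_zero]
  constructor
  refine ⟨fun u v => ?_⟩
  have hz : ∀ u : Ω[M'⁄K], u = 0 := fun u => by
    have hmem : u ∈ Submodule.span M' (Set.range (KaehlerDifferential.D K M')) := by
      rw [KaehlerDifferential.span_range_derivation]; trivial
    have hbot : Submodule.span M' (Set.range (KaehlerDifferential.D K M')) = ⊥ :=
      Submodule.span_eq_bot.mpr (by rintro _ ⟨w, rfl⟩; exact hkill w)
    rwa [hbot, Submodule.mem_bot] at hmem
  rw [hz u, hz v]

include p in
set_option maxHeartbeats 1000000 in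
theorem exists_param_separable_field (hdim : ringKrullDim A = 2) {g₀ : P →+* A} (hg₀ : Param g₀) :
    ∃ (f : P →+* A) (hf : Param f), letI := (lift (L := L) K hf).toAlgebra
      Algebra.IsSeparable K L := by
  classical
  haveI : IsDomain P := CAlgH.isDomain_mvPowerSeries_fin 2 k
  haveI : IsRegularLocalRing P := (CAlgH.isRegularLocalRing_mvPowerSeries k 2).1
  haveI : IsIntegrallyClosed P := CAlgH3.isIntegrallyClosed_of_regular P
  haveI : CharP P p := charP_of_injective_ringHom (f := (MvPowerSeries.C : k →+* P))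
    (fun a b e => by simpa using congrArg MvPowerSeries.constantCoeff e) p
  haveI : CharP K p := charP_of_injective_algebraMap (IsFractionRing.injective P K) p
  haveI : ExpChar K p := ExpChar.prime Fact.out
  haveI : CharP L p := charP_of_injective_algebraMap (IsFractionRing.injective A L) p
  haveI : ExpChar L p := ExpChar.prime Fact.out
  let Sep : ∀ {g : P →+* A}, Param g → Set L := fun hg =>
    letI := (lift (L := L) K hg).toAlgebra
    (separableClosure K L : Set L)
  have hfd : ∀ {g : P →+* A} (hg : Param g), letI := (lift (L := L) K hg).toAlgebra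
      FiniteDimensional K L := fun {g} hg => by
    letI := g.toAlgebra
    letI : Algebra P L := ((algebraMap A L).comp g).toAlgebra
    letI := (lift (L := L) K hg).toAlgebra
    haveI : IsScalarTower P A L := IsScalarTower.of_algebraMap_eq fun _ => rfl
    haveI : Module.Finite P A := hg.finite
    haveI : IsScalarTower P K L := IsScalarTower.of_algebraMap_eq fun z => (lift_algebraMap K hg z).symm
    haveI : FaithfulSMul P A := (faithfulSMul_iff_algebraMap_injective _ _).mpr hg.inj
    haveI : Algebra.IsAlgebraic P A := Algebra.IsIntegral.isAlgebraic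
    exact Module.Finite.of_isLocalizedModule (nonZeroDivisors P) (IsScalarTower.toAlgHom P A L).toLinearMap
  letI alg₀ : Algebra K L := (lift (L := L) K hg₀).toAlgebra
  haveI : FiniteDimensional K L := hfd hg₀
  let M₀ := separableClosure K L
  haveI : Module.Finite M₀ L := Module.Finite.right K M₀ L
  haveI : IsNoetherian M₀ L := IsNoetherian.iff_fg.mpr inferInstance
  let T : Set (Submodule M₀ L) := {W | ∃ (g : P →+* A) (hg : Param g), (W : Set L) = Sep hg}
  have hT : T.Nonempty := ⟨
    { carrier := (M₀ : Set L)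
      add_mem' := M₀.add_mem
      zero_mem' := M₀.zero_mem
      smul_mem' := fun m x hx => M₀.mul_mem m.2 hx }, g₀, hg₀, rfl⟩
  obtain ⟨W, ⟨g, hg, hW⟩, hmax⟩ := set_has_maximal_iff_noetherian.mpr ‹_› T hT
  refine ⟨g, hg, ?_⟩
  letI algg : Algebra K L := (lift (L := L) K hg).toAlgebra
  letI : Algebra P L := ((algebraMap A L).comp g).toAlgebra
  haveI : IsScalarTower P K L := IsScalarTower.of_algebraMap_eq fun z => (lift_algebraMap K hg z).symm
  haveI : FiniteDimensional K L := hfd hg
  let S := separableClosure K L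
  have hWS : ∀ x, x ∈ W ↔ x ∈ S := fun x => Set.ext_iff.1 hW x
  by_contra hsep
  -- an element with `θ ^ p` separable and `θ` not
  obtain ⟨b, hb⟩ : ∃ b : A, algebraMap A L b ∉ S := by
    by_contra! h
    refine hsep ((separableClosure.eq_top_iff K L).1 (top_le_iff.1 fun x _ => ?_))
    obtain ⟨a, c, -, rfl⟩ := IsFractionRing.div_surjective (A := A) x
    exact div_mem (h a) (h c)
  have hex : ∃ n, algebraMap A L b ^ p ^ n ∈ S := by
    obtain ⟨n, y, hy⟩ := IsPurelyInseparable.pow_mem S p (algebraMap A L b)
    exact ⟨n, hy ▸ y.2⟩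
  obtain ⟨n, hn⟩ : ∃ n, Nat.find hex = n + 1 := Nat.exists_eq_succ_of_ne_zero fun h0 => hb (by
    simpa [h0] using Nat.find_spec hex)
  let θ : A := b ^ p ^ n
  have hθ : algebraMap A L θ ∉ S := by
    rw [map_pow]; exact Nat.find_min hex (by omega)
  have hθp : algebraMap A L (θ ^ p) ∈ S := by
    have := Nat.find_spec hex
    rwa [hn, pow_succ, pow_mul, ← map_pow, ← map_pow] at this
  -- the minimal polynomial
  set a := algebraMap A L (θ ^ p) with ha
  letI : Algebra P A := g.toAlgebra
  haveI : Module.Finite P A := hg.finite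
  have hint : IsIntegral P a := by
    haveI : IsScalarTower P A L := IsScalarTower.of_algebraMap_eq fun _ => rfl
    exact (Algebra.IsIntegral.isIntegral (R := P) (θ ^ p)).algebraMap
  let q := minpoly P a
  haveI : FaithfulSMul P L := (faithfulSMul_iff_algebraMap_injective _ _).mpr
    ((IsFractionRing.injective A L).comp hg.inj)
  obtain ⟨n₀, hn₀⟩ : ∃ n₀, ∀ H : P, H ^ p ≠ q.coeff n₀ := by
    by_contra! h
    choose r hr using h
    let q0 : P[X] := ∑ l ∈ Finset.range (q.natDegree + 1), monomial l (r l)
    have hq0c : ∀ l, q0.coeff l = if l ≤ q.natDegree then r l else 0 := fun l => by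
      simp [q0, finsetSum_coeff, coeff_monomial, Nat.lt_succ_iff]
    have hmap : q0.map (frobenius P p) = q := Polynomial.ext fun l => by
      rw [coeff_map, hq0c]
      split_ifs with hl
      · exact hr l
      · rw [map_zero, coeff_eq_zero_of_natDegree_lt (not_le.1 hl)]
    have hroot : q0.eval₂ (algebraMap P L) (algebraMap A L θ) = 0 := by
      have h1 : q.eval₂ (algebraMap P L) a = 0 := minpoly.aeval P a
      rw [← hmap, eval₂_map] at h1
      have h2 := Polynomial.hom_eval₂ q0 (algebraMap P L) (frobenius L p) (algebraMap A L θ)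
      rw [show (frobenius L p).comp (algebraMap P L) = (algebraMap P L).comp (frobenius P p) from RingHom.ext fun z => by
        simp [frobenius_def], show frobenius L p (algebraMap A L θ) = a by simp [frobenius_def, ha], h1] at h2
      exact (pow_eq_zero_iff (Fact.out : p.Prime).ne_zero).1 (by rwa [frobenius_def] at h2)
    have hq0m : q0.Monic := by
      refine monic_of_natDegree_le_of_coeff_eq_one q.natDegree (natDegree_le_iff_coeff_eq_zero.2 fun l hl => ?_) ?_
      · rw [hq0c, if_neg (not_le.2 hl)]
      · rw [hq0c, if_pos le_rfl]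
        refine frobenius_inj P p ?_
        rw [frobenius_def, hr, map_one, (minpoly.monic hint).coeff_natDegree]
    have hθint : IsIntegral K (algebraMap A L θ) := IsIntegral.of_finite K _
    have hle : IntermediateField.adjoin K {a} ≤ IntermediateField.adjoin K {algebraMap A L θ} := by
      rw [IntermediateField.adjoin_simple_le_iff, show a = algebraMap A L θ ^ p from map_pow _ θ p]
      exact pow_mem (IntermediateField.mem_adjoin_simple_self K _) p
    have heq : IntermediateField.adjoin K {a} = IntermediateField.adjoin K {algebraMap A L θ} := by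
      refine IntermediateField.eq_of_le_of_finrank_le hle ?_
      rw [IntermediateField.adjoin.finrank hθint, IntermediateField.adjoin.finrank (IsIntegral.of_finite K a),
        minpoly.isIntegrallyClosed_eq_field_fractions' K hint, natDegree_map_eq_of_injective (IsFractionRing.injective P K)]
      refine le_trans (natDegree_le_of_dvd (minpoly.dvd K _ (p := q0.map (algebraMap P K)) ?_) (hq0m.map _).ne_zero) ?_
      · rw [aeval_def, eval₂_map, ← IsScalarTower.algebraMap_eq]; exact hroot
      · refine natDegree_map_le.trans (natDegree_le_iff_coeff_eq_zero.2 fun l hl => ?_)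
        rw [hq0c, if_neg (not_le.2 hl)]
    refine hθ ?_
    have : IntermediateField.adjoin K {algebraMap A L θ} ≤ S := by
      rw [← heq, IntermediateField.adjoin_simple_le_iff]; exact hθp
    exact this (IntermediateField.mem_adjoin_simple_self K _)
  obtain ⟨f, hf, hfsep⟩ := exists_step p K hdim hg (θ := θ) (q := q) (minpoly.monic hint) (minpoly.aeval P a)
    (fun q' hq' hdeg h0 => by
      have := minpoly.IsIntegrallyClosed.degree_le_of_ne_zero (s := a) hq' h0
      exact absurd hdeg (not_lt.2 this))
    hn₀ (S : Set L) (fun z => by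
      rw [show algebraMap A L (g z) = algebraMap K L (algebraMap P K z) from (lift_algebraMap K hg z).symm]
      exact S.algebraMap_mem _)
    (fun x hx => by
      have hxs : IsSeparable K x := mem_separableClosure_iff.1 hx
      exact ⟨minpoly K x, minpoly.aeval K x, hxs.aeval_derivative_ne_zero (minpoly.aeval K x)⟩)
  have hsub : insert (algebraMap A L θ) (S : Set L) ⊆ Sep hf := fun x hx => by
    letI := (lift (L := L) K hf).toAlgebra
    exact mem_separableClosure_iff.2 (hfsep x hx)
  have hM₀S : ∀ m : M₀, (m : L) ∈ S := fun m => by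
    have h1 : (1 : L) ∈ W := (hWS 1).2 S.one_mem
    have := (hWS _).1 (W.smul_mem m h1)
    rwa [show (m • (1 : L)) = (m : L) from mul_one _] at this
  have hWle : ∃ W' : Submodule M₀ L, W' ∈ T ∧ W < W' := by
    letI algf : Algebra K L := (lift (L := L) K hf).toAlgebra
    refine ⟨{ carrier := Sep hf
              add_mem' := fun h h' => (separableClosure K L).add_mem h h'
              zero_mem' := (separableClosure K L).zero_mem
              smul_mem' := fun m x hx => (separableClosure K L).mul_mem (hsub (Set.mem_insert_of_mem _ (hM₀S m))) hx },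
      ⟨f, hf, rfl⟩, SetLike.lt_iff_le_and_exists.2 ⟨fun x hx => hsub (Set.mem_insert_of_mem _ ((hWS x).1 hx)),
        algebraMap A L θ, hsub (Set.mem_insert _ _), fun h => hθ ((hWS _).1 h)⟩⟩
  obtain ⟨W', hW'T, hlt⟩ := hWle
  exact hmax W' hW'T hlt

end Groth.Agent.RDPChain13.GenSep
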