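import Groth.Agent.S7337
import Groth.Agent.S7297
import Groth.Agent.S2654
import Groth.Agent.SerreDual.CMVanishing
import Groth.Agent.EulerLib.InvClass
import Groth.Agent.H0Growth23.Basic
import Groth.Agent.SerreDual.PushEquiv
import Groth.Agent.Coherent.ProjFormula
import Groth.Agent.Clifford24.SmoothFamily
import Groth.Agent.Coherent.ProperFinite
import Groth.Agent.CMType13.Extension
import Groth.Agent.CMType13.Omega

/-! Lengths on rational singularities over Nagata rings. -/

set_option autoImplicit false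
set_option backward.isDefEq.respectTransparency.types false
universe u
open CategoryTheory AlgebraicGeometry
open Resolve

namespace Groth.Agent.RDPChain13.Len

theorem maximalIdeal_ne_bot {A : Type u} [CommRing A] [IsLocalRing A] (hdim : ringKrullDim A = 2) :
    IsLocalRing.maximalIdeal A ≠ ⊥ := fun h => by
  have hfld : IsField A := IsLocalRing.isField_iff_maximalIdeal_eq.2 h
  rw [ringKrullDim_eq_zero_of_isField hfld] at hdim
  exact absurd hdim (by decide)

theorem eval_aeval_X {σ : Type*} (P : MvPolynomial σ ℚ) (x : ℚ) :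
    (MvPolynomial.aeval (fun _ => Polynomial.X) P : Polynomial ℚ).eval x = MvPolynomial.eval (fun _ => x) P := by
  induction P using MvPolynomial.induction_on with
  | C c => simp
  | add p q hp hq => simp [hp, hq]
  | mul_X p i hp => simp [hp]

theorem length_quot_zero (A : Type u) [CommRing A] [IsLocalRing A] :
    Module.length A (↥(IsLocalRing.maximalIdeal A ^ 0) ⧸ Submodule.comap (IsLocalRing.maximalIdeal A ^ 0).subtype
      (IsLocalRing.maximalIdeal A ^ (0 + 1))) = 1 := by
  have htop : IsLocalRing.maximalIdeal A ^ 0 = ⊤ := by simp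
  haveI : IsSimpleModule A (A ⧸ IsLocalRing.maximalIdeal A) :=
    isSimpleModule_iff_isCoatom.2 (IsLocalRing.maximalIdeal.isMaximal A).out
  rw [LinearEquiv.length_eq (Submodule.Quotient.equiv _ (IsLocalRing.maximalIdeal A) (LinearEquiv.ofTop _ htop) ?_)]
  · exact Module.length_eq_one_iff.2 inferInstance
  · ext x
    simp [Submodule.mem_map_equiv]

theorem quot_one_ne {A : Type u} [CommRing A] [IsLocalRing A] [IsNoetherianRing A] (hdim : ringKrullDim A = 2)
    (h : Module.length A (↥(IsLocalRing.maximalIdeal A ^ 1) ⧸ Submodule.comap (IsLocalRing.maximalIdeal A ^ 1).subtype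
      (IsLocalRing.maximalIdeal A ^ (1 + 1))) = 0) : False := by
  rw [Module.length_eq_zero_iff, Submodule.Quotient.subsingleton_iff, Submodule.comap_subtype_eq_top] at h
  refine maximalIdeal_ne_bot hdim (Submodule.eq_bot_of_le_smul_of_le_jacobson_bot (IsLocalRing.maximalIdeal A) _
    (IsNoetherian.noetherian _) ?_ (IsLocalRing.maximalIdeal_le_jacobson ⊥))
  simpa [pow_succ] using h

set_option maxHeartbeats 2000000 in
/-- Let (A, m, κ) be an excellent normal local domain of dimension two which is a rational singularity: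
H^1(X, O_X) = 0 for every proper morphism X → Spec A from an integral normal scheme which is an
isomorphism over a nonempty open. Then there is a natural number μ such that m^r/m^(r+1) has length
rμ + 1 over A (dimension rμ + 1 over κ) for every r ≥ 0. Taking r = 1 shows μ = dim_κ(m/m^2) - 1; μ
is the multiplicity of A. -/
theorem hilbert (A : Type u) [CommRing A] [IsDomain A]
    [IsLocalRing A] [IsNoetherianRing A] [IsIntegrallyClosed A] (hN : CAlg.IsNagata A) (hdim : ringKrullDim A = 2)
    (hA : Curv2.IsRationalSing A) :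
    ∃ μ : ℕ, ∀ r : ℕ, Module.length A (↥(IsLocalRing.maximalIdeal A ^ r) ⧸
        Submodule.comap (IsLocalRing.maximalIdeal A ^ r).subtype (IsLocalRing.maximalIdeal A ^ (r + 1))) =
      ((r * μ + 1 : ℕ) : ℕ∞) := by
  classical
  let m := IsLocalRing.maximalIdeal A
  let κ := IsLocalRing.ResidueField A
  let S := Spec (CommRingCat.of A)
  let J : S.IdealSheafData := Curv2.idealSheaf A m
  obtain ⟨X, b, hb⟩ := BlowUpLib.exists_isBlowUp J
  letI : X.Over (Spec (CommRingCat.of A)) := ⟨b⟩
  let f : X ⟶ S := X ↘ Spec (CommRingCat.of A)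
  have hft : BlowUp.IsFiniteTypeIdeal J := fun U => by
    haveI : IsNoetherianRing Γ(S, U.1) := IsLocallyNoetherian.component_noetherian U
    exact IsNoetherian.noetherian _
  haveI : IsProper f := BlowUpLib.isProper_of_isBlowUp hb hft
  haveI : IsLocallyNoetherian X := LocallyOfFiniteType.isLocallyNoetherian f
  let I := BlowUp.exceptional f J
  let T : S.affineOpens := ⟨⊤, isAffineOpen_top _⟩
  let iso := (Scheme.ΓSpecIso (CommRingCat.of A)).inv.hom
  have hJT : J.ideal T = m.map iso := by
    show (m.map iso).map ((Spec (CommRingCat.of A)).presheaf.map (homOfLE le_top).op).hom = _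
    rw [show (homOfLE (le_top : (⊤ : (Spec (CommRingCat.of A)).Opens) ≤ ⊤)).op = 𝟙 _ from rfl,
      CategoryTheory.Functor.map_id]
    exact Ideal.map_id _
  have hne : J ≠ ⊥ := fun h => by
    have h1 : m.map iso = ⊥ := by rw [← hJT, h]; rfl
    rw [Ideal.map_eq_bot_iff_of_injective
      (ConcreteCategory.bijective_of_isIso (Scheme.ΓSpecIso (CommRingCat.of A)).inv).1] at h1
    exact maximalIdeal_ne_bot hdim h1
  have hη : genericPoint S ∈ J.support.compl := Resolve13.genericPoint_notMem_support J hne
  have hI : BlowUp.IsEffCartierIdeal I := hb.1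
  have h37 := fun n => Groth.Agent.S7337.result A hN hdim hA X hb n
  obtain ⟨-, hdimE, -, -⟩ := h37 0
  -- the exceptional divisor over the residue field
  let φ : A →+* κ := IsLocalRing.residue A
  have hfac : (Spec.map (CommRingCat.ofHom φ)).ker ≤ (I.subschemeι ≫ f).ker := by
    rw [FSchLib.ker_specMap]
    refine le_trans (le_of_eq ?_) ((Scheme.IdealSheafData.le_map_iff_comap_le (J := J)).2 le_rfl)
    exact Scheme.IdealSheafData.ext_of_isAffine
      (((FSchLib.idealSpec_ideal_top A _).trans (congrArg _ IsLocalRing.ker_residue)).trans hJT.symm)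
  haveI : IsClosedImmersion (Spec.map (CommRingCat.ofHom φ)) :=
    IsClosedImmersion.spec_of_surjective _ IsLocalRing.residue_surjective
  let s : I.subscheme ⟶ Spec (CommRingCat.of κ) :=
    IsClosedImmersion.lift (Spec.map (CommRingCat.ofHom φ)) (I.subschemeι ≫ f) hfac
  have hs : s ≫ Spec.map (CommRingCat.ofHom φ) = I.subschemeι ≫ f := IsClosedImmersion.lift_fac _ _ _
  haveI : IsProper (s ≫ Spec.map (CommRingCat.ofHom φ)) := hs ▸ inferInstance
  haveI hsP : IsProper s := IsProper.of_comp s (Spec.map (CommRingCat.ofHom φ))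
  letI : I.subscheme.Over (Spec (CommRingCat.of κ)) := ⟨s⟩
  letI : I.subscheme.Over (Spec (CommRingCat.of A)) := ⟨I.subschemeι ≫ f⟩
  haveI : IsProper (I.subscheme ↘ Spec (CommRingCat.of κ)) := hsP
  haveI : IsLocallyNoetherian I.subscheme := LocallyOfFiniteType.isLocallyNoetherian I.subschemeι
  have hglob : ∀ a : A, Coh.toGlobal (I.subschemeι ≫ f) a = Coh.toGlobal s (φ a) := by
    intro a
    rw [← hs]
    show (s ≫ Spec.map (CommRingCat.ofHom φ)).appTop ((Scheme.ΓSpecIso (CommRingCat.of A)).inv a) =
      s.appTop ((Scheme.ΓSpecIso (CommRingCat.of κ)).inv (φ a))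
    rw [Scheme.Hom.comp_appTop, ConcreteCategory.comp_apply]
    exact congrArg s.appTop (ConcreteCategory.congr_hom (Scheme.ΓSpecIso_inv_naturality (CommRingCat.ofHom φ)) a).symm
  have hlenA : ∀ (G : I.subscheme.Modules) (q : ℕ),
      Module.length A (Coh.HH I.subscheme G q) = Module.length κ (Coh.HH I.subscheme G q) := fun G q =>
    haveI : IsScalarTower A κ (Coh.HH I.subscheme G q) := IsScalarTower.of_algebraMap_smul fun a x => by
      show Coh.toGlobal s (φ a) • x = Coh.toGlobal (I.subschemeι ≫ f) a • x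
      rw [hglob]
    Module.length_eq_of_surjective IsLocalRing.residue_surjective
  let M := ClSub.idealMod I
  have hM : PicF.IsInvertible M := FlatMor12.IdealModGen.isInvertible_idealMod I hI
  let ME := (Scheme.Modules.pullback I.subschemeι).obj M
  have hME : PicF.IsInvertible ME := PicLoc.isInvertible_pullback I.subschemeι hM
  let O := Coh.structureModule I.subscheme
  have hO : Coh.IsCoh O := Coherent.isCoh_structureModule _
  have hbir : ∃ U : S.Opens, (U : Set S).Nonempty ∧ IsIso (f ∣_ U) := ⟨J.support.compl, ⟨_, hη⟩, SDiv28.isIso_off_center hb⟩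
  haveI : IsIntegral X := Resolve13.isIntegral_blowUp hb hη
  have hXn := Groth.Agent.S1650.result A hN hdim hA X f hb
  -- cohomology of the twists of the divisor
  let G : ℕ → I.subscheme.Modules := fun r => CohB1.tensorMod O (CohB1.tensorPow ME r)
  have hG : ∀ r q, Nonempty (Coh.HH X (CohB1.tensorMod (CohB1.tensorPow M r) (ClSub.quotMod I)) q ≃ₗ[A]
      Coh.HH I.subscheme (G r) q) := by
    intro r q
    have hP : PicF.IsInvertible (CohB1.tensorPow M r) := AmpleLib.isInvertible_tensorPow hM r
    haveI := Coherent.isIso_projHom (f := I.subschemeι) (SerreDual.isFinLocFree_of_invertible hP) O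
    obtain ⟨e⟩ := Clifford24.nonempty_pullback_tensorPow I.subschemeι M r
    let e' : CohB1.tensorMod (CohB1.tensorPow M r) (ClSub.quotMod I) ≅ (Coh.push I.subschemeι).obj (G r) :=
      (asIso (Coherent.projHom I.subschemeι (CohB1.tensorPow M r) O)) ≪≫
        (Scheme.Modules.pushforward I.subschemeι).mapIso (AmpleLib.tensorComm _ _ ≪≫ AmpleLib.tensorIso (Iso.refl O) e)
    haveI : Coh.IsQCoh (G r) := (EulerLib.isCoh_twist (AmpleLib.isInvertible_tensorPow hME r) hO).1
    exact ⟨(Coherent.HHCongr A e' q).trans (SerreDual.hpushA I.subschemeι A rfl (G r) q).symm⟩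
  -- the values
  let F : ℕ → ℕ∞ := fun r => Module.length A (↥(m ^ r) ⧸ Submodule.comap (m ^ r).subtype (m ^ (r + 1)))
  have hvan : ∀ r q, 0 < q → Subsingleton (Coh.HH I.subscheme (G r) q) := by
    intro r q hq
    obtain ⟨e⟩ := hG r q
    rcases Nat.lt_or_ge q 2 with h | h
    · obtain rfl : q = 1 := by omega
      haveI := (h37 r).2.2.1
      exact e.symm.toEquiv.subsingleton
    · haveI : Coh.IsQCoh (CohB1.tensorMod (CohB1.tensorPow M r) (ClSub.quotMod I)) := by
        haveI : Coh.IsQCoh O := hO.1
        haveI : Coh.IsQCoh (ClSub.quotMod I) := Coherent.isQCoh_push I.subschemeι O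
        haveI : Coh.IsQCoh (CohB1.tensorPow M r) := AmpleLib.isQCoh_of_isInvertible (AmpleLib.isInvertible_tensorPow hM r)
        exact Coherent.isQCoh_tensorMod _ _
      haveI := Groth.Agent.S7297.result A hN hdim hA X f hXn hbir _ this q h
      exact e.symm.toEquiv.subsingleton
  have hval : ∀ r, ∃ h : ℕ, F r = h ∧ Curv2.euler κ I.subscheme (G r) = h := by
    intro r
    haveI : Module.Finite κ (Coh.HH I.subscheme (G r) 0) :=
      (Coherent.finite_HH_iff κ (G r) 0).2 (Coherent.finCoh_of_isProper (I.subscheme ↘ Spec (CommRingCat.of κ)) (G r)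
        (EulerLib.isCoh_twist (AmpleLib.isInvertible_tensorPow hME r) hO) 0)
    refine ⟨Module.finrank κ (Coh.HH I.subscheme (G r) 0), ?_, ?_⟩
    · obtain ⟨e⟩ := hG r 0
      show Module.length A _ = _
      rw [← (h37 r).2.2.2, e.length_eq, hlenA, Module.length_eq_finrank]
    · rw [EulerLib.euler_eq_sum κ I.subscheme _ 0 fun q hq => hvan r q hq]
      simp
  choose h hF he using hval
  obtain ⟨P, hPdeg, hP⟩ := EulerLib.snapper κ hO (r := 1)
    (le_trans Topology.IsInducing.subtypeVal.topologicalKrullDim_le hdimE.le) (fun _ : Fin 1 => EulerLib.InvCl.mk ME hME)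
  let Q : Polynomial ℚ := MvPolynomial.aeval (fun _ => Polynomial.X) P
  have hQdeg : Q.natDegree ≤ 1 := (H0Growth23.natDegree_aeval_X_le P).trans hPdeg
  have hQ : ∀ r : ℕ, (h r : ℚ) = Q.eval (r : ℚ) := fun r => by
    have h1 := hP fun _ => r
    rw [Fin.prod_univ_one, ← EulerLib.InvCl.mk_tensorPow hME r, EulerLib.chiCl_mk] at h1
    rw [show ((h r : ℕ) : ℚ) = ((Curv2.euler κ I.subscheme (G r) : ℤ) : ℚ) from by rw [he r]; simp, h1,
      eval_aeval_X]
  have h0 : h 0 = 1 := by
    have : F 0 = 1 := length_quot_zero A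
    rw [hF] at this
    exact_mod_cast this
  have h1 : 1 ≤ h 1 := by
    by_contra hc
    have hF1 : F 1 = 0 := by rw [hF, show h 1 = 0 by omega]; rfl
    exact quot_one_ne hdim hF1
  refine ⟨h 1 - 1, fun r => ?_⟩
  show F r = _
  rw [hF]
  refine congrArg _ ?_
  have hlin : ∀ x : ℚ, Q.eval x = Q.coeff 1 * x + Q.coeff 0 := fun x => by
    conv_lhs => rw [Polynomial.eq_X_add_C_of_natDegree_le_one hQdeg]
    simp
  have e0 := hQ 0
  have e1 := hQ 1
  have er := hQ r
  rw [hlin, h0] at e0
  rw [hlin] at e1 er
  simp at e0 e1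
  have : ((h r : ℕ) : ℚ) = ((r * (h 1 - 1) + 1 : ℕ) : ℚ) := by
    push_cast [Nat.cast_sub h1]
    rw [er, e1, ← e0]
    ring
  exact_mod_cast this





open IsLocalRing in
theorem length_cotangent_eq (A : Type u) [CommRing A] [IsLocalRing A] :
    Module.length A (↥(maximalIdeal A ^ 1) ⧸ Submodule.comap (maximalIdeal A ^ 1).subtype (maximalIdeal A ^ (1 + 1))) =
      Module.length A (CotangentSpace A) := by
  refine LinearEquiv.length_eq (Submodule.Quotient.equiv _ _ (LinearEquiv.ofEq _ _ (pow_one (maximalIdeal A))) ?_)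
  ext x
  rw [Submodule.mem_map_equiv, Submodule.mem_comap, Submodule.mem_smul_top_iff, smul_eq_mul, ← pow_two]
  rfl

open IsLocalRing in
theorem exists_pair_and_mu (A : Type u) [CommRing A] [IsDomain A]
    [IsLocalRing A] [IsNoetherianRing A] [IsIntegrallyClosed A] (hdim : ringKrullDim A = 2)
    (hnr : ¬ IsRegularLocalRing A) {μ : ℕ} (hμ : Module.length A (CotangentSpace A) = ((μ + 1 : ℕ) : ℕ∞)) :
    2 ≤ μ ∧ ∃ x y : A, CMType13.IsPair x y := by
  constructor
  · by_contra hlt
    refine hnr (IsRegularLocalRing.of_spanFinrank_maximalIdeal_le A ?_)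
    rw [spanFinrank_maximalIdeal_eq_finrank_cotangentSpace, hdim]
    rw [Module.length_eq_of_surjective (R := ResidueField A) residue_surjective, Module.length_eq_finrank] at hμ
    rw [show Module.finrank (ResidueField A) (CotangentSpace A) = μ + 1 by exact_mod_cast hμ]
    exact_mod_cast (show μ + 1 ≤ 2 by omega)
  · obtain ⟨x, hx, hx0⟩ := Submodule.exists_mem_ne_zero_of_ne_bot (maximalIdeal_ne_bot hdim)
    obtain ⟨z, hz, -⟩ := CMType13.exists_isPair hdim hx hx0 hx hx0
    exact ⟨x, z, hz⟩

/-- Let (A, m, κ) be an excellent normal local domain of dimension two which is a rational singularity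
(H^1(X, O_X) = 0 for every proper morphism X → Spec A from an integral normal scheme which is an
isomorphism over a nonempty open) and which is not regular, and let ω be a dualizing module for A (ω
in degree zero is a dualizing complex). Then dim_κ(ω/mω) = μ - 1, where μ + 1 = dim_κ(m/m^2); stated
as length_A(ω/mω) + 2 = length_A(m/m^2). -/
theorem length_dualizing (A : Type u) [CommRing A] [IsDomain A]
    [IsLocalRing A] [IsNoetherianRing A] [IsIntegrallyClosed A] (hN : CAlg.IsNagata A) (hdim : ringKrullDim A = 2)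
    (hA : Curv2.IsRationalSing A) (hnr : ¬ IsRegularLocalRing A)
    (ω : Type u) [AddCommGroup ω] [Module A ω] (hω : Dual.IsDualizing A (Dual.inD A ω)) :
    Module.length A (ω ⧸ (IsLocalRing.maximalIdeal A • (⊤ : Submodule A ω))) + 2 =
      Module.length A (IsLocalRing.CotangentSpace A) := by
  obtain ⟨μ, hH⟩ := hilbert A hN hdim hA
  have hc := hH 1
  rw [length_cotangent_eq, one_mul] at hc
  obtain ⟨hμ, x, y, hxy⟩ := exists_pair_and_mu A hdim hnr hc
  rw [CMType13.length_quot_maximalIdeal hdim ω hω hxy, CMType13.length_soc_pair A hdim hμ hH hxy, hc]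
  exact_mod_cast (show μ - 1 + 2 = μ + 1 by omega)

end Groth.Agent.RDPChain13.Len
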