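import Groth.Agent.RDPChain13.DescendResolution
import Groth.Agent.S1632
import Groth.Agent.S9690
import Groth.Agent.Resolve13.NormFinite
import Groth.Agent.BMLib.NormBirat
import Groth.Agent.NormalizationLib.Basic
import Groth.Agent.EGA43.FlatDescent.SchemeOpen
import Groth.Agent.EGA43.BranchCount.DimOne
import Groth.Agent.CurvesLib24.Basic
import Groth.Agent.AlgSpLib.DimBasic
import Groth.Agent.Props12.Stalks

/-! Resolution of surfaces and the normalization. -/

set_option autoImplicit false
set_option backward.isDefEq.respectTransparency.types false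
set_option linter.style.haveILetI false

universe u

open CategoryTheory CategoryTheory.Limits AlgebraicGeometry TopologicalSpace IsLocalRing

namespace Groth.Agent.RDPChain13

variable {X N : Scheme.{u}}

/-- A point of dimension two is closed when all dimensions are at most two. -/
theorem isClosed_of_dim_two [IsIntegral N] [AlgebraicGeometry.IsNoetherian N] (hd : ∀ y : N, ringKrullDim (N.presheaf.stalk y) ≤ 2) {y : N}
    (hy : ¬ ringKrullDim (N.presheaf.stalk y) ≤ 1) :
    IsClosed ({y} : Set N) ∧ ringKrullDim (N.presheaf.stalk y) = 2 := by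
  have heq : ringKrullDim (N.presheaf.stalk y) = 2 := by
    obtain ⟨d, hd'⟩ := CAlgH3.exists_nat_eq_of_le_spanFinrank
      (ringKrullDim_le_spanFinrank_maximalIdeal (R := N.presheaf.stalk y))
    have h1 := hd y
    rw [hd'] at h1 hy ⊢
    have : d ≤ 2 := by exact_mod_cast h1
    have : ¬ d ≤ 1 := fun h => hy (by exact_mod_cast h)
    exact_mod_cast (by omega : d = 2)
  refine ⟨?_, heq⟩
  obtain ⟨z, hz, hzc⟩ := (isClosed_closure (s := ({y} : Set N))).exists_closed_singleton (closure_nonempty_iff.2 ⟨y, rfl⟩)
  suffices y = z by rw [this]; exact hzc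
  by_contra hne
  have hsp : y ⤳ z := specializes_iff_mem_closure.2 hz
  obtain ⟨W, hW, hzW, -⟩ := exists_isAffineOpen_mem_and_subset (x := z) (U := (⊤ : N.Opens)) trivial
  have hyW : y ∈ W := hsp.mem_open W.2 hzW
  haveI : IsNoetherianRing Γ(N, W) := IsLocallyNoetherian.component_noetherian ⟨W, hW⟩
  have h1 := Ideal.height_add_one_le_of_lt_of_isPrime (Resolve13.Modification.primeIdealOf_lt hW hyW hzW hsp hne)
  have hst : ∀ (w : N) (hw : w ∈ W), ringKrullDim (N.presheaf.stalk w) =
      ((hW.primeIdealOf ⟨w, hw⟩).asIdeal.height : WithBot ℕ∞) := fun w hw => by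
    have := hW.isLocalization_stalk ⟨w, hw⟩
    let := N.presheaf.algebra_section_stalk (⟨w, hw⟩ : W)
    exact IsLocalization.AtPrime.ringKrullDim_eq_height _ (N.presheaf.stalk (⟨w, hw⟩ : W).1)
  have h2 := hd z
  rw [hst y hyW] at heq
  rw [hst z hzW] at h2
  have h3 : (hW.primeIdealOf ⟨y, hyW⟩).asIdeal.height = 2 := WithBot.coe_inj.1 (heq.trans rfl)
  rw [h3] at h1
  exact absurd (h1.trans (WithBot.coe_le_coe.1 h2)) (by decide)

/-- A normal surface with finitely many singular points, all with normal completion, has a projective resolution. -/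
theorem exists_resolution_of_cpl (N : Scheme.{u}) [IsIntegral N] [AlgebraicGeometry.IsNoetherian N] (hn : Pi1.IsNormalScheme N)
    (hd : ∀ y : N, ringKrullDim (N.presheaf.stalk y) ≤ 2)
    (hfin : {y : N | ¬ IsRegularLocalRing (N.presheaf.stalk y)}.Finite)
    (hc : ∀ y : N, ¬ IsRegularLocalRing (N.presheaf.stalk y) →
      IsDomain (Curv2.cpl (N.presheaf.stalk y)) ∧ IsIntegrallyClosed (Curv2.cpl (N.presheaf.stalk y))) :
    ∃ (X : Scheme.{u}) (h : X ⟶ N), IsIntegral X ∧ RelProj.IsProjective h ∧
      (∃ V : N.Opens, (V : Set N).Nonempty ∧ IsIso (h ∣_ V)) ∧ ∀ w : X, IsRegularLocalRing (X.presheaf.stalk w) := by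
  classical
  have hdim : ∀ y : N, ¬ IsRegularLocalRing (N.presheaf.stalk y) → ¬ ringKrullDim (N.presheaf.stalk y) ≤ 1 :=
    fun y hy h => hy (by
      haveI := (hn y).1; haveI := (hn y).2
      exact CAlgH3.isRegularLocalRing_of_normal_dim_le_one h)
  have hmem : ∀ y, y ∈ hfin.toFinset ↔ ¬ IsRegularLocalRing (N.presheaf.stalk y) := fun y => hfin.mem_toFinset
  have hs : ∀ y ∈ hfin.toFinset, IsClosed ({y} : Set N) := fun y hy =>
    (isClosed_of_dim_two hd (hdim y ((hmem y).1 hy))).1
  obtain ⟨X, h, hh⟩ := resolve_finset _ N hfin.toFinset hs rfl fun y hy => by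
    have hy' := (hmem y).1 hy
    haveI := (hc y hy').1
    haveI := (hc y hy').2
    exact ⟨N.presheaf.stalk y, inferInstance,
      resolvable_of_cpl _ (isClosed_of_dim_two hd (hdim y hy')).2, ⟨RingEquiv.refl _⟩⟩
  haveI := hh.iso
  let V : N.Opens := ⟨(hfin.toFinset : Set N)ᶜ, (isClosed_finset _ hs).isOpen_compl⟩
  refine ⟨X, h, hh.int, hh.proj, ⟨V, ⟨genericPoint N, fun hg => (hmem _).1 hg ?_⟩, hh.iso⟩, fun w => ?_⟩
  · haveI : IsRegularLocalRing (N.presheaf.stalk (genericPoint N)) := inferInstanceAs (IsRegularLocalRing N.functionField)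
    infer_instance
  · by_cases hw : h w ∈ V
    · haveI := isIso_stalkMap h V w hw
      haveI : IsRegularLocalRing (N.presheaf.stalk (h w)) := not_not.1 fun hns => hw ((hmem _).2 hns)
      exact isRegular_stalk_iff_of_isIso h w
    · exact hh.reg w hw

/-- An alteration is flat over normal points of dimension at most one. -/
theorem flat_stalkMap_of_dim_le_one [IsIntegral X] [IsIntegral N] [IsLocallyNoetherian N] (h : X ⟶ N)
    (hξ : h (genericPoint X) = genericPoint N) (x : X) (hn : IsIntegrallyClosed (N.presheaf.stalk (h x)))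
    (hd : ringKrullDim (N.presheaf.stalk (h x)) ≤ 1) : (h.stalkMap x).hom.Flat := by
  let O := N.presheaf.stalk (h x)
  haveI := hn
  haveI : IsRegularLocalRing O := CAlgH3.isRegularLocalRing_of_normal_dim_le_one hd
  have hinj : Function.Injective (h.stalkMap x).hom := by
    intro a b hab
    have hs : genericPoint X ⤳ x := genericPoint_specializes x
    have h1 := congrArg (fun f => f.hom a) (Scheme.Hom.stalkSpecializes_stalkMap h _ _ hs)
    have h2 := congrArg (fun f => f.hom b) (Scheme.Hom.stalkSpecializes_stalkMap h _ _ hs)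
    simp only [CommRingCat.hom_comp, RingHom.comp_apply] at h1 h2
    rw [hab] at h1
    have h3 := h1.trans h2.symm
    have hfield : IsField (N.presheaf.stalk (h (genericPoint X))) := by
      rw [hξ]; exact Field.toIsField N.functionField
    letI := hfield.toField
    have key : ∀ (w y : N) (_ : w = genericPoint N) (s : w ⤳ y),
        Function.Injective (N.presheaf.stalkSpecializes s).hom := by
      rintro w y rfl s
      exact IsFractionRing.injective (N.presheaf.stalk y) N.functionField
    exact key _ _ hξ (hs.map h.continuous) ((h.stalkMap (genericPoint X)).hom.injective h3)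
  haveI : IsPrincipalIdealRing O := by
    refine ((tfae_of_isNoetherianRing_of_isLocalRing_of_isDomain O).out 4 0).1 ?_
    obtain ⟨s, hs, hspan⟩ := Submodule.FG.exists_span_finset_card_eq_spanFinrank (IsNoetherian.noetherian (maximalIdeal O))
    have h1 : s.card ≤ 1 := by
      have := (IsRegularLocalRing.spanFinrank_maximalIdeal (R := O)).le.trans hd
      rw [← hs] at this
      exact_mod_cast this
    rcases Finset.card_le_one_iff_subset_singleton.1 h1 with ⟨a, ha⟩
    rcases Finset.subset_singleton_iff.1 ha with rfl | rfl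
    · exact ⟨0, by rw [← hspan]; simp⟩
    · exact ⟨a, by rw [← hspan]; simp⟩
  letI := (h.stalkMap x).hom.toAlgebra
  show Module.Flat O (X.presheaf.stalk x)
  rw [Module.Flat.flat_iff_torsion_eq_bot_of_isBezout, eq_bot_iff]
  intro v hv
  obtain ⟨⟨a, ha⟩, hav⟩ := (Submodule.mem_torsion_iff v).1 hv
  change (h.stalkMap x).hom a * v = 0 at hav
  refine (mul_eq_zero.1 hav).resolve_left fun h0 => nonZeroDivisors.ne_zero ha (hinj (h0.trans (map_zero _).symm))

set_option maxHeartbeats 1000000 in
/-- A regular alteration of a normal surface: finitely many singular points. -/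
theorem finite_singular_of_alteration [IsIntegral X] [IsIntegral N] [AlgebraicGeometry.IsNoetherian N]
    (hn : Pi1.IsNormalScheme N) (hd : ∀ y : N, ringKrullDim (N.presheaf.stalk y) ≤ 2) (h : X ⟶ N) [IsProper h]
    [Surjective h] (hξ : h (genericPoint X) = genericPoint N) (hreg : ∀ x : X, IsRegularLocalRing (X.presheaf.stalk x)) :
    {y : N | ¬ IsRegularLocalRing (N.presheaf.stalk y)}.Finite := by
  haveI : LocallyOfFinitePresentation h := inferInstance
  let F : X.Opens := ⟨{x | (h.stalkMap x).hom.Flat}, EGA43.FlatDescent.isOpen_flat_stalkMap h⟩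
  haveI : Flat (F.ι ≫ h) := by
    refine (Flat.iff_flat_stalkMap _).2 fun x => ?_
    rw [Scheme.Hom.stalkMap_comp]
    exact RingHom.Flat.comp (show (h.stalkMap (F.ι x)).hom.Flat from x.2)
      (RingHom.Flat.of_bijective (ConcreteCategory.bijective_of_isIso (F.ι.stalkMap x)))
  have hopen : IsOpen (Set.range (F.ι ≫ h)) := by
    haveI : UniversallyOpen (F.ι ≫ h) := inferInstance
    exact (F.ι ≫ h).isOpenMap.isOpen_range
  have hZfin : ((Set.range (F.ι ≫ h))ᶜ : Set N).Finite := by
    refine VarietyLib.finite_of_forall_isClosed hopen.isClosed_compl fun y hy => ?_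
    refine (isClosed_of_dim_two hd fun hle => hy ?_).1
    obtain ⟨x, rfl⟩ := h.surjective y
    have hx : x ∈ F := flat_stalkMap_of_dim_le_one h hξ x (hn (h x)).2 hle
    exact ⟨⟨x, hx⟩, Scheme.Hom.comp_apply _ _ _⟩
  refine hZfin.subset fun y hy => ?_
  rintro ⟨⟨x, hx⟩, rfl⟩
  refine hy ?_
  rw [Scheme.Hom.comp_apply]
  change IsRegularLocalRing (N.presheaf.stalk (h x))
  letI := (h.stalkMap x).hom.toAlgebra
  haveI : Module.Flat (N.presheaf.stalk (h x)) (X.presheaf.stalk x) := hx
  haveI : IsLocalHom (algebraMap (N.presheaf.stalk (h x)) (X.presheaf.stalk x)) :=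
    inferInstanceAs (IsLocalHom (h.stalkMap x).hom)
  haveI := hreg x
  exact CAlgH3.isRegularLocalRing_of_flat (X.presheaf.stalk x)

set_option maxHeartbeats 1000000 in
/-- The completion at a point of a normal scheme with a regular alteration is a normal domain. -/
theorem cpl_normal_of_alteration [IsIntegral X] [IsIntegral N] [AlgebraicGeometry.IsNoetherian N]
    (hn : Pi1.IsNormalScheme N) (h : X ⟶ N) (hh : Curv2.IsAlteration h)
    (hreg : ∀ x : X, IsRegularLocalRing (X.presheaf.stalk x)) (y : N) :
    IsDomain (Curv2.cpl (N.presheaf.stalk y)) ∧ IsIntegrallyClosed (Curv2.cpl (N.presheaf.stalk y)) := by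
  obtain ⟨hp, -, -, hdom, V, hV, hVfin⟩ := hh
  haveI := hp; haveI := hdom; haveI := hVfin
  let A := N.presheaf.stalk y
  haveI : IsDomain A := (hn y).1
  haveI : IsIntegrallyClosed A := (hn y).2
  have hξ : h (genericPoint X) = genericPoint N := by
    have h := (genericPoint_spec X).image h.continuous
    rw [Set.image_univ, (IsDominant.denseRange (f := _)).closure_range] at h
    exact h.eq (genericPoint_spec N)
  obtain ⟨hPi, hPη⟩ := Resolve13.LocalBase.isIntegral h y hξ
  haveI := hPi
  let f : pullback h (N.fromSpecStalk y) ⟶ Spec A := pullback.snd h (N.fromSpecStalk y)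
  haveI : IsProper f := MorphismProperty.pullback_snd _ _ inferInstance
  have hfreg : ∀ z, IsRegularLocalRing ((pullback h (N.fromSpecStalk y)).presheaf.stalk z) := fun z => by
    haveI := Props12.isIso_stalkMap_fst h y z
    haveI := hreg (pullback.fst h (N.fromSpecStalk y) z)
    exact IsRegularLocalRing.of_ringEquiv
      (asIso ((pullback.fst h (N.fromSpecStalk y)).stalkMap z)).commRingCatIsoToRingEquiv
  have hf : Curv2.IsAlteration f := by
    have hVη : genericPoint N ∈ V := ((genericPoint_spec N).mem_open_set_iff V.2).2 (by simpa using hV)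
    obtain ⟨η, hη⟩ : genericPoint N ∈ Set.range (N.fromSpecStalk y) := by
      rw [Scheme.range_fromSpecStalk]; exact genericPoint_specializes y
    let W : (Spec A).Opens := N.fromSpecStalk y ⁻¹ᵁ V
    have hWne : (W : Set (Spec A)).Nonempty := ⟨η, show N.fromSpecStalk y η ∈ V from hη.symm ▸ hVη⟩
    refine ⟨inferInstance, inferInstance, inferInstance, ?_, W, hWne, ?_⟩
    · haveI : Surjective h := ⟨fun z => by
        have := (IsDominant.denseRange (f := h)).closure_range
        rw [h.isClosedMap.isClosed_range.closure_eq] at this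
        exact this.ge (Set.mem_univ z)⟩
      haveI : Surjective f := MorphismProperty.pullback_snd _ _ inferInstance
      exact ⟨Surjective.surj.denseRange⟩
    · have s1 : IsPullback (f ∣_ W) (f ⁻¹ᵁ W).ι W.ι f := isPullback_morphismRestrict f W
      have s2 : IsPullback f (pullback.fst h (N.fromSpecStalk y)) (N.fromSpecStalk y) h :=
        (IsPullback.of_hasPullback h (N.fromSpecStalk y)).flip
      have s3 := s1.paste_vert s2
      rw [show W.ι ≫ N.fromSpecStalk y = (N.fromSpecStalk y ∣_ V) ≫ V.ι from (morphismRestrict_ι _ _).symm] at s3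
      obtain ⟨k, hk1, hk2⟩ : ∃ k, k ≫ (h ∣_ V) = (f ∣_ W) ≫ (N.fromSpecStalk y ∣_ V) ∧
          k ≫ (h ⁻¹ᵁ V).ι = (f ⁻¹ᵁ W).ι ≫ pullback.fst h (N.fromSpecStalk y) :=
        ⟨(isPullback_morphismRestrict h V).lift _ _ (by rw [Category.assoc]; exact s3.w),
          (isPullback_morphismRestrict h V).lift_fst _ _ _, (isPullback_morphismRestrict h V).lift_snd _ _ _⟩
      rw [← hk2] at s3
      exact MorphismProperty.of_isPullback (P := @IsFinite) (IsPullback.of_bot (h₂₁ := h ∣_ V) (v₁₂ := N.fromSpecStalk y ∣_ V) (v₂₁ := (h ⁻¹ᵁ V).ι) (v₂₂ := V.ι) (v₁₁ := k) s3 hk1.symm (isPullback_morphismRestrict h V)).flip hVfin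
  have hC := S1632.result A (pullback h (N.fromSpecStalk y)) f hf hfreg
  let B := integralClosure A (FractionRing A)
  have hbij : Function.Bijective (algebraMap A B) := by
    refine ⟨fun a b e => IsFractionRing.injective A (FractionRing A) (congrArg Subtype.val e), fun b => ?_⟩
    obtain ⟨a, ha⟩ := IsIntegrallyClosed.isIntegral_iff.1 b.2
    exact ⟨a, Subtype.ext ha⟩
  let e : A ≃+* B := RingEquiv.ofBijective (algebraMap A B) hbij
  haveI : IsLocalRing B := e.isLocalRing
  have hmap : (maximalIdeal A).map (algebraMap A B) = maximalIdeal B := by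
    show Ideal.map (e : A →+* B) _ = _
    rw [Ideal.map_comap_of_equiv]
    ext z
    simp [IsLocalRing.mem_maximalIdeal, mem_nonunits_iff]
  haveI : IsLocalHom (algebraMap A B) := ⟨fun a ha => by simpa using ha.map e.symm⟩
  haveI : Module.Flat A B := Module.Flat.of_linearEquiv (AlgEquiv.ofBijective (Algebra.ofId A B) hbij).toLinearEquiv.symm
  haveI : Module.FaithfullyFlat A B := Module.FaithfullyFlat.of_flat_of_isLocalHom
  obtain ⟨E⟩ := EGA43.BranchCount.exists_completion_equiv (R := A) (T := B) hmap fun z => by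
    obtain ⟨r, rfl⟩ := hbij.2 z
    exact ⟨r, by simp⟩
  rw [hmap] at hC
  exact CommAlg6.NormalTensor.isDomain_of_local (CommAlg6.isNormalRing_of_ringEquiv E.symm hC)

end Groth.Agent.RDPChain13
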