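import Groth.Agent.Models7.QuadChain
import Groth.Agent.ValTate.Finite
import Mathlib.RingTheory.KrullDimension.Polynomial

/-! Along a chain of point blow-ups every element or its inverse is eventually defined. -/

set_option autoImplicit false
set_option linter.style.haveILetI false
set_option maxHeartbeats 1000000

universe u

open IsLocalRing Polynomial

namespace Groth.Agent.RDPChain13

open Models7

variable {K : Type u} [Field K]

/-- There is no infinite chain of quadratic transforms at which an element is not defined. -/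
theorem exists_mem_chain (A : ℕ → Subring K) [∀ n, IsLocalRing (A n)]
    (hclosed : ∀ n (y : K), IsIntegral (A n) y → y ∈ A n)
    [IsNoetherianRing (A 0)] (hmono : Monotone A) (hloc : ∀ n, mSet (A n) ⊆ mSet (A (n + 1)))
    (hg : ∀ n, ∃ g ∈ mSet (A (n + 1)), ∀ x ∈ mSet (A n), ∃ y ∈ A (n + 1), x = g * y)
    (hfrac : ∀ x : K, ∃ p ∈ A 0, ∃ q ∈ A 0, q ≠ 0 ∧ x = p / q)
    (h2 : ringKrullDim (A 0) ≤ 2) (z : K) :
    ∃ n, z ∈ A n ∨ z⁻¹ ∈ A n := by
  classical
  by_contra hcon
  push Not at hcon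
  have hM : ∀ {n m : ℕ}, n ≤ m → mSet (A n) ⊆ mSet (A m) := fun {n m} h =>
    (monotone_nat_of_le_succ (f := fun n => mSet (A n)) hloc) h
  have hM' : ∀ {n m : ℕ} (h : n ≤ m) (x : A n), (x : K) ∈ mSet (A m) → (x : K) ∈ mSet (A n) := by
    intro n m h x hx
    refine (mem_mSet_iff x).2 fun hu => ?_
    obtain ⟨_, hx'⟩ := hx
    exact hx' (hu.map (Subring.inclusion (hmono h)))
  haveI hfr : ∀ n, IsFractionRing (A n) K := fun n => IsFractionRing.of_field _ K fun x => by
    obtain ⟨p, hp, q, hq, _, rfl⟩ := hfrac x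
    exact ⟨⟨p, hmono n.zero_le hp⟩, ⟨q, hmono n.zero_le hq⟩, rfl⟩
  -- fractions divided along the chain
  have hz0 : z ≠ 0 := fun h => (hcon 0).1 (h ▸ zero_mem _)
  have hmem : ∀ n (p q : A n), q ≠ 0 → z = (p : K) / q → p ≠ 0 ∧ (p : K) ∈ mSet (A n) ∧ (q : K) ∈ mSet (A n) := by
    intro n p q hq he
    have hp : p ≠ 0 := fun h => hz0 (by rw [he, h, Subring.coe_zero, zero_div])
    have key : ∀ (p q : A n) (w : K), p ≠ 0 → w = (q : K) / p → IsUnit p → w ∈ A n := fun p q w hp he hu => by
      obtain ⟨v, rfl⟩ := hu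
      have h1 : ((↑v : A n) : K) * ((↑v⁻¹ : A n) : K) = 1 := congrArg Subtype.val v.mul_inv
      rw [he, div_eq_mul_inv, inv_eq_of_mul_eq_one_right h1, ← Subring.coe_mul]
      exact Subtype.coe_prop _
    exact ⟨hp, (mem_mSet_iff p).2 fun hu => (hcon n).2 (key p q _ hp (by rw [he, inv_div]) hu),
      (mem_mSet_iff q).2 fun hu => (hcon n).1 (key q p _ hq he hu)⟩
  choose g hgM hdiv using hg
  have hnext : ∀ n (p : {p : A n × A n // p.2 ≠ 0 ∧ z = (p.1 : K) / p.2}),
      ∃ p' : {p : A (n + 1) × A (n + 1) // p.2 ≠ 0 ∧ z = (p.1 : K) / p.2}, (p.1.1 : K) = g n * p'.1.1 := by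
    rintro n ⟨⟨p, q⟩, hq, he⟩
    obtain ⟨hp, hpm, hqm⟩ := hmem n p q hq he
    obtain ⟨x, hx, hxe⟩ := hdiv n _ hpm
    obtain ⟨y, hy, hye⟩ := hdiv n _ hqm
    have hy0 : y ≠ 0 := fun h => hq (Subtype.ext (by rw [hye, h, mul_zero, Subring.coe_zero]))
    have hg0 : g n ≠ 0 := fun h => hq (Subtype.ext (by rw [hye, h, zero_mul, Subring.coe_zero]))
    refine ⟨⟨(⟨x, hx⟩, ⟨y, hy⟩), fun h => hy0 (congrArg Subtype.val h), ?_⟩, hxe⟩
    show z = x / y
    rw [he, hxe, hye, mul_div_mul_left _ _ hg0]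
  choose next hnext' using hnext
  obtain ⟨p₀, hp₀, q₀, hq₀, hq₀0, he₀⟩ := hfrac z
  let seq : ∀ n, {p : A n × A n // p.2 ≠ 0 ∧ z = (p.1 : K) / p.2} :=
    Nat.rec ⟨(⟨p₀, hp₀⟩, ⟨q₀, hq₀⟩), fun h => hq₀0 (congrArg Subtype.val h), he₀⟩ fun n p => next n p
  let a : ∀ n, A n := fun n => (seq n).1.1
  let b : ∀ n, A n := fun n => (seq n).1.2
  have hb0 : ∀ n, b n ≠ 0 := fun n => (seq n).2.1
  have hz : ∀ n, z = (a n : K) / (b n : K) := fun n => (seq n).2.2
  have ha0 : ∀ n, a n ≠ 0 := fun n => (hmem n _ _ (hb0 n) (hz n)).1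
  have hag : ∀ n, (a n : K) = g n * a (n + 1) := fun n => hnext' n (seq n)
  -- roots of polynomials have nonunit coefficients
  have hroot : ∀ n (P : (A n)[X]), evalAt A z n P = 0 → nonunitCoeffs A P := by
    intro n P hP i
    refine (mem_mSet_iff _).2 fun hu => ?_
    have hi : i ≤ P.natDegree := le_natDegree_of_ne_zero hu.ne_zero
    have h0 : ∑ j ∈ Finset.range (P.natDegree + 1), (P.coeff j : K) * z ^ j = 0 := by
      rw [← hP]
      simp only [evalAt, coe_eval₂RingHom]
      rw [eval₂_eq_sum_range]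
      rfl
    rcases ValTate.mem_or_inv_mem (A n) (hclosed n) z P.natDegree (fun j => P.coeff j) ⟨i, hi, hu⟩ h0 with h | h
    · exact (hcon n).1 h
    · exact (hcon n).2 h
  -- the union ring and its prime
  let S : Subring K := ⨆ n, (evalAt A z n).range
  have hdir : Directed (· ≤ ·) fun n => (evalAt A z n).range := by
    refine Monotone.directed_le fun n m h => ?_
    rintro _ ⟨P, rfl⟩
    exact ⟨_, evalAt_liftPoly A z (hmono h) P⟩
  have hS : ∀ x : K, x ∈ S ↔ ∃ n P, evalAt A z n P = x := fun x => by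
    rw [Subring.mem_iSup_of_directed hdir]; rfl
  have hAS : ∀ n, A n ≤ S := fun n x hx => (hS x).2 ⟨n, C ⟨x, hx⟩, by simp [evalAt]⟩
  have hliftC : ∀ {n m : ℕ} (h : n ≤ m) (P : (A n)[X]), nonunitCoeffs A P → nonunitCoeffs A (liftPoly A (hmono h) P) := by
    intro n m h P hP i
    simp only [liftPoly, coe_mapRingHom, coeff_map]
    exact hM h (hP i)
  have hkey : ∀ {n m : ℕ} (P : (A n)[X]) (P' : (A m)[X]), evalAt A z n P = evalAt A z m P' →
      nonunitCoeffs A P' → nonunitCoeffs A P := by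
    intro n m P P' he hP' i
    have hn : n ≤ max n m := le_max_left n m
    have hm : m ≤ max n m := le_max_right n m
    have h0 := hroot _ (liftPoly A (hmono hn) P - liftPoly A (hmono hm) P')
      (by rw [map_sub, evalAt_liftPoly, evalAt_liftPoly, he, sub_self]) i
    have h1 := hliftC hm P' hP' i
    refine hM' hn (P.coeff i) ((mem_mSet_iff (Subring.inclusion (hmono hn) (P.coeff i))).2 ?_)
    have := add_mem ((mem_mSet_iff _).1 h0) ((mem_mSet_iff _).1 h1)
    simpa [liftPoly, coeff_map] using this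
  let Q : Ideal S :=
    { carrier := {x | ∃ n P, evalAt A z n P = (x : K) ∧ nonunitCoeffs A P}
      zero_mem' := ⟨0, 0, by simp, fun i => by simp only [coeff_zero]; exact (mem_mSet_iff _).2 (zero_mem _)⟩
      add_mem' := by
        rintro x y ⟨n, P, hP, hPm⟩ ⟨m, P', hP', hPm'⟩
        refine ⟨max n m, liftPoly A (hmono (le_max_left n m)) P + liftPoly A (hmono (le_max_right n m)) P', ?_, fun i => ?_⟩
        · rw [map_add, evalAt_liftPoly, evalAt_liftPoly, hP, hP']; rfl
        · rw [coeff_add]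
          exact (mem_mSet_iff _).2 (add_mem ((mem_mSet_iff _).1 (hliftC (le_max_left n m) P hPm i))
            ((mem_mSet_iff _).1 (hliftC (le_max_right n m) P' hPm' i)))
      smul_mem' := by
        rintro c x ⟨m, P', hP', hPm'⟩
        obtain ⟨n, P, hP⟩ := (hS c).1 c.2
        refine ⟨max n m, liftPoly A (hmono (le_max_left n m)) P * liftPoly A (hmono (le_max_right n m)) P', ?_, fun i => ?_⟩
        · rw [map_mul, evalAt_liftPoly, evalAt_liftPoly, hP, hP']; rfl
        · refine (mem_mSet_iff _).2 ?_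
          rw [coeff_mul]
          exact Ideal.sum_mem _ fun q _ => Ideal.mul_mem_left _ _ ((mem_mSet_iff _).1 (hliftC (le_max_right n m) P' hPm' q.2)) }
  have hQ : ∀ (x : S) n (P : (A n)[X]), evalAt A z n P = (x : K) → (x ∈ Q ↔ nonunitCoeffs A P) :=
    fun x n P hP => ⟨fun ⟨m, P', hP', hPm'⟩ => hkey P P' (hP.trans hP'.symm) hPm', fun h => ⟨n, P, hP, h⟩⟩
  haveI hQp : Q.IsPrime := by
    refine ⟨fun h => ?_, fun {x y} hxy => ?_⟩
    · have := (hQ 1 0 1 (by simp)).1 (h ▸ Submodule.mem_top) 0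
      rw [coeff_one_zero] at this
      exact (mem_mSet_iff _).1 this isUnit_one
    · obtain ⟨n, P, hP⟩ := (hS x).1 x.2
      obtain ⟨m, P', hP'⟩ := (hS y).1 y.2
      have hn : n ≤ max n m := le_max_left n m
      have hm : m ≤ max n m := le_max_right n m
      let P₁ := liftPoly A (hmono hn) P
      let P₂ := liftPoly A (hmono hm) P'
      have h12 := (hQ (x * y) _ (P₁ * P₂) (by rw [map_mul, evalAt_liftPoly, evalAt_liftPoly, hP, hP']; rfl)).1 hxy
      have hz0 : P₁.map (residue (A (max n m))) * P₂.map (residue (A (max n m))) = 0 := by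
        rw [← Polynomial.map_mul]
        ext i
        rw [coeff_map, coeff_zero]
        exact (residue_eq_zero_iff _).2 ((mem_mSet_iff _).1 (h12 i))
      rcases mul_eq_zero.1 hz0 with h | h
      · refine Or.inl ⟨_, P₁, by rw [evalAt_liftPoly, hP], fun i => (mem_mSet_iff _).2 ((residue_eq_zero_iff _).1 ?_)⟩
        rw [← coeff_map, h, coeff_zero]
      · refine Or.inr ⟨_, P₂, by rw [evalAt_liftPoly, hP'], fun i => (mem_mSet_iff _).2 ((residue_eq_zero_iff _).1 ?_)⟩
        rw [← coeff_map, h, coeff_zero]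
  -- the noetherian one dimensional ring below
  let S₀ : Subring K := (evalAt A z 0).range
  have hS₀ : S₀ ≤ S := le_iSup (fun n => (evalAt A z n).range) 0
  let P₀ : Ideal S₀ := Q.comap (Subring.inclusion hS₀)
  let B : LocalSubring K := LocalSubring.ofPrime S₀ P₀
  let U : LocalSubring K := LocalSubring.ofPrime S Q
  haveI : IsNoetherianRing S₀ := isNoetherianRing_range _
  haveI : IsNoetherianRing B.toSubring := IsLocalization.isNoetherianRing P₀.primeCompl _ inferInstance
  have hBU : B.toSubring ≤ U.toSubring := by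
    intro x hx
    obtain ⟨⟨y, s⟩, he⟩ := IsLocalization.surj P₀.primeCompl (S := B.toSubring) ⟨x, hx⟩
    have hs : Subring.inclusion hS₀ (s : S₀) ∈ Q.primeCompl := s.2
    have hu := IsLocalization.map_units U.toSubring (⟨_, hs⟩ : Q.primeCompl)
    obtain ⟨w, hw⟩ := hu
    have he' : x * ((s : S₀) : K) = (y : K) := congrArg Subtype.val he
    have hw' : ((w : U.toSubring) : K) = ((s : S₀) : K) := congrArg Subtype.val hw
    have : x = ((algebraMap S U.toSubring (Subring.inclusion hS₀ y) * ↑w⁻¹ : U.toSubring) : K) := by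
      have h1 : ((w : U.toSubring) : K) * ((↑w⁻¹ : U.toSubring) : K) = 1 := congrArg Subtype.val w.mul_inv
      rw [Subring.coe_mul]
      show x = (y : K) * _
      rw [← he', ← hw', mul_assoc, h1, mul_one]
    rw [this]
    exact Subtype.coe_prop _
  -- dimension of B
  let m' : Ideal (A 0)[X] := (maximalIdeal (A 0)).map C
  have hm' : m' = P₀.comap (evalAt A z 0).rangeRestrict := by
    ext P
    rw [Ideal.mem_map_C_iff, Ideal.mem_comap, Ideal.mem_comap, hQ _ 0 P rfl]
    exact forall_congr' fun i => (mem_mSet_iff _).symm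
  haveI : m'.IsPrime := hm' ▸ inferInstance
  have hht : m'.height ≤ 2 := by
    refine (Polynomial.height_map_C (maximalIdeal (A 0))).le.trans (WithBot.coe_le_coe.1 ?_)
    rw [maximalIdeal_height_eq_ringKrullDim]
    exact h2
  have hker : RingHom.ker (evalAt A z 0) ≠ ⊥ := fun h => by
    have hmem : C (b 0) * X - C (a 0) ∈ RingHom.ker (evalAt A z 0) := by
      rw [RingHom.mem_ker, map_sub, map_mul]
      simp only [evalAt, coe_eval₂RingHom, eval₂_C, eval₂_X, Subring.subtype_apply]
      rw [hz 0, mul_div_cancel₀ _ (fun h => hb0 0 (Subtype.ext h)), sub_self]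
    rw [h, Ideal.mem_bot] at hmem
    exact ha0 0 (by simpa using congrArg (fun P => P.coeff 0) hmem)
  haveI : Ring.KrullDimLE 1 B.toSubring := Ring.KrullDimLE.mk₁' fun q hq0 hq => by
    by_contra hqm
    let f : (A 0)[X] →+* S₀ := (evalAt A z 0).rangeRestrict
    let q₀ : Ideal S₀ := q.comap (algebraMap S₀ B.toSubring)
    haveI : q₀.IsPrime := Ideal.IsPrime.comap _
    have hq₀ : q₀ < P₀ := by
      refine lt_of_le_of_ne ?_ fun h => hqm ?_
      · have := ((IsLocalization.isPrime_iff_isPrime_disjoint P₀.primeCompl B.toSubring q).1 hq).2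
        intro x hx
        by_contra hxP
        exact Set.disjoint_left.1 this hxP hx
      · have := IsLocalization.AtPrime.map_eq_maximalIdeal P₀ B.toSubring
        rw [← IsLocalization.map_under P₀.primeCompl B.toSubring q]
        show (q₀.map _).IsMaximal
        rw [h, this]
        infer_instance
    have hbot : (⊥ : Ideal S₀) < q₀ := by
      refine bot_lt_iff_ne_bot.2 fun h => hq0 ?_
      rw [← IsLocalization.map_under P₀.primeCompl B.toSubring q]
      show q₀.map _ = ⊥
      rw [h, Ideal.map_bot]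
    have hf : Function.Surjective f := RingHom.rangeRestrict_surjective _
    haveI : m'.FiniteHeight := ⟨Or.inr (ne_top_of_le_ne_top (by decide) hht)⟩
    have hlt : ∀ {I J : Ideal S₀}, I < J → I.comap f < J.comap f := fun h =>
      lt_of_le_of_ne (Ideal.comap_mono h.le) fun he => h.ne (Ideal.comap_injective_of_surjective f hf he)
    have h1 : q₀.comap f < m' := hm' ▸ hlt hq₀
    have h2' : (⊥ : Ideal S₀).comap f < q₀.comap f := hlt hbot
    have h3 : (⊥ : Ideal (A 0)[X]) < (⊥ : Ideal S₀).comap f := by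
      refine bot_lt_iff_ne_bot.2 fun h => hker ?_
      rw [← h]
      ext P
      rw [RingHom.mem_ker, Ideal.mem_comap, Ideal.mem_bot, Subtype.ext_iff]
      rfl
    haveI : ((⊥ : Ideal S₀).comap f).IsPrime := (Ideal.isPrime_bot).comap f
    haveI : (q₀.comap f).IsPrime := Ideal.IsPrime.comap f
    haveI hfin1 : (q₀.comap f).FiniteHeight := Ideal.finiteHeight_of_le h1.le (Ideal.IsPrime.ne_top' (I := m'))
    haveI : ((⊥ : Ideal S₀).comap f).FiniteHeight := Ideal.finiteHeight_of_le h2'.le (Ideal.IsPrime.ne_top' (I := q₀.comap f))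
    have e1 := Ideal.height_strict_mono_of_isPrime_of_isPrime h1
    have e2 := Ideal.height_strict_mono_of_isPrime_of_isPrime h2'
    have e3 := Ideal.height_strict_mono_of_isPrime_of_isPrime h3
    have a1 : 1 ≤ ((⊥ : Ideal S₀).comap f).height := Order.one_le_iff_pos.2 (zero_le.trans_lt e3)
    have a2 : 2 ≤ (q₀.comap f).height := by
      refine le_trans ?_ (Order.add_one_le_of_lt e2)
      exact le_trans (by norm_num) (add_le_add_left a1 1)
    exact absurd (hht.trans a2) e1.not_ge
  -- the union is noetherian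
  haveI : IsFractionRing B.toSubring K := IsFractionRing.of_field _ K fun x => by
    obtain ⟨p, hp, q, hq, _, rfl⟩ := hfrac x
    have h0 : ∀ {p : K}, p ∈ A 0 → p ∈ B.toSubring := fun {p} hp =>
      LocalSubring.le_ofPrime S₀ P₀ ⟨C ⟨p, hp⟩, by simp [evalAt]⟩
    exact ⟨⟨p, h0 hp⟩, ⟨q, h0 hq⟩, rfl⟩
  letI : Algebra B.toSubring U.toSubring := (Subring.inclusion hBU).toAlgebra
  haveI : IsScalarTower B.toSubring U.toSubring K := IsScalarTower.of_algebraMap_eq fun _ => rfl
  haveI : IsNoetherianRing U.toSubring := Groth.Agent.CAlgMisc2.isNoetherianRing_of_between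
    (R := B.toSubring) K K U.toSubring Subtype.val_injective
  -- the strictly increasing chain
  have hAU : ∀ n, A n ≤ U.toSubring := fun n => (hAS n).trans (LocalSubring.le_ofPrime S Q)
  let α : ℕ → U.toSubring := fun n => Subring.inclusion (hAU n) (a n)
  have hstep : ∀ n, ∃ g k : U.toSubring, g ∈ maximalIdeal U.toSubring ∧ α n = g * k * α (n + 1) := by
    intro n
    obtain ⟨hgA, hgm⟩ := hgM n
    refine ⟨Subring.inclusion (hAU (n + 1)) ⟨g n, hgA⟩, 1, ?_, Subtype.ext ?_⟩
    · have hgQ : Subring.inclusion (hAS (n + 1)) ⟨g n, hgA⟩ ∈ Q := ⟨n + 1, C ⟨g n, hgA⟩, by simp [evalAt], fun i => by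
        rw [coeff_C]; split_ifs
        · exact ⟨hgA, hgm⟩
        · exact (mem_mSet_iff _).2 (zero_mem _)⟩
      exact (IsLocalization.AtPrime.to_map_mem_maximal_iff U.toSubring Q _).2 hgQ
    · show (a n : K) = g n * ((1 : U.toSubring) : K) * (a (n + 1) : K)
      rw [hag, Subring.coe_one, mul_one]
  have hα : ∀ n, α n ≠ 0 := fun n h => ha0 n (Subtype.ext (congrArg Subtype.val h :))
  let I : ℕ →o Ideal U.toSubring := ⟨fun n => Ideal.span {α n}, monotone_nat_of_le_succ fun n => by
    obtain ⟨g, k, _, he⟩ := hstep n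
    exact Ideal.span_singleton_le_span_singleton.2 ⟨g * k, by rw [he]; ring⟩⟩
  obtain ⟨N, hN⟩ := monotone_stabilizes_iff_noetherian.2 inferInstance I
  obtain ⟨g, k, hgm, he⟩ := hstep N
  obtain ⟨t, ht⟩ : α N ∣ α (N + 1) := Ideal.span_singleton_le_span_singleton.1 (hN (N + 1) N.le_succ).ge
  refine hgm (IsUnit.of_mul_eq_one (k * t) (mul_right_cancel₀ (hα (N + 1)) ?_))
  rw [one_mul]
  conv_rhs => rw [ht, he]
  ring



end Groth.Agent.RDPChain13
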