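import Groth.Agent.RDPChain13.PropagateBasic

/-! Ideals of type one pass to the points of a point blow-up. -/

set_option autoImplicit false
set_option linter.style.haveILetI false
set_option linter.unusedSectionVars false
set_option maxHeartbeats 1000000

universe u

open IsLocalRing Polynomial

namespace Groth.Agent.RDPChain13.Setting

open CMType13 (IsPair)

variable {A L : Type u} [CommRing A] [IsLocalRing A] [IsDomain A] [IsNoetherianRing A] [CommRing L] [IsLocalRing L] [IsDomain L] [Algebra A L]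
  {J : Ideal A} {x y s : A} {t : L}

local notation "m" => IsLocalRing.maximalIdeal A
local notation "φ" => algebraMap A L

theorem mem_L_of_mem (S : Setting J x y s t) {a : A} (ha : a ∈ m) : φ a ∈ Ideal.span {φ x} :=
  S.map_eq.le (Ideal.mem_map_of_mem φ ha)

theorem exists_div (S : Setting J x y s t) {z : A} (hz : z ∈ m) : ∃ w : L, w * φ x = φ z := by
  obtain ⟨w, hw⟩ := Ideal.mem_span_singleton'.1 (S.mem_L_of_mem hz)
  exact ⟨w, hw⟩

theorem inC_div (S : Setting J x y s t) {z : A} (hz : z ∈ m) {w : L} (hw : w * φ x = φ z) : S.InC w :=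
  ⟨1, z, by simpa using hz, by rw [pow_one, hw]⟩

theorem mem_map_of_inJ (S : Setting J x y s t) {v : L} (hv : S.InJ v) : v ∈ J.map φ := by
  obtain ⟨n, b, hb, e⟩ := hv
  have h := Ideal.mem_map_of_mem φ hb
  rw [Ideal.map_mul, Ideal.map_pow, S.map_eq, Ideal.span_singleton_pow, e] at h
  obtain ⟨w, hw, hwe⟩ := Ideal.mem_span_singleton_mul.1 h
  rwa [show v = w from mul_right_cancel₀ (pow_ne_zero n S.X_ne) (by rw [← hwe]; ring)]

theorem aeval_mem_span (S : Setting J x y s t) {P : A[X]} (h : P.map (residue A) = 0) :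
    aeval t P ∈ Ideal.span {φ x} := by
  rw [aeval_eq_sum_range]
  refine sum_mem fun i _ => ?_
  rw [Algebra.smul_def]
  refine Ideal.mul_mem_right _ _ (S.mem_L_of_mem ((residue_eq_zero_iff _).1 ?_))
  rw [← coeff_map, h, coeff_zero]

theorem map_s (S : Setting J x y s t) : φ s ∈ Ideal.span {φ x} * J.map φ := by
  have h := Ideal.mem_map_of_mem φ S.s_mem
  rwa [Ideal.map_mul, S.map_eq] at h

/-- A polynomial with coefficients in `J` killed by all multiplications lies in `X J L`. -/
theorem aeval_mem_of_coef (S : Setting J x y s t) {P : A[X]} (hPJ : ∀ i, P.coeff i ∈ J)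
    (h : ∀ z ∈ m, ∀ i, S.coef (z * P.coeff i) = 0) : aeval t P ∈ Ideal.span {φ x} * J.map φ := by
  rw [aeval_eq_sum_range]
  refine sum_mem fun i _ => ?_
  rw [Algebra.smul_def]
  refine Ideal.mul_mem_right _ _ ?_
  obtain ⟨a, ha⟩ := S.s_gen _ (hPJ i) fun z hz => by
    have hzb : z * P.coeff i ∈ m * J := Ideal.mul_mem_mul hz (hPJ i)
    obtain ⟨a, ha⟩ := S.exists_decomp _ hzb
    have h0 := h z hz i
    rw [S.coef_eq hzb ha, residue_eq_zero_iff] at h0
    simpa using add_mem ha (S.s_soc a h0)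
  have h1 := add_mem (S.span_smul_le ha) (Ideal.mul_mem_left _ (φ a) S.map_s)
  rwa [← map_mul, ← map_add, sub_add_cancel] at h1

theorem eps_sum (S : Setting J x y s t) {ι : Type*} (F : Finset ι) (f : ι → L) (hf : ∀ i ∈ F, S.InJ (f i)) :
    S.InJ (∑ i ∈ F, f i) ∧ S.eps (∑ i ∈ F, f i) = ∑ i ∈ F, S.eps (f i) := by
  classical
  induction F using Finset.induction with
  | empty => simp [S.eps_zero, show S.InJ (0 : L) by simpa using S.inJ_algebraMap (zero_mem J)]
  | insert i F hi ih =>
    obtain ⟨h1, h2⟩ := ih fun j hj => hf j (Finset.mem_insert_of_mem hj)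
    have h0 := hf i (Finset.mem_insert_self i F)
    rw [Finset.sum_insert hi, Finset.sum_insert hi, S.eps_add h0 h1, h2]
    exact ⟨S.inJ_add h0 h1, rfl⟩

theorem inJ_aeval (S : Setting J x y s t) {P : A[X]} (hP : ∀ i, P.coeff i ∈ J) : S.InJ (aeval t P) := by
  rw [aeval_eq_sum_range]
  refine (S.eps_sum _ _ fun i _ => ?_).1
  rw [Algebra.smul_def, mul_comm]
  refine S.inJ_mul ?_ (S.inJ_algebraMap (hP i))
  clear * - S
  induction i with
  | zero => simpa using S.inC_algebraMap 1
  | succ i ih => rw [pow_succ]; exact S.inC_mul ih S.inC_t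

/-- The trace of `w · P(t)`. -/
theorem eps_div_aeval (S : Setting J x y s t) {P : A[X]} (hP : ∀ i, P.coeff i ∈ J) {z : A} (hz : z ∈ m) {w : L}
    (hw : w * φ x = φ z) (i : ℕ) : (S.eps (w * aeval t P)).coeff i = S.coef (z * P.coeff i) := by
  have hterm : ∀ j, S.InJ (aeval t (X ^ j : A[X]) * (w * φ (P.coeff j))) ∧
      S.eps (aeval t (X ^ j : A[X]) * (w * φ (P.coeff j))) = monomial j (S.coef (z * P.coeff j)) := fun j => by
    obtain ⟨h1, h2⟩ := S.eps_div (Ideal.mul_mem_mul hz (hP j)) (w := w * φ (P.coeff j)) (by rw [map_mul, ← hw]; ring)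
    obtain ⟨h3, h4⟩ := S.eps_aeval_mul (X ^ j) h1
    rw [h4, h2, Polynomial.map_pow, map_X, X_pow_mul, C_mul_X_pow_eq_monomial]
    exact ⟨h3, rfl⟩
  have he : w * aeval t P = ∑ j ∈ Finset.range (P.natDegree + 1), aeval t (X ^ j : A[X]) * (w * φ (P.coeff j)) := by
    rw [aeval_eq_sum_range, Finset.mul_sum]
    refine Finset.sum_congr rfl fun j _ => ?_
    rw [Algebra.smul_def, aeval_X_pow]
    ring
  rw [he, (S.eps_sum _ _ fun j _ => (hterm j).1).2, Finset.sum_congr rfl (fun j _ => (hterm j).2), finsetSum_coeff]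
  simp only [coeff_monomial, Finset.sum_ite_eq', Finset.mem_range]
  split_ifs with hi
  · rfl
  · rw [coeff_eq_zero_of_natDegree_lt (by omega), mul_zero, S.coef_zero]

/-- Every element of the chart of the ideal is `P(t) + Q(t) σ`. -/
theorem exists_normal_form (S : Setting J x y s t) {σ : L} (hσ : σ * φ x = φ s) {v : L} (hv : S.InJ v) :
    ∃ P Q : A[X], (∀ i, P.coeff i ∈ J) ∧ v = aeval t P + aeval t Q * σ := by
  obtain ⟨n, b, hb, e, -⟩ := S.rel_eps hv
  rw [S.sum_eq_smul, pow_succ, show v * (φ x ^ n * φ x) = φ x ^ n * (v * φ x) by ring] at e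
  have e' := mul_left_cancel₀ (pow_ne_zero n S.X_ne) e
  choose a ha using fun i => S.exists_decomp (b i) (hb i)
  choose p hp w hw hpw using fun i => mem_pair_mul.1 (ha i)
  let P : A[X] := ∑ i ∈ Finset.range (n + 1), (monomial i (p i) + monomial (i + 1) (w i))
  let Q : A[X] := ∑ i ∈ Finset.range (n + 1), monomial i (a i)
  refine ⟨P, Q, fun k => ?_, mul_right_cancel₀ S.X_ne ?_⟩
  · simp only [P, finsetSum_coeff, coeff_add, coeff_monomial]
    refine sum_mem fun i _ => add_mem ?_ ?_ <;> split_ifs <;> first | exact hp i | exact hw i | exact zero_mem _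
  · rw [← e', add_mul, mul_assoc (aeval t Q), hσ]
    simp only [P, Q, map_sum, map_add, aeval_monomial, Finset.sum_mul, ← Finset.sum_add_distrib]
    refine Finset.sum_congr rfl fun i _ => ?_
    rw [show b i = x * p i + y * w i + a i * s by linear_combination -(hpw i), map_add, map_add, map_mul, map_mul,
      map_mul, S.ht]
    ring

theorem eps_sigma (S : Setting J x y s t) {σ : L} (hσ : σ * φ x = φ s) : S.InJ σ ∧ S.eps σ = 1 := by
  obtain ⟨h1, h2⟩ := S.eps_div S.s_mem hσ
  rw [S.coef_eq S.s_mem (a := 1) (by simp), map_one, C_1] at h2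
  exact ⟨h1, h2⟩

/-- The pairing is perfect modulo a monic polynomial in `t`. -/
theorem mem_of_dvd (S : Setting J x y s t) {p : A[X]} (hp : p.Monic) {v : L} (hv : S.InJ v)
    (h0 : p.map (residue A) ∣ S.eps v)
    (h1 : ∀ z ∈ m, ∀ w : L, w * φ x = φ z → p.map (residue A) ∣ S.eps (w * v)) :
    v ∈ Ideal.span {φ x, aeval t p} * J.map φ := by
  obtain ⟨σ, hσ⟩ := S.exists_div ((Ideal.mul_le_left : m * J ≤ m) S.s_mem)
  obtain ⟨hσJ, hσe⟩ := S.eps_sigma hσ
  obtain ⟨P, Q, hP, rfl⟩ := S.exists_normal_form hσ hv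
  have hQJ := S.eps_aeval_mul Q hσJ
  rw [hσe, mul_one] at hQJ
  have hPJ := S.inJ_aeval hP
  have hP0 : S.eps (aeval t P) = 0 := by
    rw [aeval_eq_sum_range, (S.eps_sum _ _ fun i _ => ?_).2]
    · refine Finset.sum_eq_zero fun i _ => ?_
      obtain ⟨h, h'⟩ := S.eps_aeval_mul (X ^ i) (S.inJ_algebraMap (hP i))
      rw [Algebra.smul_def, mul_comm, ← aeval_X_pow (R := A) (x := t), h']
      have : S.eps (φ (P.coeff i)) = 0 := by
        rw [S.eps_eq (S.inJ_algebraMap (hP i)) ⟨0, fun _ => x * P.coeff i,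
          fun _ => Ideal.mul_mem_mul S.x_mem (hP i), by simp [mul_comm], rfl⟩]
        simp [S.coef_eq_zero_of_mem (Ideal.mul_mem_mul S.x_mem (hP i))
          (Ideal.mul_mem_mul (Ideal.subset_span (by simp)) (hP i))]
      rw [this, mul_zero]
    · rw [Algebra.smul_def, mul_comm, ← aeval_X_pow (R := A) (x := t)]
      exact (S.eps_aeval_mul (X ^ i) (S.inJ_algebraMap (hP i))).1
  rw [S.eps_add hPJ hQJ.1, hP0, zero_add, hQJ.2] at h0
  -- the σ part
  obtain ⟨R, hR⟩ := h0
  obtain ⟨R', rfl⟩ := Polynomial.map_surjective (residue A) residue_surjective R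
  rw [← Polynomial.map_mul] at hR
  have hrest : (Q - p * R').map (residue A) = 0 := by rw [Polynomial.map_sub, hR, sub_self]
  have hYI : aeval t p ∈ Ideal.span ({φ x, aeval t p} : Set L) := Ideal.subset_span (by simp)
  have hXI : Ideal.span {φ x} ≤ Ideal.span ({φ x, aeval t p} : Set L) := Ideal.span_mono (by simp)
  have hQ' : aeval t Q * σ ∈ Ideal.span {φ x, aeval t p} * J.map φ := by
    refine Ideal.mul_mem_mul ?_ (S.mem_map_of_inJ hσJ)
    rw [show Q = (Q - p * R') + p * R' by ring, map_add, map_mul]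
    exact add_mem (hXI (S.aeval_mem_span hrest)) (Ideal.mul_mem_right _ _ hYI)
  -- the polynomial part
  have hdiv : ∀ z ∈ m, ∀ w : L, w * φ x = φ z → p.map (residue A) ∣ S.eps (w * aeval t P) := by
    intro z hz w hw
    have hwC := S.inC_div hz hw
    have := h1 z hz w hw
    rw [mul_add, S.eps_add (S.inJ_mul hwC hPJ) (S.inJ_mul hwC hQJ.1), mul_left_comm,
      (S.eps_aeval_mul Q (S.inJ_mul hwC hσJ)).2, hR] at this
    rw [Polynomial.map_mul] at this
    exact (dvd_add_left (Dvd.dvd.mul_right (dvd_mul_right _ _) _)).1 this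
  have hmodJ : ∀ i, (P %ₘ p).coeff i ∈ J := fun i => by
    rw [← Ideal.Quotient.eq_zero_iff_mem, ← coeff_map, map_modByMonic _ hp,
      show P.map (Ideal.Quotient.mk J) = 0 from Polynomial.ext fun j => by
        rw [coeff_map, coeff_zero, Ideal.Quotient.eq_zero_iff_mem]; exact hP j,
      zero_modByMonic, coeff_zero]
  have hdivJ : ∀ i, (P /ₘ p).coeff i ∈ J := fun i => by
    rw [← Ideal.Quotient.eq_zero_iff_mem, ← coeff_map, map_divByMonic _ hp,
      show P.map (Ideal.Quotient.mk J) = 0 from Polynomial.ext fun j => by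
        rw [coeff_map, coeff_zero, Ideal.Quotient.eq_zero_iff_mem]; exact hP j,
      zero_divByMonic, coeff_zero]
  have hsplit : aeval t P = aeval t (P %ₘ p) + aeval t p * aeval t (P /ₘ p) := by
    rw [← map_mul, ← map_add, modByMonic_add_div]
  rw [hsplit]
  refine add_mem (add_mem (Ideal.mul_mono_left hXI ?_) (Ideal.mul_mem_mul hYI (S.mem_map_of_inJ (S.inJ_aeval hdivJ)))) hQ'
  refine S.aeval_mem_of_coef hmodJ fun z hz i => ?_
  obtain ⟨w, hw⟩ := S.exists_div hz
  have hwC := S.inC_div hz hw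
  have h2 := hdiv z hz w hw
  rw [hsplit, mul_add, mul_left_comm, S.eps_add (S.inJ_mul hwC (S.inJ_aeval hmodJ))
    (S.eps_aeval_mul p (S.inJ_mul hwC (S.inJ_aeval hdivJ))).1, (S.eps_aeval_mul p (S.inJ_mul hwC (S.inJ_aeval hdivJ))).2,
    dvd_add_left (dvd_mul_right _ _)] at h2
  have hzero : S.eps (w * aeval t (P %ₘ p)) = 0 := by
    by_contra hne
    have hdeg := natDegree_le_of_dvd h2 hne
    rw [hp.natDegree_map] at hdeg
    have hp1 : p ≠ 1 := fun h => by
      subst h
      rw [modByMonic_one, map_zero, mul_zero] at hne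
      exact hne S.eps_zero
    have hlt := natDegree_modByMonic_lt P hp hp1
    refine hne (leadingCoeff_eq_zero.1 ?_)
    rw [leadingCoeff, S.eps_div_aeval hmodJ hz hw, coeff_eq_zero_of_natDegree_lt (by omega), mul_zero, S.coef_zero]
  rw [← S.eps_div_aeval hmodJ hz hw i, hzero, coeff_zero]

theorem exists_common_unit (S : Setting J x y s t) {v u : L} (hv : v ∈ J.map φ) (hu : u ∈ J.map φ) :
    ∃ e : L, IsUnit e ∧ S.InC e ∧ S.InJ (v * e) ∧ S.InJ (u * e) := by
  obtain ⟨e, he, hec, hev⟩ := S.exists_unit_inJ hv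
  obtain ⟨f, hf, hfc, hfu⟩ := S.exists_unit_inJ hu
  refine ⟨e * f, he.mul hf, S.inC_mul hec hfc, ?_, ?_⟩
  · rw [show v * (e * f) = f * (v * e) by ring]; exact S.inJ_mul hfc hev
  · rw [show u * (e * f) = e * (u * f) by ring]; exact S.inJ_mul hec hfu

/-- `X, p(t)` is regular on the transform. -/
theorem regular (S : Setting J x y s t) {p : A[X]} (hp : p.Monic) {v : L} (hv : v ∈ J.map φ)
    (h : aeval t p * v ∈ Ideal.span {φ x} * J.map φ) : v ∈ Ideal.span {φ x} * J.map φ := by
  obtain ⟨u, hu, he⟩ := Ideal.mem_span_singleton_mul.1 h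
  obtain ⟨e, heu, -, hve, hue⟩ := S.exists_common_unit hv hu
  have key : ∀ c : L, S.InC c → S.eps (c * (v * e)) = 0 := fun c hc => by
    have h1 : aeval t p * (c * (v * e)) = φ x * (c * (u * e)) := by linear_combination -(c * e) * he
    have h2 := (S.eps_aeval_mul p (S.inJ_mul hc hve)).2
    rw [h1, S.eps_x_mul (S.inJ_mul hc hue)] at h2
    exact (mul_eq_zero.1 h2.symm).resolve_left (hp.map _).ne_zero
  obtain ⟨σ, hσ⟩ := S.exists_div ((Ideal.mul_le_left : m * J ≤ m) S.s_mem)
  obtain ⟨hσJ, hσe⟩ := S.eps_sigma hσ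
  obtain ⟨P, Q, hP, hPQ⟩ := S.exists_normal_form hσ hve
  refine (Ideal.unit_mul_mem_iff_mem _ heu).1 ?_
  rw [mul_comm e, hPQ]
  have hQJ := S.eps_aeval_mul Q hσJ
  rw [hσe, mul_one] at hQJ
  have hPJ := S.inJ_aeval hP
  have e0 := key 1 (by simpa using S.inC_algebraMap 1)
  rw [one_mul, hPQ, S.eps_add hPJ hQJ.1, hQJ.2] at e0
  have hdeg : ∀ i, (S.eps (aeval t P)).coeff i = 0 := by
    intro i
    have : S.eps (φ x * aeval t P) = 0 := S.eps_x_mul hPJ
    rw [aeval_eq_sum_range, (S.eps_sum _ _ fun i _ => ?_).2, finsetSum_coeff]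
    · refine Finset.sum_eq_zero fun j _ => ?_
      obtain ⟨-, h'⟩ := S.eps_aeval_mul (X ^ j) (S.inJ_algebraMap (hP j))
      rw [Algebra.smul_def, mul_comm, ← aeval_X_pow (R := A) (x := t), h',
        S.eps_eq (S.inJ_algebraMap (hP j)) ⟨0, fun _ => x * P.coeff j,
          fun _ => Ideal.mul_mem_mul S.x_mem (hP j), by simp [mul_comm], rfl⟩]
      simp [S.coef_eq_zero_of_mem (Ideal.mul_mem_mul S.x_mem (hP j))
          (Ideal.mul_mem_mul (Ideal.subset_span (by simp)) (hP j))]
    · rw [Algebra.smul_def, mul_comm, ← aeval_X_pow (R := A) (x := t)]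
      exact (S.eps_aeval_mul (X ^ i) (S.inJ_algebraMap (hP i))).1
  rw [Polynomial.ext (p := S.eps (aeval t P)) (q := 0) (fun i => by rw [hdeg i, coeff_zero]), zero_add] at e0
  refine add_mem (S.aeval_mem_of_coef hP fun z hz i => ?_) (Ideal.mul_mem_mul (S.aeval_mem_span e0) (S.mem_map_of_inJ hσJ))
  obtain ⟨w, hw⟩ := S.exists_div hz
  have hwC := S.inC_div hz hw
  have h3 := key w hwC
  rw [hPQ, mul_add, S.eps_add (S.inJ_mul hwC hPJ) (S.inJ_mul hwC hQJ.1), mul_left_comm,
    (S.eps_aeval_mul Q (S.inJ_mul hwC hσJ)).2, e0, zero_mul, add_zero] at h3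
  rw [← S.eps_div_aeval hP hz hw i, h3, coeff_zero]

theorem inC_aeval (S : Setting J x y s t) (P : A[X]) : S.InC (aeval t P) := by
  induction P using Polynomial.induction_on with
  | C a => rw [aeval_C]; exact S.inC_algebraMap a
  | add p q hp hq => rw [map_add]; exact S.inC_add hp hq
  | monomial n a ih =>
    rw [show aeval t (C a * X ^ (n + 1)) = aeval t (C a * X ^ n) * t by simp [pow_succ, mul_assoc]]
    exact S.inC_mul ih S.inC_t

/-- The finitely generated module of representatives of the chart modulo `p(t)`. -/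
noncomputable def reps (_ : Setting J x y s t) (g : Finset L) (d : ℕ) : Submodule A L :=
  Submodule.span A ((fun iw : ℕ × L => t ^ iw.1 * iw.2) '' ((Finset.range d : Set ℕ) ×ˢ (g : Set L)))

theorem exists_reps (S : Setting J x y s t) {p : A[X]} (hp : p.Monic) :
    ∃ M : Submodule A L, M.FG ∧ (∀ u ∈ M, S.InC u) ∧ ∀ u, S.InC u → ∃ c, S.InC c ∧ u - aeval t p * c ∈ M := by
  classical
  obtain ⟨G, hG⟩ := IsNoetherian.noetherian m
  choose w hw using fun z : G => S.exists_div (hG ▸ Ideal.subset_span z.2 : (z : A) ∈ m)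
  let g : Finset L := insert 1 (Finset.univ.image w)
  have hgC : ∀ u ∈ g, S.InC u := by
    intro u hu
    rcases Finset.mem_insert.1 hu with rfl | hu
    · simpa using S.inC_algebraMap 1
    · obtain ⟨z, -, rfl⟩ := Finset.mem_image.1 hu
      exact S.inC_div (hG ▸ Ideal.subset_span z.2) (hw z)
  let M := S.reps g p.natDegree
  refine ⟨M, Submodule.fg_span ((Finset.finite_toSet _).prod (Finset.finite_toSet _) |>.image _), fun u hu => ?_, ?_⟩
  · induction hu using Submodule.span_induction with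
    | mem u hu =>
      obtain ⟨⟨i, v⟩, ⟨-, hv⟩, rfl⟩ := hu
      have := S.inC_mul (S.inC_aeval (X ^ i)) (hgC v hv)
      rwa [aeval_X_pow] at this
    | zero => simpa using S.inC_algebraMap 0
    | add u v _ _ hu hv => exact S.inC_add hu hv
    | smul a u _ hu => rw [Algebra.smul_def]; exact S.inC_mul (S.inC_algebraMap a) hu
  · let Ok : L → Prop := fun u => ∃ c, S.InC c ∧ u - aeval t p * c ∈ M
    have hadd : ∀ {u v}, Ok u → Ok v → Ok (u + v) := fun ⟨c, hc, hu⟩ ⟨d, hd, hv⟩ =>
      ⟨c + d, S.inC_add hc hd, by convert add_mem hu hv using 1; ring⟩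
    have hsum : ∀ {ι : Type u} (F : Finset ι) (f : ι → L), (∀ i ∈ F, Ok (f i)) → Ok (∑ i ∈ F, f i) := by
      intro ι F f hf
      induction F using Finset.induction with
      | empty => exact ⟨0, by simpa using S.inC_algebraMap 0, by simp⟩
      | insert i F hi ih =>
        rw [Finset.sum_insert hi]
        exact hadd (hf i (Finset.mem_insert_self i F)) (ih fun j hj => hf j (Finset.mem_insert_of_mem hj))
    have hbase : ∀ (P : A[X]) (v : L), v ∈ g → Ok (aeval t P * v) := by
      intro P v hv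
      refine ⟨aeval t (P /ₘ p) * v, S.inC_mul (S.inC_aeval _) (hgC v hv), ?_⟩
      have hPp := congrArg (aeval t) (modByMonic_add_div P p)
      rw [map_add, map_mul] at hPp
      rw [show aeval t P * v - aeval t p * (aeval t (P /ₘ p) * v) = aeval t (P %ₘ p) * v by
        linear_combination -v * hPp]
      rw [aeval_eq_sum_range, Finset.sum_mul]
      refine sum_mem fun i _ => ?_
      rw [smul_mul_assoc]
      by_cases hi : i < p.natDegree
      · exact Submodule.smul_mem _ _ (Submodule.subset_span ⟨(i, v), ⟨Finset.mem_coe.2 (Finset.mem_range.2 hi), hv⟩, rfl⟩)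
      · have hp1 : (P %ₘ p).coeff i = 0 := by
          by_cases h1 : p = 1
          · rw [h1, modByMonic_one, coeff_zero]
          · exact coeff_eq_zero_of_natDegree_lt (by have := natDegree_modByMonic_lt P hp h1; omega)
        rw [hp1, zero_smul]; exact zero_mem _
    have hlin : ∀ (P : A[X]) (z : A), z ∈ m → ∀ v : L, v * φ x = φ z → Ok (aeval t P * v) := by
      intro P z hz v hv
      rw [← hG] at hz
      obtain ⟨c, hc, rfl⟩ := Submodule.mem_span_finset.1 hz
      have hve : v = ∑ z ∈ G.attach, φ (c z.1) * w z := mul_right_cancel₀ S.X_ne (by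
        rw [hv, map_sum, Finset.sum_mul, ← Finset.sum_attach G (fun z => φ (c z • z))]
        exact Finset.sum_congr rfl fun z _ => by rw [mul_assoc, hw z, smul_eq_mul, map_mul])
      rw [hve, Finset.mul_sum]
      refine hsum _ _ fun z _ => ?_
      rw [← mul_assoc, ← aeval_C (R := A) t (c z.1), ← map_mul]
      exact hbase _ _ (Finset.mem_insert_of_mem (Finset.mem_image_of_mem w (Finset.mem_univ z)))
    rintro u ⟨n, b, hb, e⟩
    obtain _ | n := n
    · have hu : u = aeval t (C b) * 1 := by simpa using e.symm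
      exact hu ▸ hbase (C b) 1 (Finset.mem_insert_self _ _)
    rw [S.pow_succ_eq] at hb
    suffices h : ∀ (k : ℕ) (b : A), b ∈ Ideal.span {x, y} ^ k * m → ∀ u : L, φ b = u * φ x ^ (k + 1) →
        ∀ P : A[X], Ok (aeval t P * u) by
      have := h n b hb u e 1
      rwa [map_one, one_mul] at this
    intro k
    induction k with
    | zero =>
      intro b hb u e P
      exact hlin P b (by simpa using hb) u (by simpa using e.symm)
    | succ k ih =>
      intro b hb u e P
      rw [pair_pow_succ, Ideal.sup_mul, Submodule.mem_sup] at hb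
      obtain ⟨b₁, hb₁, b₂, hb₂, rfl⟩ := hb
      rw [mul_assoc] at hb₁
      obtain ⟨b', hb', rfl⟩ := Ideal.mem_span_singleton_mul.1 hb₁
      obtain ⟨f, hf, rfl⟩ := Ideal.mem_span_singleton_mul.1 hb₂
      obtain ⟨u₂, hu₂⟩ := S.exists_div hf
      have hu : ∃ u₁, φ b' = u₁ * φ x ^ (k + 1) := by
        have h := Ideal.mem_map_of_mem φ (S.pow_succ_eq k ▸ hb')
        rw [Ideal.map_pow, S.map_eq, Ideal.span_singleton_pow] at h
        obtain ⟨c, hc⟩ := Ideal.mem_span_singleton'.1 h
        exact ⟨c, hc.symm⟩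
      obtain ⟨u₁, hu₁⟩ := hu
      have hue : u = u₁ + t ^ (k + 1) * u₂ := mul_right_cancel₀ (pow_ne_zero (k + 2) S.X_ne) (by
        rw [← e, map_add, map_mul, map_mul, map_pow, hu₁, S.ht, ← hu₂]
        ring)
      rw [hue, mul_add]
      refine hadd (ih b' hb' u₁ hu₁ P) ?_
      rw [← mul_assoc, ← aeval_X_pow (R := A) (x := t) (n := k + 1), ← map_mul]
      exact hlin _ f hf u₂ hu₂

end Groth.Agent.RDPChain13.Setting
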