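import Groth.Agent.RDPChain13.Canon
import Groth.Agent.CMType13.Colength

/-! The trace functional on a chart of a point blow-up. -/

set_option autoImplicit false
set_option linter.style.haveILetI false

universe u

open IsLocalRing Polynomial

namespace Groth.Agent.RDPChain13

open CMType13 (IsPair)

/-- The chart of `x` of the blow-up of a local ring with a reduction `(x, y)` of reduction number one. -/
structure Setting {A L : Type u} [CommRing A] [IsLocalRing A] [CommRing L] [IsLocalRing L] [Algebra A L]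
    (J : Ideal A) (x y s : A) (t : L) : Prop where
  canon : Canon J
  pair : IsPair x y
  sq : maximalIdeal A ^ 2 = Ideal.span {x, y} * maximalIdeal A
  inj : Function.Injective (algebraMap A L)
  map_eq : (maximalIdeal A).map (algebraMap A L) = Ideal.span {algebraMap A L x}
  le : (maximalIdeal A).map (algebraMap A L) ≤ maximalIdeal L
  gen : ∀ u : L, ∃ n : ℕ, ∃ b ∈ maximalIdeal A ^ n, ∃ d ∈ maximalIdeal A ^ n,
    (maximalIdeal A).map (algebraMap A L) ^ n = Ideal.span {algebraMap A L d} ∧ algebraMap A L b = u * algebraMap A L d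
  ht : algebraMap A L y = algebraMap A L x * t
  s_mem : s ∈ maximalIdeal A * J
  s_not : s ∉ Ideal.span {x, y} * J
  s_soc : ∀ c ∈ maximalIdeal A, c * s ∈ Ideal.span {x, y} * J
  s_gen : ∀ v ∈ J, (∀ c ∈ maximalIdeal A, c * v ∈ Ideal.span {x, y} * J) → ∃ a, v - a * s ∈ Ideal.span {x, y} * J

namespace Setting

variable {A L : Type u} [CommRing A] [IsLocalRing A] [CommRing L] [IsLocalRing L] [IsDomain L] [Algebra A L]
  {J : Ideal A} {x y s : A} {t : L}

local notation "m" => IsLocalRing.maximalIdeal A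
local notation "φ" => algebraMap A L

theorem x_mem (S : Setting J x y s t) : x ∈ m := S.pair.1 (Ideal.subset_span (by simp))

theorem X_ne (S : Setting J x y s t) : φ x ≠ 0 := fun h => S.pair.2.1 (S.inj (h.trans (map_zero _).symm))

/-- Elements of the chart. -/
def InC (_ : Setting J x y s t) (u : L) : Prop := ∃ n : ℕ, ∃ b ∈ m ^ n, φ b = u * φ x ^ n

/-- Elements of the transform of the ideal on the chart. -/
def InJ (_ : Setting J x y s t) (u : L) : Prop := ∃ n : ℕ, ∃ b ∈ m ^ n * J, φ b = u * φ x ^ n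

theorem inC_algebraMap (S : Setting J x y s t) (a : A) : S.InC (φ a) := ⟨0, a, by simp, by simp⟩

theorem inC_t (S : Setting J x y s t) : S.InC t :=
  ⟨1, y, by simpa using S.pair.1 (Ideal.subset_span (by simp)), by rw [S.ht]; ring⟩

theorem inC_mul (S : Setting J x y s t) {u v : L} (hu : S.InC u) (hv : S.InC v) : S.InC (u * v) := by
  obtain ⟨n, b, hb, e⟩ := hu
  obtain ⟨k, c, hc, e'⟩ := hv
  exact ⟨n + k, b * c, by rw [pow_add]; exact Ideal.mul_mem_mul hb hc, by rw [map_mul, e, e']; ring⟩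

theorem inC_add (S : Setting J x y s t) {u v : L} (hu : S.InC u) (hv : S.InC v) : S.InC (u + v) := by
  obtain ⟨n, b, hb, e⟩ := hu
  obtain ⟨k, c, hc, e'⟩ := hv
  refine ⟨n + k, b * x ^ k + c * x ^ n, add_mem ?_ ?_, by rw [map_add, map_mul, map_mul, e, e', map_pow, map_pow]; ring⟩
  · rw [pow_add]; exact Ideal.mul_mem_mul hb (Ideal.pow_mem_pow S.x_mem k)
  · rw [pow_add, mul_comm (m ^ n)]; exact Ideal.mul_mem_mul hc (Ideal.pow_mem_pow S.x_mem n)

theorem inJ_mul (S : Setting J x y s t) {u v : L} (hu : S.InC u) (hv : S.InJ v) : S.InJ (u * v) := by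
  obtain ⟨n, b, hb, e⟩ := hu
  obtain ⟨k, c, hc, e'⟩ := hv
  exact ⟨n + k, b * c, by rw [pow_add, mul_assoc]; exact Ideal.mul_mem_mul hb hc, by rw [map_mul, e, e']; ring⟩

theorem inJ_add (S : Setting J x y s t) {u v : L} (hu : S.InJ u) (hv : S.InJ v) : S.InJ (u + v) := by
  obtain ⟨n, b, hb, e⟩ := hu
  obtain ⟨k, c, hc, e'⟩ := hv
  refine ⟨n + k, b * x ^ k + c * x ^ n, add_mem ?_ ?_, by rw [map_add, map_mul, map_mul, e, e', map_pow, map_pow]; ring⟩
  · rw [pow_add, mul_comm (m ^ n), mul_assoc, mul_comm b]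
    exact Ideal.mul_mem_mul (Ideal.pow_mem_pow S.x_mem k) hb
  · rw [pow_add, mul_assoc, mul_comm c]
    exact Ideal.mul_mem_mul (Ideal.pow_mem_pow S.x_mem n) hc

theorem inJ_algebraMap (S : Setting J x y s t) {a : A} (ha : a ∈ J) : S.InJ (φ a) := ⟨0, a, by simpa using ha, by simp⟩

theorem exists_unit_inC (S : Setting J x y s t) (u : L) : ∃ e : L, IsUnit e ∧ S.InC e ∧ S.InC (u * e) := by
  obtain ⟨n, b, hb, d, hd, hspan, hbd⟩ := S.gen u
  rw [S.map_eq, Ideal.span_singleton_pow, Ideal.span_singleton_eq_span_singleton] at hspan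
  obtain ⟨v, hv⟩ := hspan
  exact ⟨v, v.isUnit, ⟨n, d, hd, by rw [← hv]; ring⟩, ⟨n, b, hb, by rw [hbd, ← hv]; ring⟩⟩

theorem exists_unit_inJ (S : Setting J x y s t) {v : L} (hv : v ∈ J.map φ) :
    ∃ e : L, IsUnit e ∧ S.InC e ∧ S.InJ (v * e) := by
  induction hv using Submodule.span_induction with
  | mem v hv =>
    obtain ⟨a, ha, rfl⟩ := hv
    exact ⟨1, isUnit_one, by simpa using S.inC_algebraMap 1, by simpa using S.inJ_algebraMap ha⟩
  | zero => exact ⟨1, isUnit_one, by simpa using S.inC_algebraMap 1, by simpa using S.inJ_algebraMap (zero_mem J)⟩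
  | add v w _ _ hv hw =>
    obtain ⟨e, he, hec, hev⟩ := hv
    obtain ⟨f, hf, hfc, hfw⟩ := hw
    refine ⟨e * f, he.mul hf, S.inC_mul hec hfc, ?_⟩
    rw [show (v + w) * (e * f) = f * (v * e) + e * (w * f) by ring]
    exact S.inJ_add (S.inJ_mul hfc hev) (S.inJ_mul hec hfw)
  | smul a v _ hv =>
    obtain ⟨e, he, hec, hev⟩ := hv
    obtain ⟨f, hf, hfc, hfa⟩ := S.exists_unit_inC a
    refine ⟨e * f, he.mul hf, S.inC_mul hec hfc, ?_⟩
    rw [smul_eq_mul, show a * v * (e * f) = (a * f) * (v * e) by ring]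
    exact S.inJ_mul hfa hev

theorem pow_succ_eq (S : Setting J x y s t) (n : ℕ) : m ^ (n + 1) = Ideal.span {x, y} ^ n * m := by
  induction n with
  | zero => simp
  | succ n ih => rw [pow_succ, ih, mul_assoc, ← pow_two, S.sq, ← mul_assoc, ← pow_succ]

theorem span_smul_le (S : Setting J x y s t) {v : A} (hv : v ∈ Ideal.span {x, y} * J) :
    φ v ∈ Ideal.span {φ x} * J.map φ := by
  have h := Ideal.mem_map_of_mem φ hv
  rw [Ideal.map_mul, Ideal.map_span, Set.image_pair, S.ht] at h
  refine Ideal.mul_mono_left ?_ h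
  rw [Ideal.span_le]
  rintro _ (rfl | rfl)
  · exact Ideal.mem_span_singleton_self _
  · exact Ideal.mul_mem_right _ _ (Ideal.mem_span_singleton_self _)

omit [IsLocalRing A] [IsLocalRing L] [IsDomain L] [Algebra A L] in
theorem pair_pow_succ (x y : A) (n : ℕ) :
    (Ideal.span {x, y}) ^ (n + 1) = Ideal.span {x} * (Ideal.span {x, y}) ^ n ⊔ Ideal.span {y ^ (n + 1)} := by
  rw [← Ideal.span_singleton_pow, Ideal.span_insert x {y}]
  exact CMType13.sup_pow_succ _ _ n

variable [IsDomain A]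

omit [IsLocalRing L] [IsDomain L] in
theorem mem_of_sum {J : Ideal A} (hreg : ∀ v ∈ J, y * v ∈ Ideal.span {x} * J → v ∈ Ideal.span {x} * J) (hx : x ≠ 0) :
    ∀ (n : ℕ) (d : ℕ → A), (∀ i, d i ∈ J) →
      ∑ i ∈ Finset.range (n + 1), x ^ (n - i) * y ^ i * d i ∈ Ideal.span {x, y} ^ (n + 1) * J →
      ∀ i ≤ n, d i ∈ Ideal.span {x, y} * J := by
  have hregn : ∀ (n : ℕ) (v : A), v ∈ J → y ^ n * v ∈ Ideal.span {x} * J → v ∈ Ideal.span {x} * J := by
    intro n
    induction n with
    | zero => exact fun v _ h => by simpa using h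
    | succ n ih =>
      intro v hv h
      exact ih v hv (hreg _ (Ideal.mul_mem_left _ _ hv) (by rwa [← mul_assoc, ← pow_succ']))
  intro n
  induction n with
  | zero =>
    intro d _ h i hi
    obtain rfl : i = 0 := by omega
    simpa using h
  | succ n ih =>
    intro d hd h
    rw [pair_pow_succ x y (n + 1), Ideal.sup_mul, Submodule.mem_sup] at h
    obtain ⟨e₁, he₁, e₂, he₂, he⟩ := h
    rw [mul_assoc] at he₁
    obtain ⟨e, he', rfl⟩ := Ideal.mem_span_singleton_mul.1 he₁
    obtain ⟨f, hf, rfl⟩ := Ideal.mem_span_singleton_mul.1 he₂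
    set S' := ∑ i ∈ Finset.range (n + 1), x ^ (n - i) * y ^ i * d i
    have hS : ∑ i ∈ Finset.range (n + 1 + 1), x ^ (n + 1 - i) * y ^ i * d i = x * S' + y ^ (n + 1) * d (n + 1) := by
      rw [Finset.sum_range_succ, Nat.sub_self, pow_zero, one_mul, Finset.mul_sum]
      congr 1
      refine Finset.sum_congr rfl fun i hi => ?_
      rw [show n + 1 - i = (n - i) + 1 by have := Finset.mem_range.1 hi; omega, pow_succ]
      ring
    rw [hS] at he
    have hSJ : S' ∈ J := sum_mem fun i _ => Ideal.mul_mem_left _ _ (hd i)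
    obtain ⟨h', hh', hhe⟩ := Ideal.mem_span_singleton_mul.1 (hregn (n + 1) (d (n + 1) - y * f)
      (sub_mem (hd _) (Ideal.mul_mem_left _ _ hf))
      (Ideal.mem_span_singleton_mul.2 ⟨e - S', sub_mem ((Ideal.mul_le_right : Ideal.span {x, y} ^ (n + 1) * J ≤ J) he') hSJ, by linear_combination he⟩))
    have hrec : S' ∈ Ideal.span {x, y} ^ (n + 1) * J := by
      rw [show S' = e - y ^ (n + 1) * h' from mul_left_cancel₀ hx (by linear_combination -he + y ^ (n + 1) * hhe)]
      exact sub_mem he' (Ideal.mul_mem_mul (Ideal.pow_mem_pow (Ideal.subset_span (by simp)) _) hh')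
    intro i hi
    rcases Nat.lt_or_ge n i with h1 | h1
    · obtain rfl : i = n + 1 := by omega
      exact mem_pair_mul.2 ⟨h', hh', f, hf, by linear_combination hhe⟩
    · exact ih d hd hrec i h1

theorem exists_decomp (S : Setting J x y s t) (b : A) (hb : b ∈ m * J) : ∃ a, b - a * s ∈ Ideal.span {x, y} * J := by
  have hbJ : b ∈ J := (Ideal.mul_le_right : m * J ≤ J) hb
  refine S.s_gen b hbJ fun c hc => ?_
  have h : c * b ∈ m ^ 2 * J := by rw [pow_two, mul_assoc]; exact Ideal.mul_mem_mul hc hb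
  rw [S.sq, mul_assoc] at h
  exact Ideal.mul_mono_right (Ideal.mul_le_right : m * J ≤ J) h

/-- The coefficient of the socle generator. -/
noncomputable def coef (S : Setting J x y s t) (b : A) : ResidueField A :=
  open scoped Classical in if h : b ∈ m * J then residue A (S.exists_decomp b h).choose else 0

theorem residue_eq (S : Setting J x y s t) {a a' : A} (h : (a - a') * s ∈ Ideal.span {x, y} * J) :
    residue A a = residue A a' := by
  rw [← sub_eq_zero, ← map_sub, residue_eq_zero_iff]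
  intro hu
  obtain ⟨u, hu⟩ := hu
  refine S.s_not ?_
  have := Ideal.mul_mem_left _ (↑u⁻¹ : A) h
  rwa [← hu, ← mul_assoc, Units.inv_mul, one_mul] at this

theorem coef_eq (S : Setting J x y s t) {b a : A} (hb : b ∈ m * J) (h : b - a * s ∈ Ideal.span {x, y} * J) :
    S.coef b = residue A a := by
  classical
  rw [coef, dif_pos hb]
  refine S.residue_eq ?_
  rw [show ((S.exists_decomp b hb).choose - a) * s = (b - a * s) - (b - (S.exists_decomp b hb).choose * s) by ring]
  exact sub_mem h (S.exists_decomp b hb).choose_spec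

theorem coef_add (S : Setting J x y s t) {b c : A} (hb : b ∈ m * J) (hc : c ∈ m * J) :
    S.coef (b + c) = S.coef b + S.coef c := by
  obtain ⟨a, ha⟩ := S.exists_decomp b hb
  obtain ⟨a', ha'⟩ := S.exists_decomp c hc
  rw [S.coef_eq hb ha, S.coef_eq hc ha', ← map_add]
  exact S.coef_eq (add_mem hb hc) (by convert add_mem ha ha' using 1; ring)

theorem coef_mul (S : Setting J x y s t) (r : A) {b : A} (hb : b ∈ m * J) :
    S.coef (r * b) = residue A r * S.coef b := by
  obtain ⟨a, ha⟩ := S.exists_decomp b hb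
  rw [S.coef_eq hb ha, ← map_mul]
  exact S.coef_eq (Ideal.mul_mem_left _ _ hb) (by convert Ideal.mul_mem_left _ r ha using 1; ring)

theorem coef_zero (S : Setting J x y s t) : S.coef 0 = 0 := by
  simpa using S.coef_mul 0 (zero_mem (m * J))

theorem coef_eq_zero_of_mem (S : Setting J x y s t) {b : A} (hb : b ∈ m * J) (h : b ∈ Ideal.span {x, y} * J) :
    S.coef b = 0 := by
  rw [S.coef_eq hb (a := 0) (by simpa using h), map_zero]

/-- `q` is the trace of `v`. -/
def Rel (S : Setting J x y s t) (v : L) (q : (ResidueField A)[X]) : Prop :=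
  ∃ (n : ℕ) (b : ℕ → A), (∀ i, b i ∈ m * J) ∧
    φ (∑ i ∈ Finset.range (n + 1), x ^ (n - i) * y ^ i * b i) = v * φ x ^ (n + 1) ∧
    q = ∑ i ∈ Finset.range (n + 1), monomial i (S.coef (b i))

theorem sum_eq_smul (S : Setting J x y s t) (n : ℕ) (b : ℕ → A) :
    φ (∑ i ∈ Finset.range (n + 1), x ^ (n - i) * y ^ i * b i) =
      φ x ^ n * ∑ i ∈ Finset.range (n + 1), t ^ i * φ (b i) := by
  rw [map_sum, Finset.mul_sum]
  refine Finset.sum_congr rfl fun i hi => ?_
  have hin := Finset.mem_range.1 hi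
  simp only [map_mul, map_pow, S.ht, mul_pow]
  conv_rhs => rw [show n = (n - i) + i by omega, pow_add]
  ring

theorem rel_pad (S : Setting J x y s t) {v : L} {n : ℕ} {b : ℕ → A} (hb : ∀ i, b i ∈ m * J)
    (h : φ (∑ i ∈ Finset.range (n + 1), x ^ (n - i) * y ^ i * b i) = v * φ x ^ (n + 1)) {N : ℕ} (hN : n ≤ N) :
    ∃ b' : ℕ → A, (∀ i, b' i ∈ m * J) ∧
      φ (∑ i ∈ Finset.range (N + 1), x ^ (N - i) * y ^ i * b' i) = v * φ x ^ (N + 1) ∧
      ∑ i ∈ Finset.range (n + 1), monomial i (S.coef (b i)) = ∑ i ∈ Finset.range (N + 1), monomial i (S.coef (b' i)) := by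
  classical
  let b' : ℕ → A := fun i => if i ≤ n then b i else 0
  have hzero : ∀ i ∈ Finset.range (N + 1), i ∉ Finset.range (n + 1) → b' i = 0 := fun i _ hi => by
    simp only [Finset.mem_range] at hi
    exact if_neg (by omega)
  have hsame : ∀ i ∈ Finset.range (n + 1), b' i = b i := fun i hi => by
    simp only [Finset.mem_range] at hi
    exact if_pos (by omega)
  have hsub : Finset.range (n + 1) ⊆ Finset.range (N + 1) := Finset.range_mono (by omega)
  refine ⟨b', fun i => ?_, ?_, ?_⟩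
  · show (if i ≤ n then b i else 0) ∈ m * J
    split_ifs
    · exact hb i
    · exact zero_mem _
  · rw [S.sum_eq_smul] at h ⊢
    rw [← Finset.sum_subset hsub (fun i hi hi' => by rw [hzero i hi hi', map_zero, mul_zero]),
      Finset.sum_congr rfl (fun i hi => by rw [hsame i hi] : ∀ i ∈ Finset.range (n + 1), t ^ i * φ (b' i) = t ^ i * φ (b i))]
    obtain ⟨k, rfl⟩ := Nat.exists_eq_add_of_le hN
    rw [pow_add, mul_comm (φ x ^ n), mul_assoc, h]
    ring
  · rw [← Finset.sum_subset hsub (fun i hi hi' => by rw [hzero i hi hi', S.coef_zero, map_zero])]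
    exact Finset.sum_congr rfl fun i hi => by rw [hsame i hi]

theorem rel_unique (S : Setting J x y s t) {v : L} {q q' : (ResidueField A)[X]} (h : S.Rel v q) (h' : S.Rel v q') :
    q = q' := by
  obtain ⟨n, b, hb, e, rfl⟩ := h
  obtain ⟨n', b', hb', e', rfl⟩ := h'
  obtain ⟨c, hc, ec, hq⟩ := S.rel_pad hb e (Nat.le_max_left n n')
  obtain ⟨c', hc', ec', hq'⟩ := S.rel_pad hb' e' (Nat.le_max_right n n')
  rw [hq, hq']
  generalize max n n' = N at ec ec'
  have h0 : ∑ i ∈ Finset.range (N + 1), x ^ (N - i) * y ^ i * (c i - c' i) = 0 := by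
    simp only [mul_sub, Finset.sum_sub_distrib, S.inj (ec.trans ec'.symm), sub_self]
  have h1 := mem_of_sum (fun v hv hyv => S.canon.reg S.pair hv hyv) S.pair.2.1 N (fun i => c i - c' i)
    (fun i => (Ideal.mul_le_right : m * J ≤ J) (sub_mem (hc i) (hc' i))) (by rw [h0]; exact zero_mem _)
  refine Finset.sum_congr rfl fun i hi => ?_
  have h2 := S.coef_eq_zero_of_mem (sub_mem (hc i) (hc' i)) (h1 i (by have := Finset.mem_range.1 hi; omega))
  rw [show c i = (c i - c' i) + c' i by ring, S.coef_add (sub_mem (hc i) (hc' i)) (hc' i), h2, zero_add]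

theorem exists_rel (S : Setting J x y s t) {v : L} (hv : S.InJ v) : ∃ q, S.Rel v q := by
  obtain ⟨n, b, hb, e⟩ := hv
  obtain ⟨k, b, hb, e⟩ : ∃ k : ℕ, ∃ b ∈ m ^ (k + 1) * J, φ b = v * φ x ^ (k + 1) := ⟨n, x * b,
    by rw [pow_succ', mul_assoc]; exact Ideal.mul_mem_mul S.x_mem hb, by rw [map_mul, e]; ring⟩
  rw [S.pow_succ_eq, mul_assoc] at hb
  suffices h : ∀ b ∈ Ideal.span {x, y} ^ k * (m * J), ∃ d : ℕ → A, (∀ i, d i ∈ m * J) ∧
      b = ∑ i ∈ Finset.range (k + 1), x ^ (k - i) * y ^ i * d i by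
    obtain ⟨d, hd, rfl⟩ := h b hb
    exact ⟨_, k, d, hd, e, rfl⟩
  clear e hb b
  induction k with
  | zero => exact fun b hb => ⟨fun _ => b, fun _ => by simpa using hb, by simp⟩
  | succ k ih =>
    intro b hb
    rw [pair_pow_succ x y k, Ideal.sup_mul, Submodule.mem_sup] at hb
    obtain ⟨b₁, hb₁, b₂, hb₂, rfl⟩ := hb
    rw [mul_assoc] at hb₁
    obtain ⟨c, hc, rfl⟩ := Ideal.mem_span_singleton_mul.1 hb₁
    obtain ⟨f, hf, rfl⟩ := Ideal.mem_span_singleton_mul.1 hb₂
    obtain ⟨d, hd, rfl⟩ := ih c hc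
    refine ⟨fun i => if i ≤ k then d i else f, fun i => ?_, ?_⟩
    · show (if i ≤ k then d i else f) ∈ m * J
      split_ifs
      · exact hd i
      · exact hf
    · rw [Finset.sum_range_succ _ (k + 1)]
      simp only [if_neg (show ¬ k + 1 ≤ k by omega)]
      rw [Nat.sub_self, pow_zero, one_mul, Finset.mul_sum]
      congr 1
      refine Finset.sum_congr rfl fun i hi => ?_
      have := Finset.mem_range.1 hi
      rw [if_pos (by omega), show k + 1 - i = (k - i) + 1 by omega, pow_succ]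
      ring

/-- The trace functional. -/
noncomputable def eps (S : Setting J x y s t) (v : L) : (ResidueField A)[X] :=
  open scoped Classical in if h : S.InJ v then (S.exists_rel h).choose else 0

theorem eps_eq (S : Setting J x y s t) {v : L} (hv : S.InJ v) {q : (ResidueField A)[X]} (h : S.Rel v q) :
    S.eps v = q := by
  classical
  rw [eps, dif_pos hv]
  exact S.rel_unique (S.exists_rel hv).choose_spec h

theorem rel_eps (S : Setting J x y s t) {v : L} (hv : S.InJ v) : S.Rel v (S.eps v) := by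
  classical
  rw [eps, dif_pos hv]
  exact (S.exists_rel hv).choose_spec

theorem eps_add (S : Setting J x y s t) {v w : L} (hv : S.InJ v) (hw : S.InJ w) :
    S.eps (v + w) = S.eps v + S.eps w := by
  obtain ⟨n, b, hb, e, hq⟩ := S.rel_eps hv
  obtain ⟨k, c, hc, e', hq'⟩ := S.rel_eps hw
  obtain ⟨b', hb', eb, hqb⟩ := S.rel_pad hb e (Nat.le_max_left n k)
  obtain ⟨c', hc', ec, hqc⟩ := S.rel_pad hc e' (Nat.le_max_right n k)
  refine S.eps_eq (S.inJ_add hv hw) ⟨max n k, fun i => b' i + c' i, fun i => add_mem (hb' i) (hc' i), ?_, ?_⟩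
  · simp only [mul_add, Finset.sum_add_distrib, map_add, eb, ec]
    ring
  · rw [hq, hq', hqb, hqc, ← Finset.sum_add_distrib]
    exact Finset.sum_congr rfl fun i _ => by rw [S.coef_add (hb' i) (hc' i), map_add]

theorem eps_algebraMap_mul (S : Setting J x y s t) (r : A) {v : L} (hv : S.InJ v) :
    S.eps (φ r * v) = C (residue A r) * S.eps v := by
  obtain ⟨n, b, hb, e, hq⟩ := S.rel_eps hv
  refine S.eps_eq (S.inJ_mul (S.inC_algebraMap r) hv) ⟨n, fun i => r * b i, fun i => Ideal.mul_mem_left _ _ (hb i), ?_, ?_⟩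
  · rw [show ∑ i ∈ Finset.range (n + 1), x ^ (n - i) * y ^ i * (r * b i) =
      r * ∑ i ∈ Finset.range (n + 1), x ^ (n - i) * y ^ i * b i by
        rw [Finset.mul_sum]; exact Finset.sum_congr rfl fun i _ => by ring, map_mul, e]
    ring
  · rw [hq, Finset.mul_sum]
    exact Finset.sum_congr rfl fun i _ => by rw [S.coef_mul r (hb i), C_mul_monomial]

theorem eps_t_mul (S : Setting J x y s t) {v : L} (hv : S.InJ v) : S.eps (t * v) = X * S.eps v := by
  obtain ⟨n, b, hb, e, hq⟩ := S.rel_eps hv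
  classical
  refine S.eps_eq (S.inJ_mul S.inC_t hv) ⟨n + 1, fun i => if i = 0 then 0 else b (i - 1), fun i => ?_, ?_, ?_⟩
  · show (if i = 0 then 0 else b (i - 1)) ∈ m * J
    split_ifs
    · exact zero_mem _
    · exact hb _
  · rw [S.sum_eq_smul] at e ⊢
    rw [Finset.sum_range_succ']
    simp only [if_pos, map_zero, mul_zero, add_zero, Nat.add_eq_zero_iff, one_ne_zero, and_false, if_false,
      add_tsub_cancel_right]
    rw [show ∑ i ∈ Finset.range (n + 1), t ^ (i + 1) * φ (b i) = t * ∑ i ∈ Finset.range (n + 1), t ^ i * φ (b i) by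
      rw [Finset.mul_sum]; exact Finset.sum_congr rfl fun i _ => by ring]
    rw [pow_succ, show φ x ^ n * φ x * (t * ∑ i ∈ Finset.range (n + 1), t ^ i * φ (b i)) =
      φ x * t * (φ x ^ n * ∑ i ∈ Finset.range (n + 1), t ^ i * φ (b i)) by ring, e]
    ring
  · rw [hq, Finset.mul_sum]
    conv_rhs => rw [Finset.sum_range_succ']
    simp only [if_pos, S.coef_zero, map_zero, add_zero, Nat.add_eq_zero_iff, one_ne_zero, and_false, if_false,
      add_tsub_cancel_right, X_mul_monomial]

theorem eps_x_mul (S : Setting J x y s t) {v : L} (hv : S.InJ v) : S.eps (φ x * v) = 0 := by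
  rw [S.eps_algebraMap_mul x hv, (residue_eq_zero_iff x).2 S.x_mem, C_0, zero_mul]

theorem eps_zero (S : Setting J x y s t) : S.eps 0 = 0 := by
  have h : S.InJ (0 : L) := by simpa using S.inJ_algebraMap (zero_mem J)
  simpa using S.eps_algebraMap_mul 0 h

theorem eps_aeval_mul (S : Setting J x y s t) (P : A[X]) {v : L} (hv : S.InJ v) :
    S.InJ (aeval t P * v) ∧ S.eps (aeval t P * v) = P.map (residue A) * S.eps v := by
  induction P using Polynomial.induction_on with
  | C a => simp [S.inJ_mul (S.inC_algebraMap a) hv, S.eps_algebraMap_mul a hv]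
  | add p q hp hq =>
    rw [map_add, add_mul, Polynomial.map_add, add_mul, S.eps_add hp.1 hq.1, hp.2, hq.2]
    exact ⟨S.inJ_add hp.1 hq.1, rfl⟩
  | monomial n a ih =>
    rw [show aeval t (C a * X ^ (n + 1)) * v = t * (aeval t (C a * X ^ n) * v) by simp; ring,
      S.eps_t_mul ih.1, ih.2]
    exact ⟨S.inJ_mul S.inC_t ih.1, by simp; ring⟩

theorem eps_div (S : Setting J x y s t) {w : L} {b : A} (hb : b ∈ m * J) (hw : w * φ x = φ b) :
    S.InJ w ∧ S.eps w = C (S.coef b) := by
  have h : S.InJ w := ⟨1, b, by simpa using hb, by rw [pow_one, hw]⟩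
  exact ⟨h, S.eps_eq h ⟨0, fun _ => b, fun _ => hb, by simpa using hw.symm, by simp⟩⟩

end Setting

end Groth.Agent.RDPChain13
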