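import Groth.Agent.RDPChain13.Propagate

/-! The transform of an ideal of type one is of type one. -/

set_option autoImplicit false
set_option linter.style.haveILetI false
set_option linter.unusedSectionVars false
set_option maxHeartbeats 1000000

universe u

open IsLocalRing Polynomial

namespace Groth.Agent.RDPChain13.Setting

open CMType13 (IsPair)

variable {A L : Type u} [CommRing A] [IsLocalRing A] [IsDomain A] [IsNoetherianRing A] [CommRing L] [IsLocalRing L] [IsDomain L] [Algebra A L]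
  {J : Ideal A} {x y s : A} {t : L}

local notation "m" => IsLocalRing.maximalIdeal A
local notation "φ" => algebraMap A L

theorem mem_of_integral (S : Setting J x y s t) (Q : Ideal L) [Q.IsPrime] (hQ : φ x ∈ Q) {c : L}
    (hc : c ∈ maximalIdeal L) : ∀ (n : ℕ) (P : A[X]), P.natDegree = n → P.Monic → aeval c P ∈ Q → c ∈ Q := by
  intro n
  induction n with
  | zero =>
    intro P hn hP h
    rw [(Monic.natDegree_eq_zero hP).1 hn, map_one] at h
    exact absurd ((Ideal.eq_top_iff_one Q).2 h) Ideal.IsPrime.ne_top'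
  | succ n ih =>
    intro P hn hP h
    have hsplit := congrArg (aeval c) (X_mul_divX_add P)
    rw [map_add, map_mul, aeval_X, aeval_C] at hsplit
    have hQm : Q ≤ maximalIdeal L := le_maximalIdeal Ideal.IsPrime.ne_top'
    have ha : P.coeff 0 ∈ m := by
      by_contra hu
      have : φ (P.coeff 0) ∈ maximalIdeal L := by
        rw [eq_sub_of_add_eq' hsplit]
        exact sub_mem (hQm h) (Ideal.mul_mem_right _ _ hc)
      exact this ((not_not.1 hu).map φ)
    have h2 : c * aeval c P.divX ∈ Q := by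
      rw [eq_sub_of_add_eq hsplit]
      exact sub_mem h (((Ideal.span_singleton_le_iff_mem _).2 hQ) (S.mem_L_of_mem ha))
    refine (Ideal.IsPrime.mem_or_mem ‹_› h2).elim id (fun h3 => ih P.divX ?_ ?_ h3)
    · rw [natDegree_divX_eq_natDegree_tsub_one, hn, Nat.add_sub_cancel]
    · show P.divX.coeff P.divX.natDegree = 1
      rw [coeff_divX, natDegree_divX_eq_natDegree_tsub_one, hn, Nat.add_sub_cancel, ← hn]
      exact hP

theorem inC_sub (S : Setting J x y s t) {u v : L} (hu : S.InC u) (hv : S.InC v) : S.InC (u - v) := by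
  have := S.inC_add hu (S.inC_mul (S.inC_algebraMap (-1)) hv)
  rwa [map_neg, map_one, neg_one_mul, ← sub_eq_add_neg] at this

theorem inJ_sub (S : Setting J x y s t) {u v : L} (hu : S.InJ u) (hv : S.InJ v) : S.InJ (u - v) := by
  have := S.inJ_add hu (S.inJ_mul (S.inC_algebraMap (-1)) hv)
  rwa [map_neg, map_one, neg_one_mul, ← sub_eq_add_neg] at this

theorem eps_sub (S : Setting J x y s t) {u v : L} (hu : S.InJ u) (hv : S.InJ v) : S.eps (u - v) = S.eps u - S.eps v := by
  rw [eq_sub_iff_add_eq, ← S.eps_add (S.inJ_sub hu hv) hv, sub_add_cancel]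

/-- The image of the chart in a domain where `X` and `p(t)` vanish is finite. -/
theorem exists_subalgebra (S : Setting J x y s t) {p : A[X]} (hp : p.Monic) {D : Type u} [CommRing D] [Algebra A D]
    (f : L →ₐ[A] D) (hY : f (aeval t p) = 0) :
    ∃ V : Subalgebra A D, V.toSubmodule.FG ∧ (∀ c, S.InC c → f c ∈ V) ∧ ∀ v ∈ V, ∃ c, S.InC c ∧ f c = v := by
  obtain ⟨M, hM, hMC, hrep⟩ := S.exists_reps hp
  have key : ∀ c, S.InC c → f c ∈ M.map f.toLinearMap := fun c hc => by
    obtain ⟨d, -, hd⟩ := hrep c hc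
    exact ⟨_, hd, by show f _ = f c; rw [map_sub, map_mul, hY, zero_mul, sub_zero]⟩
  refine ⟨(M.map f.toLinearMap).toSubalgebra ?_ ?_, hM.map _, key, ?_⟩
  · have := key 1 (by simpa using S.inC_algebraMap 1)
    rwa [map_one] at this
  · rintro _ _ ⟨u, hu, rfl⟩ ⟨v, hv, rfl⟩
    have := key (u * v) (S.inC_mul (hMC u hu) (hMC v hv))
    rwa [map_mul] at this
  · rintro _ ⟨u, hu, rfl⟩
    exact ⟨u, hMC u hu, rfl⟩

theorem isPair (S : Setting J x y s t) [IsNoetherianRing L] (hdim : ringKrullDim L = 2) {p : A[X]} (hp : p.Monic)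
    (hY : aeval t p ∈ maximalIdeal L) : IsPair (φ x) (aeval t p) := by
  have hX : φ x ∈ maximalIdeal L := S.le (Ideal.mem_map_of_mem φ S.x_mem)
  have hpow : ∃ k : ℕ, maximalIdeal L ^ k ≤ Ideal.span {φ x, aeval t p} := by
    refine Ideal.exists_pow_le_of_le_radical_of_fg ?_ (IsNoetherian.noetherian _)
    rw [Ideal.radical_eq_sInf]
    refine le_sInf fun Q hQ => ?_
    haveI := hQ.2
    have hXQ : φ x ∈ Q := hQ.1 (Ideal.subset_span (by simp))
    intro u hu
    obtain ⟨e, he, -, hue⟩ := S.exists_unit_inC u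
    refine (Ideal.mul_unit_mem_iff_mem _ he).1 ?_
    obtain ⟨V, hV, hVC, -⟩ := S.exists_subalgebra hp (Ideal.Quotient.mkₐ A Q)
      (Ideal.Quotient.eq_zero_iff_mem.2 (hQ.1 (Ideal.subset_span (by simp))))
    obtain ⟨P, hP, hPe⟩ := IsIntegral.of_mem_of_fg V hV _ (hVC _ hue)
    refine S.mem_of_integral Q hXQ (Ideal.mul_mem_right _ _ hu) _ P rfl hP ?_
    rw [← Ideal.Quotient.eq_zero_iff_mem, ← Ideal.Quotient.mkₐ_eq_mk A, ← aeval_algHom_apply]
    exact hPe
  refine ⟨Ideal.span_le.2 (Set.insert_subset hX (by simpa using hY)), S.X_ne, fun h0 => ?_, hpow⟩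
  obtain ⟨k, hk⟩ := hpow
  rw [h0, Set.pair_comm, Ideal.span_insert_zero] at hk
  have hmin : maximalIdeal L ∈ (Ideal.span {φ x}).minimalPrimes := by
    refine ⟨⟨(maximalIdeal.isMaximal L).isPrime, (Ideal.span_singleton_le_iff_mem _).2 hX⟩, fun Q hQ _ => ?_⟩
    haveI := hQ.1
    exact Ideal.IsPrime.le_of_pow_le (hk.trans hQ.2)
  haveI : (Ideal.span {φ x}).IsPrincipal := ⟨⟨φ x, rfl⟩⟩
  have h1 := Ideal.height_le_one_of_isPrincipal_of_mem_minimalPrimes _ _ hmin
  have h2 := IsLocalRing.maximalIdeal_height_eq_ringKrullDim (R := L)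
  rw [hdim] at h2
  have h4 : ((maximalIdeal L).height : WithBot ℕ∞) ≤ 1 := by exact_mod_cast h1
  rw [h2] at h4
  exact absurd h4 (by decide)

theorem inv_mem {K : Type u} [Field K] [Algebra A K] (hm : ∀ a ∈ m, algebraMap A K a = 0) (V : Subalgebra A K)
    {e : K} (he : e ∈ V) (he0 : e ≠ 0) : ∀ (n : ℕ) (P : A[X]), P.natDegree = n → P.Monic → aeval e P = 0 → e⁻¹ ∈ V := by
  intro n
  induction n with
  | zero =>
    intro P hn hP h
    rw [(Monic.natDegree_eq_zero hP).1 hn, map_one] at h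
    exact absurd h one_ne_zero
  | succ n ih =>
    intro P hn hP h
    have hsplit := congrArg (aeval e) (X_mul_divX_add P)
    rw [map_add, map_mul, aeval_X, aeval_C, h] at hsplit
    by_cases ha : P.coeff 0 ∈ m
    · rw [hm _ ha, add_zero] at hsplit
      refine ih P.divX ?_ ?_ ((mul_eq_zero.1 hsplit).resolve_left he0)
      · rw [natDegree_divX_eq_natDegree_tsub_one, hn, Nat.add_sub_cancel]
      · show P.divX.coeff P.divX.natDegree = 1
        rw [coeff_divX, natDegree_divX_eq_natDegree_tsub_one, hn, Nat.add_sub_cancel, ← hn]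
        exact hP
    · obtain ⟨v, hv⟩ := not_not.1 ha
      have : e⁻¹ = -(algebraMap A K (↑v⁻¹ : A) * aeval e P.divX) := by
        rw [inv_eq_of_mul_eq_one_right]
        have h1 : algebraMap A K (↑v⁻¹ : A) * algebraMap A K (P.coeff 0) = 1 := by
          rw [← map_mul, ← hv, Units.inv_mul, map_one]
        linear_combination h1 - algebraMap A K (↑v⁻¹ : A) * hsplit
      rw [this]
      refine V.neg_mem (V.mul_mem (V.algebraMap_mem _) ?_)
      rw [aeval_eq_sum_range]
      exact sum_mem fun i _ => V.smul_mem (V.pow_mem he i) _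

/-- Transforms of ideals of type one at the points of the chart are of type one. -/
theorem canon_map (S : Setting J x y s t) [IsNoetherianRing L] [IsIntegrallyClosed L] (hdim : ringKrullDim L = 2)
    (halg : ∃ P : A[X], P.Monic ∧ P.eval₂ φ t ∈ maximalIdeal L) : Canon (J.map φ) := by
  classical
  haveI : IsLocalHom φ := ⟨fun r hr => by
    by_contra h
    exact S.le (Ideal.mem_map_of_mem φ h) hr⟩
  let κ := ResidueField A
  let K := ResidueField L
  let τ : K := residue L t
  -- the monic polynomial of the point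
  have hint : IsIntegral κ τ := by
    obtain ⟨P, hP, hPt⟩ := halg
    refine ⟨P.map (residue A), hP.map _, ?_⟩
    rw [eval₂_map, show (algebraMap κ K).comp (residue A) = (residue L).comp φ from rfl, ← hom_eval₂]
    exact (residue_eq_zero_iff _).2 hPt
  obtain ⟨p, hp, -, hpm⟩ := lifts_and_degree_eq_and_monic
    ((mem_lifts _).2 (Polynomial.map_surjective (residue A) residue_surjective (minpoly κ τ))) (minpoly.monic hint)
  let Y := aeval t p
  have hY : Y ∈ maximalIdeal L := by
    rw [← residue_eq_zero_iff]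
    show residue L (aeval t p) = 0
    rw [aeval_def, hom_eval₂, show (residue L).comp φ = (algebraMap κ K).comp (residue A) from rfl, ← eval₂_map, hp]
    exact minpoly.aeval κ τ
  have hpair := S.isPair hdim hpm hY
  have hne : J.map φ ≠ ⊥ := fun h => S.canon.ne_bot ((Ideal.map_eq_bot_iff_of_injective S.inj).1 h)
  refine canon_of_pair hdim hne hpair (fun v hv hv' => S.regular hpm hv hv') ?_
  set I2 := Ideal.span ({φ x, Y} : Set L)
  by_cases hall : ∀ v ∈ J.map φ, (∀ c ∈ maximalIdeal L, c * v ∈ I2 * J.map φ) → v ∈ I2 * J.map φ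
  · exact ⟨0, zero_mem _, fun c _ => by simp, fun v hv h => ⟨0, by simpa using hall v hv h⟩⟩
  push Not at hall
  obtain ⟨v₁, hv₁, hv₁s, hv₁n⟩ := hall
  -- the residue field
  let π : L →ₐ[A] K := IsScalarTower.toAlgHom A L K
  have hπ : ∀ u : L, π u = residue L u := fun u => rfl
  obtain ⟨V, hVfg, hVC, hVlift⟩ := S.exists_subalgebra hpm π ((hπ _).trans ((residue_eq_zero_iff _).2 hY))
  have hm0 : ∀ a ∈ m, algebraMap A K a = 0 := fun a ha => by
    rw [IsScalarTower.algebraMap_apply A L K, ResidueField.algebraMap_eq, residue_eq_zero_iff]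
    exact S.le (Ideal.mem_map_of_mem φ ha)
  have htop : ∀ k : K, k ∈ V := by
    intro k
    obtain ⟨u, rfl⟩ := residue_surjective k
    obtain ⟨e, he, hec, hue⟩ := S.exists_unit_inC u
    have he0 : π e ≠ 0 := fun h => (residue_eq_zero_iff e).1 h he
    obtain ⟨P, hP, hPe⟩ := IsIntegral.of_mem_of_fg V hVfg _ (hVC e hec)
    have hi := inv_mem hm0 V (hVC e hec) he0 _ P rfl hP hPe
    have := V.mul_mem (hVC _ hue) hi
    rwa [map_mul, mul_assoc, mul_inv_cancel₀ he0, mul_one, hπ] at this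
  choose lift hliftC hlift using fun k => hVlift k (htop k)
  haveI : Module.Finite A K := ⟨by
    rw [show (⊤ : Submodule A K) = Subalgebra.toSubmodule V from (eq_top_iff.2 fun k _ => htop k).symm]
    exact hVfg⟩
  haveI : Module.Finite κ K := Module.Finite.of_restrictScalars_finite A κ K
  -- good representatives
  obtain ⟨M, hM, hMC, hrep⟩ := S.exists_reps hpm
  haveI : IsNoetherian A M := isNoetherian_of_fg_of_noetherian M hM
  let Mm : Submodule A L := M ⊓ (maximalIdeal L).restrictScalars A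
  obtain ⟨G, hG⟩ : Mm.FG := by
    have h := (IsNoetherian.noetherian (Mm.comap M.subtype)).map M.subtype
    rwa [Submodule.map_comap_subtype, inf_eq_right.2 (inf_le_left : Mm ≤ M)] at h
  let Good : L → Prop := fun v => S.InJ v ∧ ∀ c, S.InC c → c ∈ maximalIdeal L → p.map (residue A) ∣ S.eps (c * v)
  have hgood : ∀ v ∈ J.map φ, (∀ c ∈ maximalIdeal L, c * v ∈ I2 * J.map φ) → ∃ e : L, IsUnit e ∧ Good (v * e) := by
    intro v hv hvs
    obtain ⟨e₀, he₀, he₀c, hve₀⟩ := S.exists_unit_inJ hv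
    have hg : ∀ g : G, ∃ e α β : L, IsUnit e ∧ S.InC e ∧ S.InJ α ∧ S.InJ β ∧ (g : L) * v * e = φ x * α + Y * β := by
      intro g
      have hgm : (g : L) ∈ maximalIdeal L := (hG ▸ Submodule.subset_span g.2 : (g : L) ∈ Mm).2
      obtain ⟨α, hα, β, hβ, he⟩ := mem_pair_mul.1 (hvs _ hgm)
      obtain ⟨e, heu, hec, hαe, hβe⟩ := S.exists_common_unit hα hβ
      exact ⟨e, α * e, β * e, heu, hec, hαe, hβe, by rw [← he]; ring⟩
    choose e α β heu hec hα hβ heq using hg
    let E := ∏ g : G, e g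
    have hEC : ∀ T : Finset G, S.InC (∏ g ∈ T, e g) := fun T => by
      induction T using Finset.induction with
      | empty => simpa using S.inC_algebraMap 1
      | insert g T hg ih => rw [Finset.prod_insert hg]; exact S.inC_mul (hec g) ih
    have hve : S.InJ (v * (e₀ * E)) := by
      rw [show v * (e₀ * E) = E * (v * e₀) by ring]; exact S.inJ_mul (hEC _) hve₀
    refine ⟨e₀ * E, he₀.mul (IsUnit.prod_iff.2 fun g _ => heu g), hve, fun c hc hcm => ?_⟩
    obtain ⟨d, hd, hdM⟩ := hrep c hc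
    have hcY : c - Y * d ∈ Mm := ⟨hdM, sub_mem hcm (Ideal.mul_mem_right _ _ hY)⟩
    rw [show c * (v * (e₀ * E)) = (c - Y * d) * (v * (e₀ * E)) + Y * (d * (v * (e₀ * E))) by ring]
    have hdv := S.inJ_mul hd hve
    obtain ⟨hYd, hYe⟩ := S.eps_aeval_mul p hdv
    rw [S.eps_add (S.inJ_mul (S.inC_sub hc (S.inC_mul (S.inC_aeval p) hd)) hve) hYd, hYe]
    refine dvd_add ?_ (dvd_mul_right _ _)
    suffices h : ∀ w ∈ Submodule.span A (G : Set L), S.InJ (w * (v * (e₀ * E))) ∧
        p.map (residue A) ∣ S.eps (w * (v * (e₀ * E))) from (h _ (hG.symm ▸ hcY)).2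
    intro w hw
    induction hw using Submodule.span_induction with
    | mem g hg =>
      let g' : G := ⟨g, hg⟩
      have hE : E = e g' * ∏ i ∈ Finset.univ.erase g', e i := (Finset.mul_prod_erase _ e (Finset.mem_univ g')).symm
      rw [show g * (v * (e₀ * E)) = (e₀ * ∏ i ∈ Finset.univ.erase g', e i) * ((g : L) * v * e g') by rw [hE]; ring,
        heq g', mul_add]
      have hc' := S.inC_mul he₀c (hEC (Finset.univ.erase g'))
      rw [mul_left_comm _ (φ x), mul_left_comm _ Y]
      have h1 := S.inJ_mul hc' (hα g')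
      have h2 := S.eps_aeval_mul p (S.inJ_mul hc' (hβ g'))
      refine ⟨S.inJ_add (S.inJ_mul (S.inC_algebraMap x) h1) h2.1, ?_⟩
      rw [S.eps_add (S.inJ_mul (S.inC_algebraMap x) h1) h2.1, S.eps_x_mul h1, zero_add, h2.2]
      exact dvd_mul_right _ _
    | zero =>
      have h0 : S.InJ ((0 : L) * (v * (e₀ * E))) := by simpa using S.inJ_algebraMap (zero_mem J)
      exact ⟨h0, by rw [zero_mul, S.eps_zero]; exact dvd_zero _⟩
    | add a b _ _ ha hb =>
      rw [add_mul, S.eps_add ha.1 hb.1]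
      exact ⟨S.inJ_add ha.1 hb.1, dvd_add ha.2 hb.2⟩
    | smul r a _ ha =>
      rw [Algebra.smul_def, mul_assoc, S.eps_algebraMap_mul r ha.1]
      exact ⟨S.inJ_mul (S.inC_algebraMap r) ha.1, dvd_mul_of_dvd_right ha.2 _⟩
  -- the functional
  let d := p.natDegree
  have hd : d = (p.map (residue A)).natDegree := (hpm.natDegree_map _).symm
  let lam : κ[X] →ₗ[κ] κ := (lcoeff κ (d - 1)).comp (modByMonicHom (p.map (residue A)))
  have hlam : ∀ q : κ[X], (∀ i, lam (X ^ i * q) = 0) → p.map (residue A) ∣ q := by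
    intro q hq
    set pm := p.map (residue A)
    have hpm' : pm.Monic := hpm.map _
    rw [← modByMonic_eq_zero_iff_dvd hpm']
    by_contra hr
    set r := q %ₘ pm
    have hr1 : pm ≠ 1 := fun h => hr (by simp only [r, h, modByMonic_one])
    have hrd : r.natDegree < d := hd ▸ natDegree_modByMonic_lt q hpm' hr1
    have h1 := hq (d - 1 - r.natDegree)
    have h2 : (X ^ (d - 1 - r.natDegree) * q) %ₘ pm = X ^ (d - 1 - r.natDegree) * r := by
      have hs : (X ^ (d - 1 - r.natDegree) * r).natDegree < pm.natDegree := by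
        rw [natDegree_X_pow_mul _ hr, ← hd]; omega
      rw [← (modByMonic_eq_self_iff hpm').2 (degree_lt_degree hs)]
      refine modByMonic_eq_of_dvd_sub hpm' ?_
      rw [← mul_sub]
      refine dvd_mul_of_dvd_right ?_ _
      exact ⟨q /ₘ pm, by rw [eq_comm, ← sub_eq_zero]; linear_combination modByMonic_add_div q pm⟩
    have h3 : (X ^ (d - 1 - r.natDegree) * r).coeff (d - 1) = 0 := h2 ▸ h1
    rw [show d - 1 = r.natDegree + (d - 1 - r.natDegree) by omega, Nat.add_sub_cancel_left,
      coeff_X_pow_mul] at h3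
    exact hr (leadingCoeff_eq_zero.1 h3)
  have hlam0 : ∀ q, p.map (residue A) ∣ q → lam q = 0 := fun q hq => by
    show ((q %ₘ p.map (residue A))).coeff (d - 1) = 0
    rw [(modByMonic_eq_zero_iff_dvd (hpm.map _)).2 hq, coeff_zero]
  let F : L → K → κ := fun v k => lam (S.eps (lift k * v))
  have hF : ∀ {v}, Good v → ∀ c, S.InC c → F v (residue L c) = lam (S.eps (c * v)) := by
    intro v hv c hc
    have h1 : lift (residue L c) - c ∈ maximalIdeal L := by
      rw [← residue_eq_zero_iff, map_sub, ← hπ, hlift, sub_self]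
    have h2 := hlam0 _ (hv.2 _ (S.inC_sub (hliftC _) hc) h1)
    rw [sub_mul, S.eps_sub (S.inJ_mul (hliftC _) hv.1) (S.inJ_mul hc hv.1), map_sub, sub_eq_zero] at h2
    exact h2
  have hFlin : ∀ {v}, Good v → ∃ f : Module.Dual κ K, ∀ k, f k = F v k := fun {v} hv => by
    refine ⟨⟨⟨F v, fun k k' => ?_⟩, fun a k => ?_⟩, fun k => rfl⟩
    · have h := hF hv (lift k + lift k') (S.inC_add (hliftC k) (hliftC k'))
      rw [map_add, ← hπ, ← hπ, hlift, hlift] at h
      rw [h, add_mul, S.eps_add (S.inJ_mul (hliftC k) hv.1) (S.inJ_mul (hliftC k') hv.1), map_add]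
    · obtain ⟨a, rfl⟩ := residue_surjective a
      have h := hF hv (φ a * lift k) (S.inC_mul (S.inC_algebraMap a) (hliftC k))
      rw [map_mul, ← hπ (lift k), hlift] at h
      show F v (residue A a • k) = residue A a • F v k
      rw [Algebra.smul_def, show algebraMap κ K (residue A a) = residue L (φ a) from rfl, h, mul_assoc,
        S.eps_algebraMap_mul a (S.inJ_mul (hliftC k) hv.1), ← Polynomial.smul_eq_C_mul, map_smul]
  have hmem : ∀ {v}, Good v → (∀ k, F v k = 0) → v ∈ I2 * J.map φ := by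
    intro v hv h0
    have hdvd : ∀ c, S.InC c → p.map (residue A) ∣ S.eps (c * v) := fun c hc => hlam _ fun i => by
      have h := hF hv (aeval t (X ^ i : A[X]) * c) (S.inC_mul (S.inC_aeval _) hc)
      rw [h0, mul_assoc, (S.eps_aeval_mul (X ^ i) (S.inJ_mul hc hv.1)).2, Polynomial.map_pow, map_X] at h
      exact h.symm
    refine S.mem_of_dvd hpm hv.1 (by simpa using hdvd 1 (by simpa using S.inC_algebraMap 1)) fun z hz w hw => ?_
    exact hdvd w (S.inC_div hz hw)
  obtain ⟨e₁, he₁, hgood₁⟩ := hgood v₁ hv₁ hv₁s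
  set v₀ := v₁ * e₁
  obtain ⟨f₀, hf₀⟩ := hFlin hgood₁
  have hf0ne : f₀ ≠ 0 := fun h => hv₁n ((Ideal.mul_unit_mem_iff_mem _ he₁).1
    (hmem hgood₁ fun k => by rw [← hf₀, h]; rfl))
  let Φ : K →ₗ[κ] Module.Dual κ K :=
    { toFun := fun a => f₀.comp (LinearMap.mulLeft κ a)
      map_add' := fun a b => LinearMap.ext fun k => by simp [add_mul]
      map_smul' := fun a b => LinearMap.ext fun k => by simp }
  have hΦinj : Function.Injective Φ := (injective_iff_map_eq_zero Φ).2 fun a ha => by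
    by_contra ha0
    refine hf0ne (LinearMap.ext fun k => ?_)
    have := LinearMap.congr_fun ha (a⁻¹ * k)
    simpa [Φ, ← mul_assoc, mul_inv_cancel₀ ha0] using this
  have hΦsurj : Function.Surjective Φ :=
    (LinearMap.injective_iff_surjective_of_finrank_eq_finrank Subspace.dual_finrank_eq.symm).1 hΦinj
  refine ⟨v₀, S.mem_map_of_inJ hgood₁.1, fun c hc => ?_, fun v hv hvs => ?_⟩
  · rw [← mul_assoc]; exact Ideal.mul_mem_right _ _ (hv₁s c hc)
  obtain ⟨e, he, hgv⟩ := hgood v hv hvs
  obtain ⟨f, hf⟩ := hFlin hgv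
  obtain ⟨a, ha⟩ := hΦsurj f
  have hsub : Good (v * e - lift a * v₀) := by
    refine ⟨S.inJ_sub hgv.1 (S.inJ_mul (hliftC a) hgood₁.1), fun c hc hcm => ?_⟩
    rw [mul_sub, S.eps_sub (S.inJ_mul hc hgv.1) (S.inJ_mul hc (S.inJ_mul (hliftC a) hgood₁.1))]
    refine dvd_sub (hgv.2 c hc hcm) ?_
    rw [← mul_assoc]
    exact hgood₁.2 _ (S.inC_mul hc (hliftC a)) (Ideal.mul_mem_right _ _ hcm)
  have hzero : v * e - lift a * v₀ ∈ I2 * J.map φ := by
    refine hmem hsub fun k => ?_
    have h1 := hF hgood₁ (lift a * lift k) (S.inC_mul (hliftC a) (hliftC k))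
    rw [map_mul, ← hπ, ← hπ, hlift, hlift] at h1
    show lam (S.eps (lift k * (v * e - lift a * v₀))) = 0
    rw [mul_sub, S.eps_sub (S.inJ_mul (hliftC k) hgv.1) (S.inJ_mul (hliftC k) (S.inJ_mul (hliftC a) hgood₁.1)),
      map_sub, show lift k * (lift a * v₀) = lift a * lift k * v₀ by ring, ← h1, sub_eq_zero]
    show F (v * e) k = F v₀ (a * k)
    rw [← hf, ← hf₀, ← ha]
    rfl
  obtain ⟨u, hu⟩ := he
  refine ⟨(↑u⁻¹ : L) * lift a, ?_⟩
  have h2 := Ideal.mul_mem_left _ (↑u⁻¹ : L) hzero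
  rwa [show (↑u⁻¹ : L) * (v * e - lift a * v₀) = v - ↑u⁻¹ * lift a * v₀ by
    rw [← hu]; linear_combination v * u.inv_mul] at h2

end Groth.Agent.RDPChain13.Setting
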