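import Groth.Agent.RDPChain13.Length
import Groth.Agent.DualLib.Self

/-! Gorenstein rational singularities have embedding dimension three and a quadratic relation. -/

set_option autoImplicit false
set_option backward.isDefEq.respectTransparency.types false
set_option linter.style.haveILetI false

universe u

open CategoryTheory AlgebraicGeometry IsLocalRing
attribute [local instance] HasDerivedCategory.standard

namespace Groth.Agent.RDPChain13

theorem exists_three_of_mu_two (A : Type u) [CommRing A] [IsLocalRing A] [IsNoetherianRing A]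
    (hH : ∀ r : ℕ, Module.length A (↥(maximalIdeal A ^ r) ⧸
      Submodule.comap (maximalIdeal A ^ r).subtype (maximalIdeal A ^ (r + 1))) = ((r * 2 + 1 : ℕ) : ℕ∞)) :
    ∃ x y z xx xy xz yy yz zz : A, maximalIdeal A = Ideal.span {x, y, z} ∧
      xx * x ^ 2 + xy * (x * y) + xz * (x * z) + yy * y ^ 2 + yz * (y * z) + zz * z ^ 2 ∈ maximalIdeal A ^ 3 ∧
      ¬ (xx ∈ maximalIdeal A ∧ xy ∈ maximalIdeal A ∧ xz ∈ maximalIdeal A ∧ yy ∈ maximalIdeal A ∧
        yz ∈ maximalIdeal A ∧ zz ∈ maximalIdeal A) := by
  classical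
  let m := maximalIdeal A
  haveI : IsSimpleModule A (A ⧸ m) := isSimpleModule_iff_isCoatom.2 (maximalIdeal.isMaximal A).out
  have hone : Module.length A (A ⧸ m) = 1 := Module.length_eq_one_iff.2 inferInstance
  have hf : Submodule.spanFinrank m ≤ 3 := by
    have hr1 := hH 1
    rw [Len.length_cotangent_eq, one_mul, Module.length_eq_of_surjective (R := ResidueField A) residue_surjective,
      Module.length_eq_finrank, ← spanFinrank_maximalIdeal_eq_finrank_cotangentSpace A] at hr1
    exact le_of_eq (by exact_mod_cast hr1)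
  obtain ⟨x, y, z, hm⟩ : ∃ x y z : A, m = Ideal.span {x, y, z} := by
    have hfg := IsNoetherian.noetherian m
    let g := Submodule.generators m
    have hc : g.ncard ≤ 3 := Submodule.FG.generators_ncard hfg ▸ hf
    have hfin : g.Finite := Submodule.FG.finite_generators hfg
    obtain ⟨t, ht⟩ := hfin.exists_finset_coe
    rw [← ht, Set.ncard_coe_finset] at hc
    refine ⟨t.toList.getD 0 0, t.toList.getD 1 0, t.toList.getD 2 0, le_antisymm ?_ ?_⟩
    · rw [← Submodule.span_generators m]
      refine Submodule.span_mono fun w hw => ?_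
      have hw' : w ∈ t.toList := Finset.mem_toList.2 (by rw [← Finset.mem_coe, ht]; exact hw)
      have hl : t.toList.length ≤ 3 := by rwa [Finset.length_toList]
      obtain ⟨i, hi, rfl⟩ := List.mem_iff_getElem.1 hw'
      rw [← List.getD_eq_getElem _ 0 hi]
      have : i = 0 ∨ i = 1 ∨ i = 2 := by omega
      rcases this with rfl | rfl | rfl <;> simp
    · rw [Ideal.span_le]
      have hmem : ∀ i, t.toList.getD i 0 ∈ m := fun i => by
        by_cases hi : i < t.toList.length
        · rw [List.getD_eq_getElem _ 0 hi]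
          have hh : t.toList[i] ∈ (t : Set A) := Finset.mem_toList.1 (List.getElem_mem hi)
          rw [ht] at hh
          rw [← Submodule.span_generators m]
          exact Submodule.subset_span hh
        · rw [List.getD_eq_default _ 0 (not_lt.1 hi)]; exact zero_mem _
      simp only [Set.insert_subset_iff, Set.singleton_subset_iff]
      exact ⟨hmem 0, hmem 1, hmem 2⟩
  refine ⟨x, y, z, ?_⟩
  have hx : x ∈ m := hm ▸ Ideal.subset_span (by simp)
  have hy : y ∈ m := hm ▸ Ideal.subset_span (by simp)
  have hz : z ∈ m := hm ▸ Ideal.subset_span (by simp)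
  let v : Fin 6 → ↥(m ^ 2) := ![⟨x * x, by rw [pow_two]; exact Ideal.mul_mem_mul hx hx⟩,
    ⟨x * y, by rw [pow_two]; exact Ideal.mul_mem_mul hx hy⟩, ⟨x * z, by rw [pow_two]; exact Ideal.mul_mem_mul hx hz⟩,
    ⟨y * y, by rw [pow_two]; exact Ideal.mul_mem_mul hy hy⟩, ⟨y * z, by rw [pow_two]; exact Ideal.mul_mem_mul hy hz⟩,
    ⟨z * z, by rw [pow_two]; exact Ideal.mul_mem_mul hz hz⟩]
  let φ := (Submodule.comap (m ^ 2).subtype (m ^ (2 + 1))).mkQ ∘ₗ Fintype.linearCombination A v
  let ψ : (Fin 6 → A) →ₗ[A] (Fin 6 → A ⧸ m) := LinearMap.pi fun i => m.mkQ ∘ₗ LinearMap.proj i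
  by_contra hcon
  push Not at hcon
  have hker : LinearMap.ker φ ≤ LinearMap.ker ψ := by
    intro c hc
    have hrel : c 0 * x ^ 2 + c 1 * (x * y) + c 2 * (x * z) + c 3 * y ^ 2 + c 4 * (y * z) + c 5 * z ^ 2 ∈ m ^ 3 := by
      have h := LinearMap.mem_ker.1 hc
      simp only [φ, LinearMap.comp_apply, Submodule.mkQ_apply, Submodule.Quotient.mk_eq_zero, Submodule.mem_comap,
        Submodule.subtype_apply, Fintype.linearCombination_apply, Fin.sum_univ_six] at h
      simpa [v, pow_two] using h
    obtain ⟨a, b, d, e, f, g⟩ := hcon (c 0) (c 1) (c 2) (c 3) (c 4) (c 5) hm hrel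
    refine LinearMap.mem_ker.2 (funext fun i => ?_)
    show m.mkQ (c i) = 0
    rw [Submodule.mkQ_apply, Submodule.Quotient.mk_eq_zero]
    fin_cases i <;> assumption
  have hsurj : Function.Surjective ((LinearMap.ker φ).liftQ ψ hker) := fun w => by
    choose c hc using fun i => m.mkQ_surjective (w i)
    exact ⟨Submodule.Quotient.mk c, funext hc⟩
  have hle := (Module.length_le_of_surjective _ hsurj).trans
    (Module.length_le_of_injective ((LinearMap.range φ).subtype ∘ₗ φ.quotKerEquivRange.toLinearMap)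
      ((Submodule.injective_subtype _).comp φ.quotKerEquivRange.injective))
  rw [hH 2, Module.length_pi_of_fintype] at hle
  simp only [hone, Finset.sum_const, Finset.card_univ, Fintype.card_fin, nsmul_eq_mul, mul_one] at hle
  norm_num at hle


theorem exists_three (A : Type u) [CommRing A] [IsDomain A] [IsLocalRing A] [IsNoetherianRing A]
    [IsIntegrallyClosed A] [LocCoh.IsGorensteinLocalRing A] (hN : CAlg.IsNagata A) (hdim : ringKrullDim A = 2)
    (hA : Curv2.IsRationalSing A) (hnr : ¬ IsRegularLocalRing A) :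
    ∃ x y z xx xy xz yy yz zz : A, maximalIdeal A = Ideal.span {x, y, z} ∧
      xx * x ^ 2 + xy * (x * y) + xz * (x * z) + yy * y ^ 2 + yz * (y * z) + zz * z ^ 2 ∈ maximalIdeal A ^ 3 ∧
      ¬ (xx ∈ maximalIdeal A ∧ xy ∈ maximalIdeal A ∧ xz ∈ maximalIdeal A ∧ yy ∈ maximalIdeal A ∧
        yz ∈ maximalIdeal A ∧ zz ∈ maximalIdeal A) := by
  classical
  let m := maximalIdeal A
  obtain ⟨n, hn⟩ := LocCoh.IsGorensteinLocalRing.exists_hasInjectiveDimensionLT (A := A)
  have h1 := Len.length_dualizing A hN hdim hA hnr A (DualLib.isDualizing_self n hn)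
  haveI : IsSimpleModule A (A ⧸ m) := isSimpleModule_iff_isCoatom.2 (maximalIdeal.isMaximal A).out
  have hone : Module.length A (A ⧸ m) = 1 := Module.length_eq_one_iff.2 inferInstance
  have hω : Module.length A (A ⧸ (m • (⊤ : Submodule A A))) = 1 := by
    rw [(Submodule.quotEquivOfEq _ m (by rw [smul_eq_mul, Ideal.mul_top])).length_eq, hone]
  rw [hω] at h1
  obtain ⟨μ, hH⟩ := Len.hilbert A hN hdim hA
  have hr1 := hH 1
  rw [Len.length_cotangent_eq, one_mul] at hr1
  have hμ : μ = 2 := by
    rw [← h1] at hr1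
    have h' : (1 : ℕ) + 2 = μ + 1 := by exact_mod_cast hr1
    omega
  subst hμ
  exact exists_three_of_mu_two A hH

end Groth.Agent.RDPChain13
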