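import Groth.Agent.RDPChain13.Resolvable
import Groth.Agent.RDPChain13.Chain
import Groth.Agent.RDPChain13.Three

/-! Rational double points are resolvable. -/

set_option autoImplicit false
set_option backward.isDefEq.respectTransparency.types false
set_option linter.style.haveILetI false

universe u

open CategoryTheory CategoryTheory.Limits AlgebraicGeometry TopologicalSpace IsLocalRing

namespace Groth.Agent.RDPChain13

theorem resolvable_of_regular {A : Type u} [CommRing A] (hreg : IsRegularLocalRing A) : Resolvable A := by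
  intro Y _ _ y hy ⟨e⟩
  refine ⟨Y, 𝟙 Y, inferInstance, RelVALib.isProjective_of_isFinite _, inferInstance, fun w hw => ?_⟩
  obtain rfl : w = y := not_not.1 hw
  haveI := hreg
  exact IsRegularLocalRing.of_ringEquiv (R := A) e.symm

/-- A rational double point is resolvable. -/
theorem resolvable_of_three {A : Type u} [CommRing A] [IsLocalRing A] (hA : Good A) (hnreg : ¬ IsRegularLocalRing A)
    {x y z xx xy xz yy yz zz : A} (hm : maximalIdeal A = Ideal.span {x, y, z})
    (hQ : xx * x ^ 2 + xy * (x * y) + xz * (x * z) + yy * y ^ 2 + yz * (y * z) + zz * z ^ 2 ∈ maximalIdeal A ^ 3)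
    (hne : ¬ (xx ∈ maximalIdeal A ∧ xy ∈ maximalIdeal A ∧ xz ∈ maximalIdeal A ∧
      yy ∈ maximalIdeal A ∧ yz ∈ maximalIdeal A ∧ zz ∈ maximalIdeal A)) : Resolvable A := by
  by_contra hres
  choose next step hstep using fun S : Bad.{u} => S.exists_next
  let seq : ℕ → Bad.{u} := fun i => Nat.rec (motive := fun _ => Bad.{u}) ⟨A, hA, hnreg, hres⟩ (fun _ S => next S) i
  haveI : ∀ i : ℕ, IsDomain (seq i).R := fun i => (seq i).good.dom
  haveI : ∀ i : ℕ, IsNoetherianRing (seq i).R := fun i => (seq i).good.noeth
  haveI : ∀ i : ℕ, IsIntegrallyClosed (seq i).R := fun i => (seq i).good.normal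
  haveI : ∀ i : ℕ, IsDomain (Curv2.cpl.{u} (seq i).R) := fun i => (seq i).good.cpl_dom
  haveI : ∀ i : ℕ, IsIntegrallyClosed (Curv2.cpl.{u} (seq i).R) := fun i => (seq i).good.cpl_normal
  haveI : ∀ i : ℕ, IsLocalRing ((fun i => (seq i).R) i) := fun i => (seq i).loc
  exact no_chain (fun i => (seq i).R) (fun i => step (seq i)) (fun i => (seq i).good.dim.le)
    (fun i => hstep (seq i)) hm hQ hne

/-- Gorenstein rational singularities are resolvable. -/
theorem resolvable_of_gorenstein {A : Type u} [CommRing A] [LocCoh.IsGorensteinLocalRing A] (hA : Good A) :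
    Resolvable A := by
  by_cases hreg : IsRegularLocalRing A
  · exact resolvable_of_regular hreg
  haveI := hA.dom; haveI := hA.normal
  obtain ⟨x, y, z, xx, xy, xz, yy, yz, zz, hm, hQ, hne⟩ := exists_three A hA.nagata hA.dim hA.rat hreg
  exact resolvable_of_three hA hreg hm hQ hne

/-- A resolvable singularity has a resolution. -/
theorem exists_resolution {A : Type u} [CommRing A] [IsLocalRing A] [IsDomain A] [IsNoetherianRing A]
    [IsIntegrallyClosed A] (hdim : ringKrullDim A = 2) (hA : Resolvable A) :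
    ∃ (X : Scheme.{u}) (f : X ⟶ Spec (CommRingCat.of A)), RelProj.IsProjective f ∧ IsIntegral X ∧
      (∃ U : (Spec (CommRingCat.of A)).Opens, (U : Set (Spec (CommRingCat.of A))).Nonempty ∧ IsIso (f ∣_ U)) ∧
      ∀ x : X, IsRegularLocalRing (X.presheaf.stalk x) := by
  let S := Spec (CommRingCat.of A)
  let c : S := closedPoint A
  let e : S.presheaf.stalk c ≃+* A :=
    (Spec.stalkIso (CommRingCat.of A) c).commRingCatIsoToRingEquiv.trans
      ((IsLocalization.atUnits A (closedPoint A).asIdeal.primeCompl fun x hx => by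
        simpa [closedPoint, Ideal.primeCompl, IsUnit.mem_submonoid_iff] using hx).toRingEquiv.symm)
  have hc : IsClosed ({c} : Set S) :=
    (PrimeSpectrum.isClosed_singleton_iff_isMaximal c).2 (maximalIdeal.isMaximal A)
  obtain ⟨X, f, hf⟩ := hA S c hc ⟨e⟩
  haveI := hf.iso
  let U : S.Opens := ⟨({c} : Set S)ᶜ, hc.isOpen_compl⟩
  refine ⟨X, f, hf.proj, hf.int, ⟨U, ⟨(⟨⊥, Ideal.isPrime_bot⟩ : PrimeSpectrum A), fun h => ?_⟩, hf.iso⟩, fun x => ?_⟩
  · exact maximalIdeal_ne_bot hdim (congrArg PrimeSpectrum.asIdeal (Set.mem_singleton_iff.1 h)).symm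
  · by_cases hx : f x ∈ U
    · haveI := isIso_stalkMap f U x hx
      obtain ⟨hd, hi⟩ := CommAlg4.Cone.isNormalScheme_spec (CommRingCat.of A) (f x)
      haveI : IsDomain (S.presheaf.stalk (f x)) := hd
      haveI : IsIntegrallyClosed (S.presheaf.stalk (f x)) := hi
      haveI : IsRegularLocalRing (S.presheaf.stalk (f x)) := by
        refine CAlgH3.isRegularLocalRing_of_normal_dim_le_one ?_
        have hp : (f x).asIdeal ≠ maximalIdeal A := fun h => hx (Set.mem_singleton_iff.2 (PrimeSpectrum.ext h))
        have hlt := Ideal.height_strict_mono_of_isPrime (lt_of_le_of_ne (le_maximalIdeal (f x).2.ne_top) hp)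
        letI : Algebra A (S.presheaf.stalk (f x)) := StructureSheaf.stalkAlgebra A (f x)
        haveI : IsLocalization.AtPrime (S.presheaf.stalk (f x)) (f x : PrimeSpectrum A).asIdeal :=
          StructureSheaf.IsLocalization.to_stalk A (f x)
        rw [IsLocalization.AtPrime.ringKrullDim_eq_height (f x : PrimeSpectrum A).asIdeal]
        rw [← maximalIdeal_height_eq_ringKrullDim] at hdim
        have h2 : (maximalIdeal A).height = 2 := WithBot.coe_inj.1 (hdim.trans rfl)
        rw [h2] at hlt
        exact_mod_cast Order.le_of_lt_add_one (show (f x).asIdeal.height < 1 + 1 from hlt)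
      exact isRegular_stalk_iff_of_isIso f x
    · exact hf.reg x hx

end Groth.Agent.RDPChain13
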