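import Groth.Agent.RDPChain13.CanonChain
import Groth.Agent.CommAlg6.ExcellentBasic
import Groth.Agent.S2650
import Groth.Agent.S2654
import Groth.Agent.CAlgH.ExcellentNormal
import Groth.Agent.Resolve13.RatDegree
import Groth.Agent.VarietyLib.DivisorGlue
import Groth.Agent.GrSectLib.DenseSubring

/-! Normal surfaces with rational singularities, of finite type over an excellent quotient of a
regular ring, have resolutions. -/

set_option autoImplicit false
set_option backward.isDefEq.respectTransparency.types false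
set_option linter.style.haveILetI false

universe u

open CategoryTheory CategoryTheory.Limits AlgebraicGeometry TopologicalSpace IsLocalRing

namespace Groth.Agent.RDPChain13

/-- A normal rational two dimensional localisation of an algebra of finite type over an excellent quotient of a
regular ring is resolvable. -/
theorem resolvable_localization {Q A R : Type u} [CommRing Q] [IsRegularRing Q] [CommRing A] [CommRing R]
    [Algebra A R] [Algebra.FiniteType A R] (π : Q →+* A) (hπ : Function.Surjective π) (hexc : EGA4.IsExcellent A)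
    (p : Ideal R) [p.IsPrime] [IsDomain (Localization.AtPrime p)] [IsIntegrallyClosed (Localization.AtPrime p)]
    (hdim : ringKrullDim (Localization.AtPrime p) = 2) (hrat : Curv2.IsRationalSing (Localization.AtPrime p)) :
    Resolvable (Localization.AtPrime p) := by
  let L := Localization.AtPrime p
  have hR : EGA4.IsExcellent R := CommAlg6.isExcellent_of_finiteType A R hexc
  have hL : EGA4.IsExcellent L := S2650.result R hR p.primeCompl
  obtain ⟨hN, -, hG, hJ⟩ := hL
  haveI := hN
  have hnag : CAlg.IsNagata L := S2654.result L ⟨hN, hG, hJ⟩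
  haveI : IsNoetherianRing (AdicCompletion (maximalIdeal L) L) := Matlis6.isNoetherianRing_adicCompletion _
  obtain ⟨hcd, hcn⟩ := CommAlg6.NormalTensor.isDomain_of_local
    (CAlgH.ExcellentNormal.isNormalRing_adicCompletion L hG (CAlgH.ExcellentNormal.isNormalRing_of_isIntegrallyClosed L)
      (maximalIdeal L))
  have hgood : Good L := ⟨inferInstance, hN, inferInstance, hnag, hdim, hrat, hcd, hcn⟩
  obtain ⟨n, α, hα⟩ := Algebra.FiniteType.iff_quotient_mvPolynomial''.1 ‹Algebra.FiniteType A R›
  let ψ : MvPolynomial (Fin n) Q →+* R := (α : MvPolynomial (Fin n) A →+* R).comp (MvPolynomial.map π)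
  have hψ : Function.Surjective ψ := hα.comp (MvPolynomial.map_surjective π hπ)
  haveI : IsRegularRing (MvPolynomial (Fin n) Q) := inferInstance
  haveI : (p.comap ψ).IsPrime := Ideal.comap_isPrime ψ p
  haveI : IsRegularLocalRing (Localization.AtPrime (p.comap ψ)) :=
    IsRegularRing.isRegularLocalRing_localization (R := MvPolynomial (Fin n) Q) (p.comap ψ)
  haveI := GrSectLib.gorenstein_of_regular (Localization.AtPrime (p.comap ψ))
  refine resolvable_of_image hgood (Localization.localRingHom (p.comap ψ) p ψ rfl) fun z => ?_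
  obtain ⟨r, s, rfl⟩ := IsLocalization.exists_mk'_eq p.primeCompl z
  obtain ⟨r', rfl⟩ := hψ r
  obtain ⟨s', hs'⟩ := hψ s.1
  have hs : s' ∈ (p.comap ψ).primeCompl := fun h => s.2 (by rw [← hs']; exact h)
  refine ⟨IsLocalization.mk' (Localization.AtPrime (p.comap ψ)) r' ⟨s', hs⟩, ?_⟩
  rw [Localization.localRingHom_mk']
  exact congrArg _ (Subtype.ext hs')

set_option maxHeartbeats 1000000 in
/-- Near a point of a scheme locally of finite type over `A`, the algebra. -/
theorem exists_chart {A : Type u} [CommRing A] {X : Scheme.{u}} (f : X ⟶ Spec (CommRingCat.of A))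
    [LocallyOfFiniteType f] (x : X) :
    ∃ (R : Type u) (_ : CommRing R) (_ : Algebra A R) (_ : Algebra.FiniteType A R) (j : Spec (CommRingCat.of R) ⟶ X)
      (_ : IsOpenImmersion j), x ∈ Set.range j ∧
      ∀ q : PrimeSpectrum R, Nonempty (X.presheaf.stalk (j q) ≃+* Localization.AtPrime q.asIdeal) := by
  obtain ⟨U, hU, hxU, -⟩ := exists_isAffineOpen_mem_and_subset (x := x) (U := (⊤ : X.Opens)) trivial
  let φ : A →+* Γ(X, U) := (f.appLE ⊤ U le_top).hom.comp (Scheme.ΓSpecIso (CommRingCat.of A)).inv.hom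
  have hφ : φ.FiniteType := (f.finiteType_appLE (isAffineOpen_top _) hU le_top).comp
    (RingHom.FiniteType.of_surjective _ (ConcreteCategory.bijective_of_isIso (Scheme.ΓSpecIso (CommRingCat.of A)).inv).2)
  letI := φ.toAlgebra
  refine ⟨Γ(X, U), inferInstance, φ.toAlgebra, hφ, hU.fromSpec, inferInstance, ⟨hU.primeIdealOf ⟨x, hxU⟩,
    hU.fromSpec_primeIdealOf ⟨x, hxU⟩⟩, fun q => ?_⟩
  have hmem : hU.fromSpec q ∈ U := by
    have := Set.mem_range_self (f := hU.fromSpec) q
    rwa [hU.range_fromSpec] at this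
  letI := X.presheaf.algebra_section_stalk (⟨_, hmem⟩ : U)
  haveI : IsLocalization q.asIdeal.primeCompl (X.presheaf.stalk (hU.fromSpec q)) := hU.isLocalization_stalk' q hmem
  exact ⟨(IsLocalization.algEquiv q.asIdeal.primeCompl (X.presheaf.stalk (hU.fromSpec q))
    (Localization.AtPrime q.asIdeal)).toRingEquiv⟩

/-- In a normal scheme with local rings of dimension at most two, a singular point is closed with local ring of
dimension two. -/
theorem singular_point {A : Type u} [CommRing A] {X : Scheme.{u}} [IsNoetherian X] (hn : Pi1.IsNormalScheme X)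
    (f : X ⟶ Spec (CommRingCat.of A)) [LocallyOfFiniteType f]
    (hd : ∀ x : X, ringKrullDim (X.presheaf.stalk x) ≤ 2) {x : X} (hx : ¬ IsRegularLocalRing (X.presheaf.stalk x)) :
    IsClosed ({x} : Set X) ∧ ringKrullDim (X.presheaf.stalk x) = 2 := by
  have hd2 : ¬ ringKrullDim (X.presheaf.stalk x) ≤ 1 := fun h => hx (by
    haveI := (hn x).1; haveI := (hn x).2
    exact CAlgH3.isRegularLocalRing_of_normal_dim_le_one h)
  have heq : ringKrullDim (X.presheaf.stalk x) = 2 := by
    obtain ⟨d, hd'⟩ := CAlgH3.exists_nat_eq_of_le_spanFinrank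
      (ringKrullDim_le_spanFinrank_maximalIdeal (R := X.presheaf.stalk x))
    have h1 := hd x
    rw [hd'] at h1 hd2 ⊢
    have : d ≤ 2 := by exact_mod_cast h1
    have : ¬ d ≤ 1 := fun h => hd2 (by exact_mod_cast h)
    exact_mod_cast (by omega : d = 2)
  refine ⟨?_, heq⟩
  obtain ⟨y, hy, hyc⟩ := (isClosed_closure (s := ({x} : Set X))).exists_closed_singleton (closure_nonempty_iff.2 ⟨x, rfl⟩)
  suffices x = y by rw [this]; exact hyc
  by_contra hne
  obtain ⟨R, _, _, _, j, _, ⟨q, hq⟩, hst⟩ := exists_chart f y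
  have hsp : x ⤳ y := specializes_iff_mem_closure.2 hy
  obtain ⟨q', hq'⟩ : x ∈ Set.range j := hsp.mem_open j.isOpenEmbedding.isOpen_range ⟨q, hq⟩
  let q₁ : PrimeSpectrum R := q'
  let q₂ : PrimeSpectrum R := q
  have hle : q₁.asIdeal ≤ q₂.asIdeal := by
    have : q' ⤳ q := j.isOpenEmbedding.isInducing.specializes_iff.1 (by rw [hq', hq]; exact hsp)
    exact (PrimeSpectrum.le_iff_specializes q₁ q₂).2 this
  have hlt : q₁.asIdeal < q₂.asIdeal := lt_of_le_of_ne hle fun e => hne (by
    rw [← hq', ← hq]; exact congrArg j (PrimeSpectrum.ext e))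
  obtain ⟨e1⟩ := hst q₁
  obtain ⟨e2⟩ := hst q₂
  have h1 : ringKrullDim (Localization.AtPrime q₁.asIdeal) = 2 := by
    rw [← ringKrullDim_eq_of_ringEquiv e1, show (j q₁) = x from hq']; exact heq
  have h2 : ringKrullDim (Localization.AtPrime q₂.asIdeal) ≤ 2 := by
    rw [← ringKrullDim_eq_of_ringEquiv e2, show (j q₂) = y from hq]; exact hd y
  rw [IsLocalization.AtPrime.ringKrullDim_eq_height q₁.asIdeal] at h1
  rw [IsLocalization.AtPrime.ringKrullDim_eq_height q₂.asIdeal] at h2
  have h3 : q₁.asIdeal.height = 2 := WithBot.coe_inj.1 (h1.trans rfl)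
  haveI : q₁.asIdeal.FiniteHeight := ⟨Or.inr (by rw [h3]; simp)⟩
  haveI : q₂.asIdeal.FiniteHeight := ⟨Or.inr fun ht => by
    rw [ht] at h2; exact absurd (WithBot.coe_le_coe.1 h2) (by simp)⟩
  have h4 := Ideal.height_strict_mono_of_isPrime hlt
  rw [h3] at h4
  exact absurd h4 (not_lt.2 (WithBot.coe_le_coe.1 h2))

set_option maxHeartbeats 1000000 in
/-- Surfaces with rational singularities over an excellent quotient of a regular ring can be resolved. -/
theorem exists_resolution_of_rational {Q A : Type u} [CommRing Q] [IsRegularRing Q] [CommRing A] (π : Q →+* A)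
    (hπ : Function.Surjective π) (hexc : EGA4.IsExcellent A) (X : Scheme.{u}) [IsIntegral X] [IsNoetherian X]
    (hn : Pi1.IsNormalScheme X) (f : X ⟶ Spec (CommRingCat.of A)) [LocallyOfFiniteType f]
    (hd : ∀ x : X, ringKrullDim (X.presheaf.stalk x) ≤ 2)
    (hrat : ∀ x : X, IsClosed ({x} : Set X) → Curv2.IsRationalSing (X.presheaf.stalk x)) :
    ∃ (X' : Scheme.{u}) (h : X' ⟶ X), IsIntegral X' ∧ RelProj.IsProjective h ∧
      (∃ V : X.Opens, (V : Set X).Nonempty ∧ IsIso (h ∣_ V)) ∧ ∀ w : X', IsRegularLocalRing (X'.presheaf.stalk w) := by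
  classical
  let T : Set X := {x | ¬ IsRegularLocalRing (X.presheaf.stalk x)}
  have hT : IsClosed T := by
    refine isOpen_compl_iff.1 (isOpen_iff_forall_mem_open.2 fun x hx => ?_)
    replace hx : IsRegularLocalRing (X.presheaf.stalk x) := not_not.1 hx
    obtain ⟨R, _, _, _, j, _, ⟨q, hq⟩, hst⟩ := exists_chart f x
    obtain ⟨-, -, -, hJ⟩ := hexc
    have hopen : IsOpen (EGA4.regLocus R) := hJ R inferInstance
    have hreg : ∀ q : PrimeSpectrum R, q ∈ EGA4.regLocus R ↔ IsRegularLocalRing (X.presheaf.stalk (j q)) := fun q => by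
      obtain ⟨e⟩ := hst q
      refine ⟨fun h => ?_, fun h => ?_⟩
      · haveI : IsRegularLocalRing (Localization.AtPrime q.asIdeal) := h
        exact IsRegularLocalRing.of_ringEquiv e.symm
      · exact IsRegularLocalRing.of_ringEquiv e
    refine ⟨j '' EGA4.regLocus R, ?_, j.isOpenEmbedding.isOpenMap _ hopen, ⟨q, (hreg q).2 (hq.symm ▸ hx), hq⟩⟩
    rintro _ ⟨q', hq', rfl⟩
    exact not_not.2 ((hreg q').1 hq')
  have hTc : ∀ x ∈ T, IsClosed ({x} : Set X) := fun x hx => (singular_point hn f hd hx).1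
  have hTfin : T.Finite := VarietyLib.finite_of_forall_isClosed hT hTc
  have hmem : ∀ x, x ∈ hTfin.toFinset ↔ x ∈ T := fun x => hTfin.mem_toFinset
  obtain ⟨X', h, hh⟩ := resolve_finset _ X hTfin.toFinset (fun x hx => hTc x ((hmem x).1 hx)) rfl fun x hx => by
    obtain ⟨R, _, _, _, j, _, ⟨q, rfl⟩, hst⟩ := exists_chart f x
    obtain ⟨e⟩ := hst q
    haveI := (hn (j q)).1
    haveI := (hn (j q)).2
    let q₁ : PrimeSpectrum R := q
    haveI : IsDomain (Localization.AtPrime q₁.asIdeal) := e.symm.toMulEquiv.isDomain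
    haveI : IsIntegrallyClosed (Localization.AtPrime q₁.asIdeal) := IsIntegrallyClosed.of_equiv e
    obtain ⟨hc, h2⟩ := singular_point hn f hd ((hmem _).1 hx)
    exact ⟨_, inferInstance, resolvable_localization π hπ hexc q₁.asIdeal
      ((ringKrullDim_eq_of_ringEquiv e).symm.trans h2) (Resolve13.FiniteExtRat.isRationalSing_of_ringEquiv e (hrat _ hc)), ⟨e⟩⟩
  haveI := hh.iso
  let V : X.Opens := ⟨(hTfin.toFinset : Set X)ᶜ, (isClosed_finset _ fun x hx => hTc x ((hmem x).1 hx)).isOpen_compl⟩
  refine ⟨X', h, hh.int, hh.proj, ⟨V, ⟨genericPoint X, fun hg => (hmem _).1 hg ?_⟩, hh.iso⟩, fun w => ?_⟩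
  · haveI : IsRegularLocalRing (X.presheaf.stalk (genericPoint X)) := inferInstanceAs (IsRegularLocalRing X.functionField)
    infer_instance
  · by_cases hw : h w ∈ V
    · haveI := isIso_stalkMap h V w hw
      haveI : IsRegularLocalRing (X.presheaf.stalk (h w)) := not_not.1 fun hns => hw ((hmem _).2 hns)
      exact isRegular_stalk_iff_of_isIso h w
    · exact hh.reg w hw

end Groth.Agent.RDPChain13
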