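import Groth.Agent.RDPChain13.Branch

/-! Points over a double line. -/

set_option autoImplicit false

universe u

open IsLocalRing

namespace Groth.Agent.RDPChain13

/-- The tangent cone is a quadric which is not a double plane. -/
def StN (A : Type u) [CommRing A] [IsLocalRing A] : Prop :=
  ∃ x y z xx xy xz yy yz zz : A, maximalIdeal A = Ideal.span {x, y, z} ∧
    ¬ Sq3 (residue A xx) (residue A xy) (residue A xz) (residue A yy) (residue A yz) (residue A zz) ∧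
    xx * x ^ 2 + xy * (x * y) + xz * (x * z) + yy * y ^ 2 + yz * (y * z) + zz * z ^ 2 ∈ maximalIdeal A ^ 3

/-- The tangent cone restricted to `e = 0` is not a double line. -/
def StNS {A : Type u} [CommRing A] [IsLocalRing A] (e : A) : Prop :=
  ∃ y z a b c v : A, maximalIdeal A = Ideal.span {e, y, z} ∧ v ∈ maximalIdeal A ∧
    ¬ Sq2 (residue A a) (residue A b) (residue A c) ∧ a * y ^ 2 + b * (y * z) + c * z ^ 2 + e * v = 0

/-- Double root of the cubic term. -/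
def StD {A : Type u} [CommRing A] [IsLocalRing A] (e : A) : Prop :=
  ∃ y z c a v w : A, maximalIdeal A = Ideal.span {e, y, z} ∧ c ∉ maximalIdeal A ∧ a ∉ maximalIdeal A ∧
    c * z ^ 2 + a * (e * y ^ 2) + v * (e * z) + w * e ^ 2 = 0

/-- Triple root of the cubic term. -/
def StT {A : Type u} [CommRing A] [IsLocalRing A] (e : A) : Prop :=
  ∃ y z c a v w : A, maximalIdeal A = Ideal.span {e, y, z} ∧ c ∉ maximalIdeal A ∧ a ∉ maximalIdeal A ∧
    c * z ^ 2 + a * (e * y ^ 3) + v * (e * z) + w * e ^ 2 = 0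

/-- The step after a triple root. -/
def StT' {A : Type u} [CommRing A] [IsLocalRing A] (e : A) : Prop :=
  ∃ y z c a n β : A, maximalIdeal A = Ideal.span {e, y, z} ∧ c ∉ maximalIdeal A ∧ a ∉ maximalIdeal A ∧
    n ∈ maximalIdeal A ∧ c * z ^ 2 + a * (e ^ 2 * y) + e * z * n + β * (e * y ^ 3) = 0

variable {A A₁ : Type u} [CommRing A] [IsLocalRing A] [CommRing A₁] [IsLocalRing A₁] [IsDomain A₁]
  [IsNoetherianRing A₁] {φ : A →+* A₁} {x y z : A} {T Z : A₁}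

omit [IsDomain A₁] [IsNoetherianRing A₁] in
theorem isUnit_map {c : A} (hc : c ∉ maximalIdeal A) : IsUnit (φ c) := (not_not.1 hc : IsUnit c).map φ

/-- Integral closedness: `Z` would be divisible by `X`. -/
theorem no_flat [IsIntegrallyClosed A₁] (hnt : ∀ a b : A₁, maximalIdeal A₁ ≠ Ideal.span {a, b}) {X p Z c w k : A₁}
    (hm : maximalIdeal A₁ = Ideal.span {X, p, Z}) (hX : X ≠ 0) (hc : IsUnit c)
    (h : c * Z ^ 2 + X * Z * w + X ^ 2 * k = 0) : False := by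
  classical
  obtain ⟨u, rfl⟩ := hc
  let K := FractionRing A₁
  have hX' : algebraMap A₁ K X ≠ 0 := (map_ne_zero_iff _ (IsFractionRing.injective A₁ K)).2 hX
  let r : K := algebraMap A₁ K Z / algebraMap A₁ K X
  have hr : IsIntegral A₁ r := by
    refine ⟨Polynomial.X ^ 2 + (Polynomial.C ((u⁻¹ : A₁ˣ) * w) * Polynomial.X + Polynomial.C ((u⁻¹ : A₁ˣ) * k)),
      Polynomial.monic_X_pow_add (lt_of_le_of_lt Polynomial.degree_linear_le (by decide)), ?_⟩
    have h1 : Z ^ 2 + X * Z * ((u⁻¹ : A₁ˣ) * w) + X ^ 2 * ((u⁻¹ : A₁ˣ) * k) = 0 := by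
      linear_combination ((u⁻¹ : A₁ˣ) : A₁) * h - Z ^ 2 * u.inv_mul
    have h2 := congrArg (algebraMap A₁ K) h1
    simp only [map_add, map_mul, map_pow, map_zero] at h2
    simp only [Polynomial.eval₂_add, Polynomial.eval₂_mul, Polynomial.eval₂_pow, Polynomial.eval₂_X, Polynomial.eval₂_C,
      map_mul]
    have hrX : r * algebraMap A₁ K X = algebraMap A₁ K Z := div_mul_cancel₀ _ hX'
    apply mul_left_cancel₀ (pow_ne_zero 2 hX')
    rw [mul_zero]
    linear_combination h2 + (r * algebraMap A₁ K X + algebraMap A₁ K Z +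
      algebraMap A₁ K ((u⁻¹ : A₁ˣ) : A₁) * algebraMap A₁ K w * algebraMap A₁ K X) * hrX
  obtain ⟨q, hq⟩ := IsIntegrallyClosed.algebraMap_eq_of_integral hr
  have hZ : Z = X * q := IsFractionRing.injective A₁ K (by rw [map_mul, hq]; exact (mul_div_cancel₀ _ hX').symm)
  have := coeff_mem hnt hm (a := -q) (b := 0) (c := 1) (by
    rw [show -q * X + 0 * p + 1 * Z = 0 by rw [hZ]; ring]
    exact zero_mem _)
  exact (maximalIdeal.isMaximal A₁).ne_top ((Ideal.eq_top_iff_one _).2 this.2.2)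

omit [IsNoetherianRing A₁] in
theorem Chart.not_third (C : Chart φ z x y T Z) {c r : A} (hc : c ∉ maximalIdeal A) (hr : r ∈ maximalIdeal A ^ 3)
    (h : c * z ^ 2 + r = 0) : False := by
  obtain ⟨k, hk⟩ := C.dvd_pow hr
  have h1 : φ z ^ 2 * (φ c + φ z * k) = 0 := by
    have := congrArg φ h
    rw [map_add, map_mul, map_pow, map_zero, hk] at this
    linear_combination this
  have h2 := (mul_eq_zero.1 h1).resolve_left (pow_ne_zero 2 C.ne)
  refine ((?_ : φ c ∉ maximalIdeal A₁)) ?_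
  · exact fun hm => hm (isUnit_map (φ := φ) hc)
  · rw [eq_neg_of_add_eq_zero_left h2]
    exact neg_mem (Ideal.mul_mem_right _ _ C.mem)

section Rel

variable {c g₀ g₁ g₂ g₃ W₂ W₄ : A} (C : Chart φ x y z T Z) (hc : c ∉ maximalIdeal A)
  (hW₂ : W₂ ∈ maximalIdeal A ^ 2) (hW₄ : W₄ ∈ maximalIdeal A ^ 4)
  (h : c * z ^ 2 + g₀ * x ^ 3 + g₁ * (x ^ 2 * y) + g₂ * (x * y ^ 2) + g₃ * y ^ 3 + z * W₂ + W₄ = 0)

include hW₂ hW₄ h C in
omit [IsNoetherianRing A₁] in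
theorem Chart.sq_relation : ∃ w₂ w₄ : A₁,
    φ c * Z ^ 2 + φ x * (φ g₀ + φ g₁ * T + φ g₂ * T ^ 2 + φ g₃ * T ^ 3) + φ x * Z * w₂ + φ x ^ 2 * w₄ = 0 := by
  obtain ⟨w₂, h2⟩ := C.dvd_pow hW₂
  obtain ⟨w₄, h4⟩ := C.dvd_pow hW₄
  refine ⟨w₂, w₄, mul_left_cancel₀ (pow_ne_zero 2 C.ne) ?_⟩
  have := congrArg φ h
  simp only [map_add, map_mul, map_pow, map_zero, h2, h4, C.hT, C.hZ] at this
  rw [mul_zero]
  linear_combination this

include hc hW₂ hW₄ h C in
omit [IsNoetherianRing A₁] in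
theorem Chart.sq_Z_mem : Z ∈ maximalIdeal A₁ := by
  obtain ⟨w₂, w₄, e⟩ := C.sq_relation hW₂ hW₄ h
  refine (maximalIdeal.isMaximal A₁).isPrime.mem_of_pow_mem 2 ((Ideal.unit_mul_mem_iff_mem _ (isUnit_map (φ := φ) hc)).1 ?_)
  rw [show φ c * Z ^ 2 = φ x * -((φ g₀ + φ g₁ * T + φ g₂ * T ^ 2 + φ g₃ * T ^ 3) + Z * w₂ + φ x * w₄) by
    linear_combination e]
  exact Ideal.mul_mem_right _ _ C.mem

include hc hW₂ hW₄ h C in
theorem Chart.sq_poly_mem {p : A₁} (hm : maximalIdeal A₁ = Ideal.span {φ x, p, Z}) :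
    φ g₀ + φ g₁ * T + φ g₂ * T ^ 2 + φ g₃ * T ^ 3 ∈ maximalIdeal A₁ := by
  obtain ⟨w₂, w₄, e⟩ := C.sq_relation hW₂ hW₄ h
  have hZ := C.sq_Z_mem hc hW₂ hW₄ h
  have h1 := (coeff_mem C.child.not_two hm (a := φ g₀ + φ g₁ * T + φ g₂ * T ^ 2 + φ g₃ * T ^ 3 + Z * w₂ + φ x * w₄)
    (b := 0) (c := 0) (by
      rw [show (φ g₀ + φ g₁ * T + φ g₂ * T ^ 2 + φ g₃ * T ^ 3 + Z * w₂ + φ x * w₄) * φ x + 0 * p + 0 * Z =
        -φ c * Z ^ 2 by linear_combination e]
      exact Ideal.mul_mem_left _ _ (Ideal.pow_mem_pow hZ 2))).1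
  simpa using sub_mem (sub_mem h1 (Ideal.mul_mem_right w₄ _ C.mem)) (Ideal.mul_mem_right w₂ _ hZ)

include C hc in
omit [IsNoetherianRing A₁] in
set_option linter.unusedSectionVars false in
/-- A simple root gives a cone which is not a double plane. -/
theorem Chart.stN_of_simple {W H k w : A₁} (hm : maximalIdeal A₁ = Ideal.span {φ x, W, Z}) (hH : IsUnit H)
    (e : φ c * Z ^ 2 + H * (φ x * W) + w * (φ x * Z) + k * φ x ^ 2 = 0) : StN A₁ := by
  refine ⟨φ x, W, Z, k, H, w, 0, 0, φ c, hm, ?_, ?_⟩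
  · rintro ⟨f, p, r, s, -, h2, -, h4, -, h6⟩
    rw [map_zero] at h4
    have hf : f ≠ 0 := fun hf => by
      rw [hf, zero_mul, residue_eq_zero_iff] at h6
      exact h6 (isUnit_map (φ := φ) hc)
    have hr : r = 0 := (pow_eq_zero_iff two_ne_zero).1 ((mul_eq_zero.1 h4.symm).resolve_left hf)
    rw [hr, mul_zero, residue_eq_zero_iff] at h2
    exact h2 hH
  · rw [show k * φ x ^ 2 + H * (φ x * W) + w * (φ x * Z) + 0 * W ^ 2 + 0 * (W * Z) + φ c * Z ^ 2 = 0 by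
      linear_combination e]
    exact zero_mem _

include hc hW₂ hW₄ h C in
/-- A root of the cubic is simple or rational. -/
theorem Chart.sq_rational [IsIntegrallyClosed A₁] : StN A₁ ∨ ∃ t₀ : A, T - φ t₀ ∈ maximalIdeal A₁ := by
  obtain ⟨w₂, w₄, e⟩ := C.sq_relation hW₂ hW₄ h
  obtain ⟨π, hπm, hm, hdiv, hlin, hpos⟩ := C.line (C.sq_Z_mem hc hW₂ hW₄ h)
  let g : Polynomial A := Polynomial.C g₀ + Polynomial.C g₁ * Polynomial.X + Polynomial.C g₂ * Polynomial.X ^ 2 +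
    Polynomial.C g₃ * Polynomial.X ^ 3
  have hg : g.eval₂ φ T = φ g₀ + φ g₁ * T + φ g₂ * T ^ 2 + φ g₃ * T ^ 3 := by simp [g]
  obtain ⟨q, k, hq, hq'⟩ := hdiv g (hg ▸ C.sq_poly_mem hc hW₂ hW₄ h hm)
  rw [hg] at hq
  by_cases hu : IsUnit (q.eval₂ φ T)
  · exact Or.inl (C.stN_of_simple hc hm hu (k := k + w₄) (w := w₂) (by rw [hq] at e; linear_combination e))
  obtain ⟨r, l, hr, hr'⟩ := hdiv q hu
  rw [hr', ← mul_assoc] at hq'
  by_cases h0 : r.map (residue A) = 0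
  · exfalso
    have hz : ∀ n, g.coeff n ∈ maximalIdeal A := fun n => by
      rw [← residue_eq_zero_iff, ← Polynomial.coeff_map, hq', h0, mul_zero, Polynomial.coeff_zero]
    obtain ⟨k₀, e0⟩ := C.dvd (hz 0)
    obtain ⟨k₁, e1⟩ := C.dvd (hz 1)
    obtain ⟨k₂, e2⟩ := C.dvd (hz 2)
    obtain ⟨k₃, e3⟩ := C.dvd (hz 3)
    simp [g, Polynomial.coeff_X_pow, Polynomial.coeff_X, Polynomial.coeff_C] at e0 e1 e2 e3
    refine no_flat C.child.not_two hm C.ne (isUnit_map (φ := φ) hc) (w := w₂)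
      (k := k₀ + k₁ * T + k₂ * T ^ 2 + k₃ * T ^ 3 + w₄) ?_
    rw [e0, e1, e2, e3] at e
    linear_combination e
  refine Or.inr (hlin ?_)
  have hd := congrArg Polynomial.natDegree hq'
  have hne : π.map (residue A) ≠ 0 := (hπm.map _).ne_zero
  rw [Polynomial.natDegree_mul (mul_ne_zero hne hne) h0, Polynomial.natDegree_mul hne hne, hπm.natDegree_map] at hd
  have h3 : (g.map (residue A)).natDegree ≤ 3 := Polynomial.natDegree_map_le.trans (by simp only [g]; compute_degree)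
  omega

include hc hW₂ hW₄ h C in
/-- The states at a rational root. -/
theorem Chart.sq_origin [IsIntegrallyClosed A₁] (hT : T ∈ maximalIdeal A₁) :
    g₀ ∈ maximalIdeal A ∧ (g₁ ∉ maximalIdeal A → StN A₁) ∧
      (g₁ ∈ maximalIdeal A → g₂ ∉ maximalIdeal A → StD (φ x)) ∧
      (g₁ ∈ maximalIdeal A → g₂ ∈ maximalIdeal A → g₃ ∉ maximalIdeal A ∧ StT (φ x)) := by
  obtain ⟨w₂, w₄, e⟩ := C.sq_relation hW₂ hW₄ h
  obtain ⟨hm, -⟩ := C.origin hT (C.sq_Z_mem hc hW₂ hW₄ h)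
  have hg₀ : g₀ ∈ maximalIdeal A := mem_of_map_mem (φ := φ) <| by
    have := sub_mem (C.sq_poly_mem hc hW₂ hW₄ h hm) (Ideal.mul_mem_right (φ g₁ + φ g₂ * T + φ g₃ * T ^ 2) _ hT)
    convert this using 1
    ring
  obtain ⟨k₀, e0⟩ := C.dvd hg₀
  rw [e0] at e
  have hu : ∀ {a b : A}, a ∉ maximalIdeal A → φ a + φ b * T ∉ maximalIdeal A₁ := fun {a b} ha hab => by
    have := sub_mem hab (Ideal.mul_mem_left _ (φ b) hT)
    rw [add_sub_cancel_right] at this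
    exact this (isUnit_map ha)
  refine ⟨hg₀, fun h1 => C.stN_of_simple hc hm (H := φ g₁ + φ g₂ * T + φ g₃ * T ^ 2) (k := k₀ + w₄) (w := w₂) ?_
    (by linear_combination e), fun h1 h2 => ?_, fun h1 h2 => ?_⟩
  · by_contra hn
    have hn' : φ g₁ + φ g₂ * T + φ g₃ * T ^ 2 ∈ maximalIdeal A₁ := hn
    have := sub_mem hn' (Ideal.mul_mem_right (φ g₂ + φ g₃ * T) _ hT)
    rw [show φ g₁ + φ g₂ * T + φ g₃ * T ^ 2 - T * (φ g₂ + φ g₃ * T) = φ g₁ by ring] at this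
    exact this (isUnit_map h1)
  · obtain ⟨k₁, e1⟩ := C.dvd h1
    rw [e1] at e
    exact ⟨T, Z, φ c, φ g₂ + φ g₃ * T, w₂, k₀ + k₁ * T + w₄, hm, fun hh => hh (isUnit_map (φ := φ) hc), hu h2,
      by linear_combination e⟩
  · obtain ⟨k₁, e1⟩ := C.dvd h1
    obtain ⟨k₂, e2⟩ := C.dvd h2
    rw [e1, e2] at e
    have h3 : g₃ ∉ maximalIdeal A := fun h3 => by
      obtain ⟨k₃, e3⟩ := C.dvd h3
      rw [e3] at e
      exact no_flat C.child.not_two hm C.ne (isUnit_map (φ := φ) hc) (w := w₂)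
        (k := k₀ + k₁ * T + k₂ * T ^ 2 + k₃ * T ^ 3 + w₄) (by linear_combination e)
    exact ⟨h3, T, Z, φ c, φ g₃, w₂, k₀ + k₁ * T + k₂ * T ^ 2 + w₄, hm, fun hh => hh (isUnit_map (φ := φ) hc),
      fun hh => hh (isUnit_map (φ := φ) h3), by linear_combination e⟩

end Rel

end Groth.Agent.RDPChain13
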