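import Groth.Agent.RDPChain13.Steps

/-! The possible states after a singular point on a double line. -/

set_option autoImplicit false

universe u

open IsLocalRing

namespace Groth.Agent.RDPChain13

variable {A A₁ : Type u} [CommRing A] [IsLocalRing A] [CommRing A₁] [IsLocalRing A₁] [IsDomain A₁]
  [IsNoetherianRing A₁] [IsIntegrallyClosed A₁] {φ : A →+* A₁} {x y z : A} {T Z : A₁}

omit [IsDomain A₁] [IsNoetherianRing A₁] [IsIntegrallyClosed A₁] in
theorem mem_pow_three {p q r : A} (hp : p ∈ maximalIdeal A) (hq : q ∈ maximalIdeal A) (hr : r ∈ maximalIdeal A) :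
    p * q * r ∈ maximalIdeal A ^ 3 := by
  rw [pow_succ, pow_two]
  exact Ideal.mul_mem_mul (Ideal.mul_mem_mul hp hq) hr

theorem step_N' (hA : StN A) (h : Child φ) : StN A₁ :=
  let ⟨_, he, _⟩ := step_N hA h
  he.stN

theorem step_D {e : A} (hA : StD e) (h : Child φ) : StN A₁ ∨ (Str φ e ∧ StD (φ e)) := by
  obtain ⟨y, z, c, a, v, w, hm, hc, ha, hrel⟩ := hA
  have he : e ∈ maximalIdeal A := hm ▸ Ideal.subset_span (by simp)
  have hy : y ∈ maximalIdeal A := hm ▸ Ideal.subset_span (by simp)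
  have hr : a * (e * y ^ 2) ∈ maximalIdeal A ^ 3 :=
    Ideal.mul_mem_left _ a (by rw [pow_two, ← mul_assoc]; exact mem_pow_three he hy hy)
  rcases square_or_N (v := v) (w := w) hm hc hr (by linear_combination hrel) with hN | ⟨z', n₁, n₂, hm', hn₁, hn₂, heq⟩
  · exact Or.inl (step_N' hN h)
  have hz : z' ∈ maximalIdeal A := hm' ▸ Ideal.subset_span (by simp)
  obtain ⟨β, w', hw, rfl⟩ := Ideal.mem_span_insert.1 (hm' ▸ hn₁)
  obtain ⟨α, γ, rfl⟩ := Ideal.mem_span_pair.1 hw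
  have hrel' : c * z' ^ 2 + n₂ * (e * z') + (β * e + (α * y + γ * z')) * e ^ 2 + a * (e * y ^ 2) = 0 := by
    linear_combination hrel - heq
  have hW₂ : n₂ * e + γ * e ^ 2 ∈ maximalIdeal A ^ 2 := by
    rw [pow_two (maximalIdeal A)]
    exact add_mem (Ideal.mul_mem_mul hn₂ he) (Ideal.mul_mem_left _ γ (pow_two e ▸ Ideal.mul_mem_mul he he))
  rcases h.exists_chart_first hm' with ⟨T, Z, C⟩ | ⟨T, Z, C, hT⟩ | ⟨T, Z, C, hT⟩
  · rcases C.sq_rational (g₀ := β) (g₁ := α) (g₂ := a) (g₃ := 0) (W₂ := n₂ * e + γ * e ^ 2) (W₄ := 0) hc hW₂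
      (zero_mem _) (by linear_combination hrel') with hN | ⟨t, ht⟩
    · exact Or.inl hN
    have C' := C.shift t 0
    have h' : c * (z' - 0 * e) ^ 2 + (β + α * t + a * t ^ 2) * e ^ 3 + (α + 2 * a * t) * (e ^ 2 * (y - t * e)) +
        a * (e * (y - t * e) ^ 2) + 0 * (y - t * e) ^ 3 + (z' - 0 * e) * (n₂ * e + γ * e ^ 2) + 0 = 0 := by
      linear_combination hrel'
    obtain ⟨-, h1, h2, -⟩ := C'.sq_origin hc hW₂ (zero_mem _) h' ht
    by_cases hg : α + 2 * a * t ∈ maximalIdeal A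
    · exact Or.inr ⟨⟨C.map_eq, (C'.origin ht (C'.sq_Z_mem hc hW₂ (zero_mem _) h')).2⟩, h2 hg ha⟩
    · exact Or.inl (h1 hg)
  · exact Or.inl ((C.sq_origin (g₀ := 0) (g₁ := a) (g₂ := α) (g₃ := β) (W₂ := n₂ * e + γ * e ^ 2) (W₄ := 0) hc hW₂
      (zero_mem _) (by linear_combination hrel') hT).2.1 ha)
  · refine (C.not_third hc (r := n₂ * e * z' + (β * e + (α * y + γ * z')) * e * e + a * e * y * y) ?_
      (by linear_combination hrel')).elim
    refine add_mem (add_mem (mem_pow_three hn₂ he hz) (mem_pow_three hn₁ he he)) ?_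
    exact mem_pow_three (Ideal.mul_mem_left _ a he) hy hy

theorem step_T {e : A} (hA : StT e) (h : Child φ) : StN A₁ ∨ ∃ f : A₁, StD f ∨ StT' f := by
  obtain ⟨y, z, c, a, v, w, hm, hc, ha, hrel⟩ := hA
  have he : e ∈ maximalIdeal A := hm ▸ Ideal.subset_span (by simp)
  have hy : y ∈ maximalIdeal A := hm ▸ Ideal.subset_span (by simp)
  have hr4 : a * (e * y ^ 3) ∈ maximalIdeal A ^ 4 :=
    Ideal.mul_mem_left _ a (by rw [pow_succ' _ 3]; exact Ideal.mul_mem_mul he (Ideal.pow_mem_pow hy 3))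
  rcases square_or_N (v := v) (w := w) hm hc (Ideal.pow_le_pow_right (by norm_num) hr4) (by linear_combination hrel)
    with hN | ⟨z', n₁, n₂, hm', hn₁, hn₂, heq⟩
  · exact Or.inl (step_N' hN h)
  have hz : z' ∈ maximalIdeal A := hm' ▸ Ideal.subset_span (by simp)
  obtain ⟨β, w', hw, rfl⟩ := Ideal.mem_span_insert.1 (hm' ▸ hn₁)
  obtain ⟨α, γ, rfl⟩ := Ideal.mem_span_pair.1 hw
  have hrel' : c * z' ^ 2 + n₂ * (e * z') + (β * e + (α * y + γ * z')) * e ^ 2 + a * (e * y ^ 3) = 0 := by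
    linear_combination hrel - heq
  have hW₂ : n₂ * e + γ * e ^ 2 ∈ maximalIdeal A ^ 2 := by
    rw [pow_two (maximalIdeal A)]
    exact add_mem (Ideal.mul_mem_mul hn₂ he) (Ideal.mul_mem_left _ γ (pow_two e ▸ Ideal.mul_mem_mul he he))
  rcases h.exists_chart_first hm' with ⟨T, Z, C⟩ | ⟨T, Z, C, hT⟩ | ⟨T, Z, C, hT⟩
  · rcases C.sq_rational (g₀ := β) (g₁ := α) (g₂ := 0) (g₃ := 0) (W₂ := n₂ * e + γ * e ^ 2) (W₄ := a * (e * y ^ 3))
      hc hW₂ hr4 (by linear_combination hrel') with hN | ⟨t, ht⟩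
    · exact Or.inl hN
    have C' := C.shift t 0
    have h' : c * (z' - 0 * e) ^ 2 + (β + α * t) * e ^ 3 + α * (e ^ 2 * (y - t * e)) +
        0 * (e * (y - t * e) ^ 2) + 0 * (y - t * e) ^ 3 + (z' - 0 * e) * (n₂ * e + γ * e ^ 2) + a * (e * y ^ 3) = 0 := by
      linear_combination hrel'
    obtain ⟨-, h1, -, h3⟩ := C'.sq_origin hc hW₂ hr4 h' ht
    by_cases hg : α ∈ maximalIdeal A
    · exact absurd (zero_mem _) (h3 hg (zero_mem _)).1
    · exact Or.inl (h1 hg)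
  · by_cases hα : α ∈ maximalIdeal A
    swap
    · exact Or.inr ⟨_, Or.inl ((C.sq_origin (g₀ := 0) (g₁ := 0) (g₂ := α) (g₃ := β) (W₂ := n₂ * e + γ * e ^ 2)
        (W₄ := a * (e * y ^ 3)) hc hW₂ hr4 (by linear_combination hrel') hT).2.2.1 (zero_mem _) hα)⟩
    have hZ := C.sq_Z_mem (g₀ := 0) (g₁ := 0) (g₂ := α) (g₃ := β) (W₂ := n₂ * e + γ * e ^ 2)
        (W₄ := a * (e * y ^ 3)) hc hW₂ hr4 (by linear_combination hrel')
    obtain ⟨k, hk⟩ := C.dvd hn₂
    obtain ⟨k', hk'⟩ := C.dvd hα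
    have hrel₁ : φ c * Z ^ 2 + (φ a + k' * T) * (φ y ^ 2 * T) + φ y * Z * (k * T + φ γ * T ^ 2) +
        φ β * (φ y * T ^ 3) = 0 := by
      apply mul_left_cancel₀ (pow_ne_zero 2 C.ne)
      have := congrArg φ hrel'
      simp only [map_add, map_mul, map_pow, map_zero, C.hT, C.hZ, hk, hk'] at this
      rw [mul_zero]
      linear_combination this
    refine Or.inr ⟨φ y, Or.inr ⟨T, Z, φ c, φ a + k' * T, k * T + φ γ * T ^ 2, φ β, (C.origin hT hZ).1,
      fun hh => hh (isUnit_map hc), fun hh => ?_, add_mem (Ideal.mul_mem_left _ _ hT)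
        (Ideal.mul_mem_left _ _ (Ideal.pow_mem_of_mem _ hT 2 two_pos)), hrel₁⟩⟩
    have := sub_mem hh (Ideal.mul_mem_left _ k' hT)
    rw [add_sub_cancel_right] at this
    exact this (isUnit_map ha)
  · refine (C.not_third hc (r := n₂ * e * z' + (β * e + (α * y + γ * z')) * e * e + a * e * y * (y * y)) ?_
      (by linear_combination hrel')).elim
    refine add_mem (add_mem (mem_pow_three hn₂ he hz) (mem_pow_three hn₁ he he)) ?_
    exact mem_pow_three (Ideal.mul_mem_left _ a he) hy (Ideal.mul_mem_left _ y hy)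

theorem step_T' {e : A} (hA : StT' e) (h : Child φ) : StN A₁ ∨ ∃ f : A₁, StD f := by
  obtain ⟨y, z, c, a, n, β, hm, hc, ha, hn, hrel⟩ := hA
  have he : e ∈ maximalIdeal A := hm ▸ Ideal.subset_span (by simp)
  have hy : y ∈ maximalIdeal A := hm ▸ Ideal.subset_span (by simp)
  have hz : z ∈ maximalIdeal A := hm ▸ Ideal.subset_span (by simp)
  have hr4 : β * (e * y ^ 3) ∈ maximalIdeal A ^ 4 :=
    Ideal.mul_mem_left _ β (by rw [pow_succ' _ 3]; exact Ideal.mul_mem_mul he (Ideal.pow_mem_pow hy 3))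
  have hW₂ : e * n ∈ maximalIdeal A ^ 2 := pow_two (maximalIdeal A) ▸ Ideal.mul_mem_mul he hn
  rcases h.exists_chart_first hm with ⟨T, Z, C⟩ | ⟨T, Z, C, hT⟩ | ⟨T, Z, C, hT⟩
  · rcases C.sq_rational (g₀ := 0) (g₁ := a) (g₂ := 0) (g₃ := 0) (W₂ := e * n) (W₄ := β * (e * y ^ 3)) hc hW₂ hr4
      (by linear_combination hrel) with hN | ⟨t, ht⟩
    · exact Or.inl hN
    have h' : c * (z - 0 * e) ^ 2 + a * t * e ^ 3 + a * (e ^ 2 * (y - t * e)) +
        0 * (e * (y - t * e) ^ 2) + 0 * (y - t * e) ^ 3 + (z - 0 * e) * (e * n) + β * (e * y ^ 3) = 0 := by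
      linear_combination hrel
    exact Or.inl (((C.shift t 0).sq_origin hc hW₂ hr4 h' ht).2.1 ha)
  · exact Or.inr ⟨_, (C.sq_origin (g₀ := 0) (g₁ := 0) (g₂ := a) (g₃ := 0) (W₂ := e * n) (W₄ := β * (e * y ^ 3))
      hc hW₂ hr4 (by linear_combination hrel) hT).2.2.1 (zero_mem _) ha⟩
  · refine (C.not_third hc (r := a * e * e * y + e * z * n + β * e * y * (y * y)) ?_
      (by linear_combination hrel)).elim
    refine add_mem (add_mem (mem_pow_three (Ideal.mul_mem_left _ a he) he hy) (mem_pow_three he hz hn)) ?_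
    exact mem_pow_three (Ideal.mul_mem_left _ β he) hy (Ideal.mul_mem_left _ y hy)

omit [IsDomain A₁] [IsNoetherianRing A₁] [IsIntegrallyClosed A₁] in
theorem exists_cubic (hm : maximalIdeal A = Ideal.span {x, y, z}) {r : A} (hr : r ∈ maximalIdeal A ^ 3) :
    ∃ g₀ g₁ g₂ g₃ W : A, W ∈ maximalIdeal A ^ 2 ∧
      r = g₀ * x ^ 3 + g₁ * (x ^ 2 * y) + g₂ * (x * y ^ 2) + g₃ * y ^ 3 + z * W := by
  rw [show maximalIdeal A ^ 3 = maximalIdeal A * (maximalIdeal A * maximalIdeal A) by ring] at hr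
  induction hr using Submodule.mul_induction_on' with
  | mem_mul_mem p hp q hq =>
    induction hq using Submodule.mul_induction_on' with
    | mem_mul_mem s hs t ht =>
      rw [hm] at hp hs ht
      obtain ⟨p₁, _, hp', rfl⟩ := Ideal.mem_span_insert.1 hp
      obtain ⟨p₂, p₃, rfl⟩ := Ideal.mem_span_pair.1 hp'
      obtain ⟨s₁, _, hs', rfl⟩ := Ideal.mem_span_insert.1 hs
      obtain ⟨s₂, s₃, rfl⟩ := Ideal.mem_span_pair.1 hs'
      obtain ⟨t₁, _, ht', rfl⟩ := Ideal.mem_span_insert.1 ht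
      obtain ⟨t₂, t₃, rfl⟩ := Ideal.mem_span_pair.1 ht'
      refine ⟨p₁ * s₁ * t₁, p₁ * s₁ * t₂ + p₁ * s₂ * t₁ + p₂ * s₁ * t₁,
        p₁ * s₂ * t₂ + p₂ * s₁ * t₂ + p₂ * s₂ * t₁, p₂ * s₂ * t₂,
        p₃ * ((s₁ * x + (s₂ * y + s₃ * z)) * (t₁ * x + (t₂ * y + t₃ * z))) +
          s₃ * ((p₁ * x + p₂ * y) * (t₁ * x + (t₂ * y + t₃ * z))) + t₃ * ((p₁ * x + p₂ * y) * (s₁ * x + s₂ * y)),
        ?_, by ring⟩
      have hx : x ∈ maximalIdeal A := hm ▸ Ideal.subset_span (by simp)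
      have hy : y ∈ maximalIdeal A := hm ▸ Ideal.subset_span (by simp)
      have hxy : ∀ a b : A, a * x + b * y ∈ maximalIdeal A := fun a b =>
        add_mem (Ideal.mul_mem_left _ a hx) (Ideal.mul_mem_left _ b hy)
      rw [pow_two]
      exact add_mem (add_mem (Ideal.mul_mem_left _ _ (Ideal.mul_mem_mul (hm ▸ hs) (hm ▸ ht)))
        (Ideal.mul_mem_left _ _ (Ideal.mul_mem_mul (hxy _ _) (hm ▸ ht))))
        (Ideal.mul_mem_left _ _ (Ideal.mul_mem_mul (hxy _ _) (hxy _ _)))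
    | add s _ t _ hs ht =>
      obtain ⟨a₀, a₁, a₂, a₃, W, hW, e⟩ := hs
      obtain ⟨b₀, b₁, b₂, b₃, V, hV, e'⟩ := ht
      exact ⟨a₀ + b₀, a₁ + b₁, a₂ + b₂, a₃ + b₃, W + V, add_mem hW hV, by rw [mul_add, e, e']; ring⟩
  | add s _ t _ hs ht =>
    obtain ⟨a₀, a₁, a₂, a₃, W, hW, e⟩ := hs
    obtain ⟨b₀, b₁, b₂, b₃, V, hV, e'⟩ := ht
    exact ⟨a₀ + b₀, a₁ + b₁, a₂ + b₂, a₃ + b₃, W + V, add_mem hW hV, by rw [e, e']; ring⟩

theorem Chart.sq_start {c : A} (C : Chart φ x y z T Z) (hc : c ∉ maximalIdeal A)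
    (hsq : c * z ^ 2 ∈ maximalIdeal A ^ 3) : StN A₁ ∨ ∃ f : A₁, StD f ∨ StT f := by
  obtain ⟨g₀, g₁, g₂, g₃, W, hW, e⟩ := exists_cubic C.span (neg_mem hsq)
  rcases C.sq_rational (g₀ := g₀) (g₁ := g₁) (g₂ := g₂) (g₃ := g₃) hc hW (zero_mem _) (by linear_combination -e) with hN | ⟨t, ht⟩
  · exact Or.inl hN
  have h' : c * (z - 0 * x) ^ 2 + (g₀ + g₁ * t + g₂ * t ^ 2 + g₃ * t ^ 3) * x ^ 3 +
      (g₁ + 2 * g₂ * t + 3 * g₃ * t ^ 2) * (x ^ 2 * (y - t * x)) + (g₂ + 3 * g₃ * t) * (x * (y - t * x) ^ 2) +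
      g₃ * (y - t * x) ^ 3 + (z - 0 * x) * W + 0 = 0 := by linear_combination -e
  obtain ⟨-, h1, h2, h3⟩ := (C.shift t 0).sq_origin hc hW (zero_mem _) h' ht
  by_cases hg1 : g₁ + 2 * g₂ * t + 3 * g₃ * t ^ 2 ∈ maximalIdeal A
  · by_cases hg2 : g₂ + 3 * g₃ * t ∈ maximalIdeal A
    · exact Or.inr ⟨_, Or.inr (h3 hg1 hg2).2⟩
    · exact Or.inr ⟨_, Or.inl (h2 hg1 hg2)⟩
  · exact Or.inl (h1 hg1)

theorem step_square {c : A} (hm : maximalIdeal A = Ideal.span {x, y, z}) (hc : c ∉ maximalIdeal A)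
    (hsq : c * z ^ 2 ∈ maximalIdeal A ^ 3) (h : Child φ) : StN A₁ ∨ ∃ f : A₁, StD f ∨ StT f := by
  rcases h.exists_chart hm with ⟨T, Z, C⟩ | ⟨T, Z, C⟩ | ⟨T, Z, C⟩
  · exact C.sq_start hc hsq
  · exact C.sq_start hc hsq
  · exact (C.not_third hc (neg_mem hsq) (add_neg_cancel _)).elim

theorem step_start {xx xy xz yy yz zz : A} (hm : maximalIdeal A = Ideal.span {x, y, z})
    (hQ : xx * x ^ 2 + xy * (x * y) + xz * (x * z) + yy * y ^ 2 + yz * (y * z) + zz * z ^ 2 ∈ maximalIdeal A ^ 3)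
    (hne : ¬ (xx ∈ maximalIdeal A ∧ xy ∈ maximalIdeal A ∧ xz ∈ maximalIdeal A ∧ yy ∈ maximalIdeal A ∧
      yz ∈ maximalIdeal A ∧ zz ∈ maximalIdeal A)) (h : Child φ) : StN A₁ ∨ ∃ f : A₁, StD f ∨ StT f := by
  by_cases hs : Sq3 (residue A xx) (residue A xy) (residue A xz) (residue A yy) (residue A yz) (residue A zz)
  swap
  · exact Or.inl (step_N' ⟨x, y, z, xx, xy, xz, yy, yz, zz, hm, hs, hQ⟩ h)
  obtain ⟨f, p, r, s, h1, h2, h3, h4, h5, h6⟩ := hs
  obtain ⟨f, rfl⟩ := residue_surjective f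
  obtain ⟨p, rfl⟩ := residue_surjective p
  obtain ⟨r, rfl⟩ := residue_surjective r
  obtain ⟨s, rfl⟩ := residue_surjective s
  have hf : f ∉ maximalIdeal A := fun hf => by
    rw [← residue_eq_zero_iff] at hf
    simp only [hf, zero_mul, mul_zero, residue_eq_zero_iff] at h1 h2 h3 h4 h5 h6
    exact hne ⟨h1, h2, h3, h4, h5, h6⟩
  have hmem : ∀ {a b : A}, residue A a = residue A b → ∀ {u v : A}, u ∈ maximalIdeal A → v ∈ maximalIdeal A →
      (a - b) * (u * v) ∈ maximalIdeal A ^ 3 := fun {a b} hab {u v} hu hv => by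
    rw [← mul_assoc]
    exact mem_pow_three (by rw [← residue_eq_zero_iff, map_sub, hab, sub_self]) hu hv
  have hx : x ∈ maximalIdeal A := hm ▸ Ideal.subset_span (by simp)
  have hy : y ∈ maximalIdeal A := hm ▸ Ideal.subset_span (by simp)
  have hz : z ∈ maximalIdeal A := hm ▸ Ideal.subset_span (by simp)
  have hsq : f * (p * x + r * y + s * z) ^ 2 ∈ maximalIdeal A ^ 3 := by
    have e1 := hmem (b := f * p ^ 2) (by simpa only [map_mul, map_pow] using h1) hx hx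
    have e2 := hmem (b := 2 * f * p * r) (by simpa only [map_mul, map_ofNat] using h2) hx hy
    have e3 := hmem (b := 2 * f * p * s) (by simpa only [map_mul, map_ofNat] using h3) hx hz
    have e4 := hmem (b := f * r ^ 2) (by simpa only [map_mul, map_pow] using h4) hy hy
    have e5 := hmem (b := 2 * f * r * s) (by simpa only [map_mul, map_ofNat] using h5) hy hz
    have e6 := hmem (b := f * s ^ 2) (by simpa only [map_mul, map_pow] using h6) hz hz
    convert sub_mem hQ (add_mem (add_mem (add_mem (add_mem (add_mem e1 e2) e3) e4) e5) e6) using 1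
    ring
  have key : ∀ {u v l : A} {k : A}, IsUnit k → maximalIdeal A = Ideal.span {u, v, l} → ∀ i j : A,
      maximalIdeal A = Ideal.span {u, v, i * u + j * v + k * l} := by
    intro u v l k hk hm i j
    obtain ⟨k, rfl⟩ := hk
    refine hm.trans (le_antisymm ?_ ?_) <;> rw [Ideal.span_le]
    · rintro q (rfl | rfl | rfl)
      · exact Ideal.subset_span (by simp)
      · exact Ideal.subset_span (by simp)
      · refine (Ideal.unit_mul_mem_iff_mem _ k.isUnit).1 ?_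
        rw [show (k : A) * q = (i * u + j * v + k * q) - i * u - j * v by ring]
        exact sub_mem (sub_mem (Ideal.subset_span (by simp)) (Ideal.mul_mem_left _ _ (Ideal.subset_span (by simp))))
          (Ideal.mul_mem_left _ _ (Ideal.subset_span (by simp)))
    · rintro q (rfl | rfl | rfl)
      · exact Ideal.subset_span (by simp)
      · exact Ideal.subset_span (by simp)
      · exact add_mem (add_mem (Ideal.mul_mem_left _ _ (Ideal.subset_span (by simp)))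
          (Ideal.mul_mem_left _ _ (Ideal.subset_span (by simp)))) (Ideal.mul_mem_left _ _ (Ideal.subset_span (by simp)))
  by_cases hs' : IsUnit s
  · exact step_square (key hs' hm p r) hf hsq h
  by_cases hr' : IsUnit r
  · exact step_square (key hr' (show maximalIdeal A = Ideal.span {x, z, y} by rw [hm, Set.pair_comm]) p s) hf
      (by convert hsq using 1; ring) h
  by_cases hp' : IsUnit p
  · exact step_square (key hp' (show maximalIdeal A = Ideal.span {y, z, x} by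
      rw [hm, Set.insert_comm, Set.pair_comm x z]) r s) hf (by convert hsq using 1; ring) h
  have ep : residue A p = 0 := (residue_eq_zero_iff _).2 hp'
  have er : residue A r = 0 := (residue_eq_zero_iff _).2 hr'
  have es : residue A s = 0 := (residue_eq_zero_iff _).2 hs'
  rw [ep] at h1 h2 h3
  rw [er] at h4 h5
  rw [es] at h6
  simp only [mul_zero, zero_mul, ne_eq, OfNat.ofNat_ne_zero, not_false_eq_true, zero_pow, residue_eq_zero_iff] at h1 h2 h3 h4 h5 h6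
  exact absurd ⟨h1, h2, h3, h4, h5, h6⟩ hne

end Groth.Agent.RDPChain13
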