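import Groth.Agent.RDPChain13.Square

/-! How the states change along a chain of singular points. -/

set_option autoImplicit false

universe u

open IsLocalRing

namespace Groth.Agent.RDPChain13

variable {A A₁ : Type u} [CommRing A] [IsLocalRing A] [CommRing A₁] [IsLocalRing A₁] [IsDomain A₁]
  [IsNoetherianRing A₁] {φ : A →+* A₁} {x y z : A} {T Z : A₁}

/-- The point stays on the curve transversal to the exceptional divisors. -/
def Str (φ : A →+* A₁) (e : A) : Prop :=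
  (maximalIdeal A).map φ = Ideal.span {φ e} ∧ ∀ u : A₁, ∃ a : A, u - φ a ∈ maximalIdeal A₁

omit [IsNoetherianRing A₁] in
theorem Chart.swap_unit (C : Chart φ x y z T Z) (hT : IsUnit T) : ∃ T' Z', Chart φ y x z T' Z' := by
  obtain ⟨u, rfl⟩ := hT
  refine ⟨(u⁻¹ : A₁ˣ), (u⁻¹ : A₁ˣ) * Z, C.child, by rw [C.span, Set.insert_comm], ?_, ?_, ?_, ?_⟩
  · rw [C.hT]; exact mul_ne_zero C.ne u.ne_zero
  · rw [C.map_eq, C.hT, Ideal.span_singleton_eq_span_singleton]
    exact ⟨u, rfl⟩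
  · rw [C.hT, mul_assoc, u.mul_inv, mul_one]
  · rw [C.hT, C.hZ, mul_assoc, ← mul_assoc (u : A₁), u.mul_inv, one_mul]

omit [IsDomain A₁] [IsNoetherianRing A₁] in
theorem Chart.swap (C : Chart φ x y z T Z) : Chart φ x z y Z T :=
  ⟨C.child, by rw [C.span, Set.pair_comm], C.ne, C.map_eq, C.hZ, C.hT⟩

omit [IsNoetherianRing A₁] in
/-- Either the chart of the first coordinate, or one of the others with the first coordinate vanishing. -/
theorem Child.exists_chart_first (h : Child φ) {e : A} (hm : maximalIdeal A = Ideal.span {e, y, z}) :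
    (∃ T Z, Chart φ e y z T Z) ∨ (∃ T Z, Chart φ y e z T Z ∧ T ∈ maximalIdeal A₁) ∨
      (∃ T Z, Chart φ z e y T Z ∧ T ∈ maximalIdeal A₁) := by
  rcases h.exists_chart hm with hC | ⟨T, Z, C⟩ | ⟨T, Z, C⟩
  · exact Or.inl hC
  · by_cases hT : IsUnit T
    · exact Or.inl (C.swap_unit hT)
    · exact Or.inr (Or.inl ⟨T, Z, C, hT⟩)
  · by_cases hT : IsUnit T
    · obtain ⟨T', Z', C'⟩ := C.swap_unit hT
      exact Or.inl ⟨Z', T', C'.swap⟩
    · exact Or.inr (Or.inr ⟨T, Z, C, hT⟩)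

section Quadric

variable {xx xy xz yy yz zz : A} (C : Chart φ x y z T Z)
  (hQ : xx * x ^ 2 + xy * (x * y) + xz * (x * z) + yy * y ^ 2 + yz * (y * z) + zz * z ^ 2 ∈ maximalIdeal A ^ 3)

include C hQ in
omit [IsNoetherianRing A₁] in
theorem Chart.quad_relation : ∃ w : A₁,
    φ xx + φ xy * T + φ xz * Z + φ yy * T ^ 2 + φ yz * T * Z + φ zz * Z ^ 2 = φ x * w := by
  obtain ⟨w, hw⟩ := C.dvd_pow hQ
  refine ⟨w, mul_left_cancel₀ (pow_ne_zero 2 C.ne) ?_⟩
  simp only [map_add, map_mul, map_pow, C.hT, C.hZ] at hw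
  linear_combination hw

include C hQ in
/-- The quadric at a rational singular point in the origin. -/
theorem Chart.origin_coeffs (hT : T ∈ maximalIdeal A₁) (hZ : Z ∈ maximalIdeal A₁) :
    xx ∈ maximalIdeal A ∧ xy ∈ maximalIdeal A ∧ xz ∈ maximalIdeal A ∧
      ∃ v ∈ maximalIdeal A₁, φ yy * T ^ 2 + φ yz * (T * Z) + φ zz * Z ^ 2 + φ x * v = 0 := by
  obtain ⟨w, hw⟩ := C.quad_relation hQ
  obtain ⟨hm, -⟩ := C.origin hT hZ
  have hxx : xx ∈ maximalIdeal A := mem_of_map_mem (φ := φ) <| by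
    rw [show φ xx = φ x * w - T * (φ xy + φ yy * T + φ yz * Z) - Z * (φ xz + φ zz * Z) by linear_combination hw]
    exact sub_mem (sub_mem (Ideal.mul_mem_right _ _ C.mem) (Ideal.mul_mem_right _ _ hT)) (Ideal.mul_mem_right _ _ hZ)
  obtain ⟨k, hk⟩ := C.dvd hxx
  obtain ⟨h1, h2, h3⟩ := coeff_mem C.child.not_two hm (a := k - w) (b := φ xy + φ yy * T + φ yz * Z)
    (c := φ xz + φ zz * Z) (by
      rw [show (k - w) * φ x + (φ xy + φ yy * T + φ yz * Z) * T + (φ xz + φ zz * Z) * Z = 0 by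
        linear_combination hw - hk]
      exact zero_mem _)
  have hxy : xy ∈ maximalIdeal A := mem_of_map_mem (φ := φ) <| by
    have := sub_mem (sub_mem h2 (Ideal.mul_mem_left _ (φ yy) hT)) (Ideal.mul_mem_left _ (φ yz) hZ)
    convert this using 1
    ring
  have hxz : xz ∈ maximalIdeal A := mem_of_map_mem (φ := φ) <| by
    have := sub_mem h3 (Ideal.mul_mem_left _ (φ zz) hZ)
    convert this using 1
    ring
  obtain ⟨l, hl⟩ := C.dvd hxy
  obtain ⟨n, hn⟩ := C.dvd hxz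
  exact ⟨hxx, hxy, hxz, k - w + l * T + n * Z,
    add_mem (add_mem h1 (Ideal.mul_mem_left _ _ hT)) (Ideal.mul_mem_left _ _ hZ),
    by linear_combination hw - hk - T * hl - Z * hn⟩

include hQ in
omit [CommRing A₁] [IsLocalRing A₁] [IsDomain A₁] [IsNoetherianRing A₁] in
theorem quad_shift (a b : A) :
    (xx + xy * a + xz * b + yy * a ^ 2 + yz * (a * b) + zz * b ^ 2) * x ^ 2 +
      (xy + 2 * yy * a + yz * b) * (x * (y - a * x)) + (xz + yz * a + 2 * zz * b) * (x * (z - b * x)) +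
      yy * (y - a * x) ^ 2 + yz * ((y - a * x) * (z - b * x)) + zz * (z - b * x) ^ 2 ∈ maximalIdeal A ^ 3 := by
  convert hQ using 1
  ring

include C hQ in
theorem Chart.stNS_of_not_sq3
    (hns : ¬ Sq3 (residue A xx) (residue A xy) (residue A xz) (residue A yy) (residue A yz) (residue A zz)) :
    StNS (φ x) ∧ Str φ x := by
  obtain ⟨w, hw⟩ := C.quad_relation hQ
  obtain ⟨a, b, ha, hb⟩ := C.rational hns (hw ▸ Ideal.mul_mem_right _ _ (Ideal.mem_span_singleton_self _))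
  have C' := C.shift a b
  obtain ⟨hm, hres⟩ := C'.origin ha hb
  obtain ⟨h1, h2, h3, v, hv, hrel⟩ := C'.origin_coeffs (quad_shift hQ a b) ha hb
  refine ⟨⟨T - φ a, Z - φ b, φ yy, φ yz, φ zz, v, hm, hv, ?_, hrel⟩, C.map_eq, hres⟩
  rintro ⟨e, r, s, q1, q2, q3⟩
  obtain ⟨e, rfl⟩ := residue_surjective e
  obtain ⟨r, rfl⟩ := residue_surjective r
  obtain ⟨s, rfl⟩ := residue_surjective s
  obtain ⟨e₀, he⟩ := hres e
  obtain ⟨r₀, hr⟩ := hres r
  obtain ⟨s₀, hs⟩ := hres s
  have ev : ∀ {p : A₁} {q : A}, p - φ q ∈ maximalIdeal A₁ → residue A₁ p = residue A₁ (φ q) := fun h =>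
    sub_eq_zero.1 (by rw [← map_sub]; exact (residue_eq_zero_iff _).2 h)
  rw [ev he, ev hr] at q1
  rw [ev he, ev hr, ev hs] at q2
  rw [ev he, ev hs] at q3
  have back : ∀ {p q : A}, residue A₁ (φ p) = residue A₁ (φ q) → residue A p = residue A q := fun {p q} h => by
    refine sub_eq_zero.1 ?_
    rw [← map_sub, residue_eq_zero_iff]
    refine mem_of_map_mem (φ := φ) ?_
    rw [← residue_eq_zero_iff, map_sub, map_sub, h, sub_self]
  have p1 := back (p := yy) (q := e₀ * r₀ ^ 2) (by simpa only [map_mul, map_pow] using q1)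
  have p2 := back (p := yz) (q := 2 * e₀ * r₀ * s₀) (by simpa only [map_mul, map_ofNat] using q2)
  have p3 := back (p := zz) (q := e₀ * s₀ ^ 2) (by simpa only [map_mul, map_pow] using q3)
  rw [← residue_eq_zero_iff] at h1 h2 h3
  simp only [map_add, map_mul, map_pow, map_ofNat] at h1 h2 h3 p1 p2 p3
  refine hns ⟨residue A e₀, -(residue A r₀ * residue A a) - residue A s₀ * residue A b, residue A r₀, residue A s₀,
    ?_, ?_, ?_, p1, p2, p3⟩
  · linear_combination h1 - residue A a * h2 - residue A b * h3 + residue A a ^ 2 * p1 +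
      residue A a * residue A b * p2 + residue A b ^ 2 * p3
  · linear_combination h2 - 2 * residue A a * p1 - residue A b * p2
  · linear_combination h3 - residue A a * p2 - 2 * residue A b * p3

end Quadric

theorem StNS.stN {e : A} (h : StNS e) : StN A := by
  obtain ⟨y, z, a, b, c, v, hm, hv, hns, hrel⟩ := h
  rw [hm] at hv
  obtain ⟨v₁, w, hw, rfl⟩ := Ideal.mem_span_insert.1 hv
  obtain ⟨v₂, v₃, rfl⟩ := Ideal.mem_span_pair.1 hw
  refine ⟨e, y, z, v₁, v₂, v₃, a, b, c, hm, fun ⟨f, p, r, s, _, _, _, h4, h5, h6⟩ => hns ⟨f, r, s, h4, h5, h6⟩, ?_⟩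
  convert (maximalIdeal A ^ 3).zero_mem using 1
  linear_combination hrel

theorem step_N (hA : StN A) (h : Child φ) : ∃ e : A, StNS (φ e) ∧ Str φ e := by
  obtain ⟨x, y, z, xx, xy, xz, yy, yz, zz, hm, hns, hQ⟩ := hA
  rcases h.exists_chart hm with ⟨T, Z, C⟩ | ⟨T, Z, C⟩ | ⟨T, Z, C⟩
  · exact ⟨x, C.stNS_of_not_sq3 hQ hns⟩
  · refine ⟨y, C.stNS_of_not_sq3 (xx := yy) (xy := xy) (xz := yz) (yy := xx) (yz := xz) (zz := zz)
      (by convert hQ using 1; ring) ?_⟩
    rintro ⟨e, p, r, s, h1, h2, h3, h4, h5, h6⟩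
    exact hns ⟨e, r, p, s, h4, h2.trans (by ring), h5, h1, h3, h6⟩
  · refine ⟨z, C.stNS_of_not_sq3 (xx := zz) (xy := xz) (xz := yz) (yy := xx) (yz := xy) (zz := yy)
      (by convert hQ using 1; ring) ?_⟩
    rintro ⟨e, p, r, s, h1, h2, h3, h4, h5, h6⟩
    exact hns ⟨e, r, s, p, h4, h5, h2.trans (by ring), h6, h3.trans (by ring), h1⟩

theorem step_NS {e : A} (hA : StNS e) (h : Child φ) : Str φ e ∧ StNS (φ e) := by
  have hN := hA.stN
  obtain ⟨y, z, a, b, c, v, hm, hv, hns, hrel⟩ := hA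
  obtain ⟨v₁, w, hw, rfl⟩ := Ideal.mem_span_insert.1 (hm ▸ hv)
  obtain ⟨v₂, v₃, rfl⟩ := Ideal.mem_span_pair.1 hw
  have hQ : v₁ * e ^ 2 + v₂ * (e * y) + v₃ * (e * z) + a * y ^ 2 + b * (y * z) + c * z ^ 2 ∈ maximalIdeal A ^ 3 := by
    convert (maximalIdeal A ^ 3).zero_mem using 1
    linear_combination hrel
  have hns3 : ¬ Sq3 (residue A v₁) (residue A v₂) (residue A v₃) (residue A a) (residue A b) (residue A c) :=
    fun ⟨f, p, r, s, _, _, _, h4, h5, h6⟩ => hns ⟨f, r, s, h4, h5, h6⟩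
  rcases h.exists_chart_first hm with ⟨T, Z, C⟩ | ⟨T, Z, C, hT⟩ | ⟨T, Z, C, hT⟩
  · exact (C.stNS_of_not_sq3 hQ hns3).symm
  · exfalso
    have hQ' : a * y ^ 2 + v₂ * (y * e) + b * (y * z) + v₁ * e ^ 2 + v₃ * (e * z) + c * z ^ 2 ∈ maximalIdeal A ^ 3 := by
      convert hQ using 1; ring
    obtain ⟨w, hw⟩ := C.quad_relation hQ'
    obtain ⟨-, β, -, hβ⟩ := C.rational (xx := a) (xy := v₂) (xz := b) (yy := v₁) (yz := v₃) (zz := c) (by
      rintro ⟨f, p, r, s, h1, h2, h3, h4, h5, h6⟩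
      exact hns ⟨f, p, s, h1, h3, h6⟩) (hw ▸ Ideal.mul_mem_right _ _ (Ideal.mem_span_singleton_self _))
    obtain ⟨h1, -, h3, -⟩ := (C.shift 0 β).origin_coeffs (quad_shift hQ' 0 β) (by simpa using hT) hβ
    rw [← residue_eq_zero_iff] at h1 h3
    simp only [map_add, map_mul, map_pow, map_zero, map_ofNat] at h1 h3
    exact hns ⟨residue A c, -residue A β, 1, by linear_combination h1 - residue A β * h3, by linear_combination h3,
      by ring⟩
  · exfalso
    have hQ' : c * z ^ 2 + v₃ * (z * e) + b * (z * y) + v₁ * e ^ 2 + v₂ * (e * y) + a * y ^ 2 ∈ maximalIdeal A ^ 3 := by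
      convert hQ using 1; ring
    obtain ⟨w, hw⟩ := C.quad_relation hQ'
    obtain ⟨-, β, -, hβ⟩ := C.rational (xx := c) (xy := v₃) (xz := b) (yy := v₁) (yz := v₂) (zz := a) (by
      rintro ⟨f, p, r, s, h1, h2, h3, h4, h5, h6⟩
      exact hns ⟨f, s, p, h6, h3.trans (by ring), h1⟩) (hw ▸ Ideal.mul_mem_right _ _ (Ideal.mem_span_singleton_self _))
    obtain ⟨h1, -, h3, -⟩ := (C.shift 0 β).origin_coeffs (quad_shift hQ' 0 β) (by simpa using hT) hβ
    rw [← residue_eq_zero_iff] at h1 h3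
    simp only [map_add, map_mul, map_pow, map_zero, map_ofNat] at h1 h3
    exact hns ⟨residue A a, 1, -residue A β, by ring, by linear_combination h3,
      by linear_combination h1 - residue A β * h3⟩

omit [IsDomain A₁] [IsNoetherianRing A₁] in
theorem square_or_N {e c v w r : A} (hm : maximalIdeal A = Ideal.span {e, y, z}) (hc : c ∉ maximalIdeal A)
    (hr : r ∈ maximalIdeal A ^ 3) (h : c * z ^ 2 + v * (e * z) + w * e ^ 2 + r = 0) :
    StN A ∨ ∃ z' n₁ n₂ : A, maximalIdeal A = Ideal.span {e, y, z'} ∧ n₁ ∈ maximalIdeal A ∧ n₂ ∈ maximalIdeal A ∧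
      c * z ^ 2 + v * (e * z) + w * e ^ 2 = c * z' ^ 2 + n₂ * (e * z') + n₁ * e ^ 2 := by
  by_cases hs : Sq3 (residue A w) (residue A (0 : A)) (residue A v) (residue A (0 : A)) (residue A (0 : A)) (residue A c)
  swap
  · refine Or.inl ⟨e, y, z, w, 0, v, 0, 0, c, hm, hs, ?_⟩
    convert neg_mem hr using 1
    linear_combination h
  obtain ⟨f, p, ρ, σ, h1, -, h3, -, -, h6⟩ := hs
  have hσ : σ ≠ 0 := fun hσ => hc ((residue_eq_zero_iff c).1 (by rw [h6, hσ]; ring))
  obtain ⟨s, hs'⟩ := residue_surjective (p / σ)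
  have hp : p = residue A s * σ := by rw [hs', div_mul_cancel₀ _ hσ]
  subst hp
  refine Or.inr ⟨z + s * e, w - v * s + c * s ^ 2, v - 2 * c * s, hm.trans (le_antisymm ?_ ?_), ?_, ?_, by ring⟩
  · rw [Ideal.span_le]
    rintro q (rfl | rfl | rfl)
    · exact Ideal.subset_span (by simp)
    · exact Ideal.subset_span (by simp)
    · exact (add_sub_cancel_right q (s * e)).subst (motive := fun o => o ∈ Ideal.span {e, y, q + s * e})
        (sub_mem (Ideal.subset_span (by simp)) (Ideal.mul_mem_left _ _ (Ideal.subset_span (by simp))))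
  · rw [Ideal.span_le]
    rintro q (rfl | rfl | rfl)
    · exact Ideal.subset_span (by simp)
    · exact Ideal.subset_span (by simp)
    · exact add_mem (Ideal.subset_span (by simp)) (Ideal.mul_mem_left _ _ (Ideal.subset_span (by simp)))
  · rw [← residue_eq_zero_iff]
    simp only [map_add, map_sub, map_mul, map_pow]
    rw [h1, h3, h6]
    ring
  · rw [← residue_eq_zero_iff]
    simp only [map_sub, map_mul, map_ofNat]
    rw [h3, h6]
    ring

end Groth.Agent.RDPChain13
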